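import Cfsg.Agent.Lib.J3T.Cnt

/-! Rational classes and their numerical data. -/

set_option autoImplicit false
open Finset Classical

namespace Cfsg.Agent.KC
open J3T
noncomputable section
variable {G : Type*} [Group G]

/-- `y` is conjugate to a generator of `⟨x⟩` -/
def RC (x y : G) : Prop := ∃ j : ℕ, j.Coprime (orderOf x) ∧ IsConj (x ^ j) y

/-- order of the centralizer -/
def cc (x : G) : ℕ := Nat.card (Subgroup.centralizer ({x} : Set G))

/-- order of the normalizer of the cyclic subgroup -/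
def nn (x : G) : ℕ := Nat.card (Subgroup.normalizer (Subgroup.zpowers x : Set G))

/-- order of the automizer of the cyclic subgroup -/
def ee (x : G) : ℕ := nn x / cc x

/-- number of classes in the rational class -/
def ns (x : G) : ℕ := Nat.totient (orderOf x) / ee x

/-- the datum (order, number of classes, centralizer order) -/
def dat (x : G) : ℕ × ℕ × ℕ := (orderOf x, ns x, cc x)

theorem RC.refl (x : G) : RC x x := ⟨1, by simp, by rw [pow_one]⟩

theorem RC.of_isConj {x y : G} (h : IsConj x y) : RC x y := ⟨1, by simp, by simpa using h⟩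

theorem orderOf_isConj {x y : G} (h : IsConj x y) : orderOf x = orderOf y := by
  obtain ⟨g, rfl⟩ := isConj_iff.1 h
  exact ((MulAut.conj g).orderOf_eq x).symm

theorem RC.orderOf_eq {x y : G} (h : RC x y) : orderOf x = orderOf y := by
  obtain ⟨j, hj, h⟩ := h
  rw [← orderOf_isConj h, hj.symm.orderOf_pow]

theorem RC.trans {x y z : G} (h1 : RC x y) (h2 : RC y z) : RC x z := by
  have e := h1.orderOf_eq
  obtain ⟨i, hi, h1⟩ := h1
  obtain ⟨j, hj, h2⟩ := h2
  refine ⟨i * j, Nat.Coprime.mul_left hi (e ▸ hj), ?_⟩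
  rw [pow_mul]; exact (h1.pow j).trans h2

theorem RC.symm [Finite G] {x y : G} (h : RC x y) : RC y x := by
  have e := h.orderOf_eq
  obtain ⟨i, hi, h1⟩ := h
  refine ⟨i ^ (Nat.totient (orderOf x) - 1), e ▸ Nat.Coprime.pow_left _ hi, ?_⟩
  refine (h1.symm.pow _).trans ?_
  rw [← pow_mul, ← pow_succ', Nat.sub_add_cancel (Nat.totient_pos.2 (orderOf_pos x))]
  have := Nat.ModEq.pow_totient hi
  rw [(pow_eq_pow_iff_modEq.2 this : x ^ _ = x ^ 1), pow_one]

theorem zpowers_pow_coprime [Finite G] {x : G} {j : ℕ} (hj : j.Coprime (orderOf x)) :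
    Subgroup.zpowers (x ^ j) = Subgroup.zpowers x := by
  refine Subgroup.eq_of_le_of_card_ge (Subgroup.zpowers_le.2 (Subgroup.npow_mem_zpowers x j)) ?_
  rw [Nat.card_zpowers, Nat.card_zpowers, hj.symm.orderOf_pow]

theorem cent_le_of_mem {x y : G} (h : y ∈ Subgroup.zpowers x) : Cz x ≤ Cz y := by
  intro g hg
  obtain ⟨k, rfl⟩ := h
  rw [Subgroup.mem_centralizer_iff] at hg ⊢
  intro a ha
  rw [Set.mem_singleton_iff] at ha
  subst ha
  exact (Commute.zpow_left (hg x rfl) k).eq

theorem cc_dvd_of_mem {x y : G} (h : y ∈ Subgroup.zpowers x) : cc x ∣ cc y :=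
  Subgroup.card_dvd_of_le (cent_le_of_mem h)

theorem cc_dvd_pow (x : G) (j : ℕ) : cc x ∣ cc (x ^ j) := cc_dvd_of_mem (Subgroup.npow_mem_zpowers x j)

theorem cc_dvd (x : G) : cc x ∣ Nat.card G := Subgroup.card_subgroup_dvd_card _

theorem cc_pos [Finite G] (x : G) : 0 < cc x := Nat.card_pos

theorem cent_le_norm (x : G) : Cz x ≤ Subgroup.normalizer (Subgroup.zpowers x : Set G) := by
  intro g hg
  refine Subgroup.centralizer_le_normalizer _ ?_
  rw [Subgroup.mem_centralizer_iff] at hg ⊢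
  rintro a ⟨k, rfl⟩
  exact (Commute.zpow_left (hg x rfl) k).eq

theorem ee_mul (x : G) : ee x * cc x = nn x :=
  Nat.div_mul_cancel (Subgroup.card_dvd_of_le (cent_le_norm x))

theorem nn_dvd (x : G) : nn x ∣ Nat.card G := Subgroup.card_subgroup_dvd_card _

theorem orderOf_dvd_cc (x : G) : orderOf x ∣ cc x := by
  rw [← Nat.card_zpowers]
  exact Subgroup.card_dvd_of_le (Subgroup.zpowers_le.2 (by simp [Subgroup.mem_centralizer_iff]))

theorem cc_isConj {x y : G} (h : IsConj x y) : cc x = cc y := by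
  obtain ⟨g, rfl⟩ := isConj_iff.1 h
  refine Nat.card_congr ⟨fun a => ⟨g * a * g⁻¹, ?_⟩, fun a => ⟨g⁻¹ * a * g, ?_⟩, fun a => ?_, fun a => ?_⟩
  · have := a.2
    simp only [Subgroup.mem_centralizer_iff, Set.mem_singleton_iff, forall_eq] at this ⊢
    calc _ = g * (x * a) * g⁻¹ := by group
      _ = _ := by rw [this]; group
  · have := a.2
    simp only [Subgroup.mem_centralizer_iff, Set.mem_singleton_iff, forall_eq] at this ⊢
    calc _ = g⁻¹ * (g * x * g⁻¹ * a) * g := by group
      _ = _ := by rw [this]; group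
  · ext; simp [mul_assoc]
  · ext; simp [mul_assoc]

theorem mem_norm_iff [Finite G] {x g : G} :
    g ∈ Subgroup.normalizer (Subgroup.zpowers x : Set G) ↔ g * x * g⁻¹ ∈ Subgroup.zpowers x := by
  refine ⟨fun h => (Subgroup.mem_normalizer_iff.1 h x).1 (Subgroup.mem_zpowers x), fun h => ?_⟩
  refine Subgroup.mem_normalizer_fintype ?_
  rintro a ⟨k, rfl⟩
  have : g * x ^ k * g⁻¹ = (g * x * g⁻¹) ^ k := by rw [conj_zpow]
  simp only [this]
  exact Subgroup.zpow_mem _ h k

theorem nn_isConj [Finite G] {x y : G} (h : IsConj x y) : nn x = nn y := by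
  obtain ⟨g, rfl⟩ := isConj_iff.1 h
  have := Fintype.ofFinite G
  refine sub_card_conj g fun a => ?_
  rw [mem_norm_iff, mem_norm_iff, ← conj_mem_zpowers_iff g]
  congr! 1; group

theorem RC.cc_eq [Finite G] {x y : G} (h : RC x y) : cc x = cc y := by
  obtain ⟨j, hj, h⟩ := h
  rw [← cc_isConj h]
  refine Nat.dvd_antisymm (cc_dvd_pow x j) (cc_dvd_of_mem ?_)
  rw [zpowers_pow_coprime hj]; exact Subgroup.mem_zpowers x

theorem RC.nn_eq [Finite G] {x y : G} (h : RC x y) : nn x = nn y := by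
  obtain ⟨j, hj, h⟩ := h
  rw [← nn_isConj h, nn, nn, zpowers_pow_coprime hj]

theorem RC.dat_eq [Finite G] {x y : G} (h : RC x y) : dat x = dat y := by
  simp only [dat, ns, ee, h.orderOf_eq, h.cc_eq, h.nn_eq]

/-- the automizer embeds in the automorphism group of the cyclic group -/
theorem exists_hom [Finite G] (x : G) :
    ∃ f : Subgroup.normalizer (Subgroup.zpowers x : Set G) →* (ZMod (orderOf x))ˣ,
      (∀ g : Subgroup.normalizer (Subgroup.zpowers x : Set G),
        (g : G) * x * (g : G)⁻¹ = x ^ ((f g : ZMod (orderOf x)).val)) ∧ Nat.card f.range = ee x ∧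
        ∀ g, f g = 1 ↔ (g : G) ∈ Cz x := by
  have := Fintype.ofFinite G
  have ho := orderOf_pos x
  haveI : NeZero (orderOf x) := ⟨ho.ne'⟩
  have h1 : ∀ g : Subgroup.normalizer (Subgroup.zpowers x : Set G), ∃ u : (ZMod (orderOf x))ˣ,
      (g : G) * x * (g : G)⁻¹ = x ^ ((u : ZMod (orderOf x)).val) := by
    intro g
    obtain ⟨k, hk, e⟩ := exists_pow_of_mem_zpowers (mem_norm_iff.1 g.2)
    have hc : k.Coprime (orderOf x) := by
      have h2 : orderOf (x ^ k) = orderOf x := by rw [e, orderOf_conj']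
      rw [orderOf_pow x] at h2
      have := Nat.div_mul_cancel (Nat.gcd_dvd_left (orderOf x) k)
      rw [h2] at this
      exact Nat.Coprime.symm (Nat.eq_of_mul_eq_mul_left ho (this.trans (mul_one _).symm))
    exact ⟨ZMod.unitOfCoprime k hc, by rw [ZMod.coe_unitOfCoprime, ZMod.val_cast_of_lt hk, e]⟩
  choose u hu using h1
  have inj : ∀ a b : (ZMod (orderOf x))ˣ,
      x ^ ((a : ZMod (orderOf x)).val) = x ^ ((b : ZMod (orderOf x)).val) → a = b := by
    intro a b e
    ext
    exact ZMod.val_injective _ (pow_injOn_Iio_orderOf (ZMod.val_lt _) (ZMod.val_lt _) e)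
  have hm : ∀ a b, u (a * b) = u a * u b := by
    intro a b
    refine inj _ _ ?_
    rw [← hu, Units.val_mul, ZMod.val_mul, pow_mod_orderOf, pow_mul, ← hu, conj_pow, ← hu, Subgroup.coe_mul]
    group
  have hk : ∀ g, u g = 1 ↔ (g : G) ∈ Cz x := by
    intro g
    rw [mem_Cz', hu]
    have h1 : x ^ (((1 : (ZMod (orderOf x))ˣ) : ZMod (orderOf x)).val) = x := by
      rw [Units.val_one, ZMod.val_one_eq_one_mod, pow_mod_orderOf, pow_one]
    exact ⟨fun e => by rw [e, h1], fun e => inj _ _ (by rw [e, h1])⟩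
  refine ⟨MonoidHom.mk' u hm, hu, ?_, hk⟩
  have e1 : (MonoidHom.mk' u hm).ker = (Cz x).subgroupOf _ := by
    ext g; rw [MonoidHom.mem_ker, Subgroup.mem_subgroupOf]; exact hk g
  have e2 := Subgroup.card_mul_index (MonoidHom.mk' u hm).ker
  rw [Subgroup.index_ker, e1, Nat.card_congr (Subgroup.subgroupOfEquivOfLe (cent_le_norm x)).toEquiv] at e2
  have e3 := ee_mul x
  refine Nat.eq_of_mul_eq_mul_left (cc_pos x) ?_
  rw [mul_comm _ (ee x), e3]; exact e2

theorem ee_dvd [Finite G] (x : G) : ee x ∣ Nat.totient (orderOf x) := by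
  obtain ⟨f, -, h, -⟩ := exists_hom x
  haveI : NeZero (orderOf x) := ⟨(orderOf_pos x).ne'⟩
  rw [← h, ← ZMod.card_units_eq_totient, ← Nat.card_eq_fintype_card]
  exact Subgroup.card_subgroup_dvd_card _

theorem ns_mul [Finite G] (x : G) : ns x * ee x = Nat.totient (orderOf x) := Nat.div_mul_cancel (ee_dvd x)

theorem ns_pos [Finite G] (x : G) : 0 < ns x :=
  Nat.pos_of_mul_pos_right (ns_mul x ▸ Nat.totient_pos.2 (orderOf_pos x))

theorem ee_pos [Finite G] (x : G) : 0 < ee x :=
  Nat.pos_of_mul_pos_left (ns_mul x ▸ Nat.totient_pos.2 (orderOf_pos x))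

/-- the rational class -/
def rc [Fintype G] (x : G) : Finset G := univ.filter (RC x)

theorem mem_rc [Fintype G] {x y : G} : y ∈ rc x ↔ RC x y := by simp [rc]

theorem card_rc [Fintype G] (x : G) : (rc x).card * cc x = ns x * Nat.card G := by
  have h1 := ti_card ⊤ (Subgroup.normalizer (Subgroup.zpowers x : Set G)) le_top
    (((range (orderOf x)).filter fun j => (orderOf x).Coprime j).image (x ^ ·)) (by
      intro g hg h _
      obtain ⟨j, hj, rfl⟩ := mem_image.1 hg
      have hc := (mem_filter.1 hj).2.symm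
      rw [← zpowers_pow_coprime hc, mem_norm_iff, zpowers_pow_coprime hc]
      constructor
      · intro h2
        obtain ⟨i, -, e⟩ := mem_image.1 h2
        exact e ▸ Subgroup.npow_mem_zpowers x i
      · intro h2
        obtain ⟨k, hk, e⟩ := exists_pow_of_mem_zpowers h2
        refine mem_image.2 ⟨k, mem_filter.2 ⟨mem_range.2 hk, ?_⟩, e⟩
        have h2 : orderOf (x ^ k) = orderOf x := by rw [e, orderOf_conj', hc.symm.orderOf_pow]
        rw [orderOf_pow x] at h2
        have := Nat.div_mul_cancel (Nat.gcd_dvd_left (orderOf x) k)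
        rw [h2] at this
        exact Nat.eq_of_mul_eq_mul_left (orderOf_pos x) (this.trans (mul_one _).symm))
  rw [card_image_of_injOn (fun a ha b hb e => pow_injOn_Iio_orderOf
    (mem_range.1 (mem_filter.1 ha).1) (mem_range.1 (mem_filter.1 hb).1) e), ← Nat.totient_eq_card_coprime,
    Subgroup.card_top] at h1
  have h2 : cls ⊤ (((range (orderOf x)).filter fun j => (orderOf x).Coprime j).image (x ^ ·)) = rc x := by
    ext y
    rw [mem_cls, mem_rc]
    constructor
    · rintro ⟨g, hg, h, -, rfl⟩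
      obtain ⟨j, hj, rfl⟩ := mem_image.1 hg
      exact ⟨j, (mem_filter.1 hj).2.symm, isConj_iff.2 ⟨h, rfl⟩⟩
    · rintro ⟨j, hj, h⟩
      obtain ⟨g, rfl⟩ := isConj_iff.1 h
      refine ⟨x ^ j, mem_image.2 ⟨j % orderOf x, mem_filter.2 ⟨mem_range.2 (Nat.mod_lt _ (orderOf_pos x)), ?_⟩,
        pow_mod_orderOf x j⟩, g, trivial, rfl⟩
      rw [Nat.Coprime, Nat.gcd_comm, ← Nat.gcd_rec]; exact hj.symm
  rw [h2, ← ns_mul] at h1
  have h3 := ee_mul x
  refine Nat.eq_of_mul_eq_mul_right (ee_pos x) ?_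
  calc _ = (rc x).card * nn x := by rw [← h3]; ring
    _ = _ := by rw [nn, h1]; ring

end
end Cfsg.Agent.KC
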