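import Cfsg.Agent.Lib.KC.Asm
import Cfsg.Agent.S2497
import Cfsg.Agent.Lib.GLn.Spec2
import Cfsg.Agent.Lib.GLn.ClassBounds
import Cfsg.Agent.Lib.Suz.Iso
import Cfsg.Agent.Lib.Suz.Struct

/-! The simple groups all of whose elements have prime power order, with their orders. -/

set_option autoImplicit false

namespace Cfsg.Agent.KC

theorem card_psl (F : Type) [Field F] [Fintype F] (n : ℕ) :
    Nat.card (Matrix.ProjectiveSpecialLinearGroup (Fin (n + 1)) F) * Nat.gcd (n + 1) (Fintype.card F - 1) =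
      Fintype.card F ^ ((n + 1).choose 2) * ∏ i ∈ Finset.range n, (Fintype.card F ^ (i + 2) - 1) := by
  have h1 := Subgroup.card_eq_card_quotient_mul_card_subgroup
    (Subgroup.center (Matrix.SpecialLinearGroup (Fin (n + 1)) F))
  rw [GLn.card_SL_eq, GLn.card_center_SL, Fintype.card_fin, Nat.card_eq_fintype_card (α := F)] at h1
  exact h1.symm

theorem card_sz (F : Type) [Field F] [Fintype F] {m : ℕ} (hm : 1 ≤ m) (hF : Fintype.card F = 2 ^ (2 * m + 1)) :
    Nat.card (Cfsg.Lie.Sz F (2 ^ (m + 1))) =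
      (2 ^ (2 * m + 1)) ^ 2 * (2 ^ (2 * m + 1) - 1) * ((2 ^ (2 * m + 1)) ^ 2 + 1) := by
  have := Suz.SuzF.of_card hm hF
  rw [← Nat.card_congr (Suz.lieEquiv F).toEquiv, Suz.card_G]

theorem eppo {G : Type*} [Group G] [Finite G] [IsSimpleGroup G] (hG : ¬ IsMulCommutative G)
    (h : ∀ g : G, g ≠ 1 → IsPrimePow (orderOf g)) :
    Nat.card G ∈ [360, 60, 168, 2448, 32537600] ∨
    (Nat.card G = 504 ∧ ∃ (F : Type) (_ : Field F) (_ : Fintype F), Fintype.card F = 8 ∧
      Nonempty (G ≃* Matrix.ProjectiveSpecialLinearGroup (Fin 2) F)) ∨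
    (Nat.card G = 20160 ∧ ∃ (F : Type) (_ : Field F) (_ : Fintype F), Fintype.card F = 4 ∧
      Nonempty (G ≃* Matrix.ProjectiveSpecialLinearGroup (Fin 3) F)) ∨
    (Nat.card G = 29120 ∧ ∃ (F : Type) (_ : Field F) (_ : Fintype F), Fintype.card F = 8 ∧
      Nonempty (G ≃* ↥(Cfsg.Lie.Sz F 4))) := by
  rcases S2497.result hG h with ⟨⟨e⟩⟩ | ⟨F, _, _, h1, ⟨e⟩⟩ | ⟨F, _, _, h1, ⟨e⟩⟩ | ⟨F, _, _, ⟨h1, ⟨e⟩⟩ | ⟨h1, ⟨e⟩⟩⟩
  · left
    have := two_mul_nat_card_alternatingGroup (α := Fin 6)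
    rw [Nat.card_perm, Nat.card_eq_fintype_card (α := Fin 6), Fintype.card_fin, ← Nat.card_congr e.toEquiv] at this
    have h2 : Nat.card G = 360 := by simp only [Nat.factorial] at this; omega
    simp [h2]
  · have h2 := card_psl F 1
    rw [← Nat.card_congr e.toEquiv] at h2
    simp only [Finset.mem_insert, Finset.mem_singleton] at h1
    rcases h1 with h1 | h1 | h1 | h1 <;> rw [h1] at h2 <;> norm_num at h2
    · simp [h2]
    · have : Nat.card G = 168 := by omega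
      simp [this]
    · exact Or.inr (Or.inl ⟨h2, F, _, _, h1, ⟨e⟩⟩)
    · have : Nat.card G = 2448 := by omega
      simp [this]
  · have h2 := card_psl F 2
    rw [← Nat.card_congr e.toEquiv, h1] at h2
    norm_num [Finset.prod_range_succ] at h2
    exact Or.inr (Or.inr (Or.inl ⟨by omega, F, _, _, h1, ⟨e⟩⟩))
  · have h2 : Nat.card (Cfsg.Lie.Sz F 4) = _ := card_sz F (m := 1) le_rfl h1
    rw [← Nat.card_congr e.toEquiv] at h2
    exact Or.inr (Or.inr (Or.inr ⟨h2, F, _, _, h1, ⟨e⟩⟩))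
  · have h2 : Nat.card (Cfsg.Lie.Sz F 8) = _ := card_sz F (m := 2) one_le_two h1
    rw [← Nat.card_congr e.toEquiv] at h2
    norm_num at h2
    simp [h2]

/-- the orders -/
theorem eppo_card {G : Type*} [Group G] [Finite G] [IsSimpleGroup G] (hG : ¬ IsMulCommutative G)
    (h : ∀ g : G, g ≠ 1 → IsPrimePow (orderOf g)) :
    Nat.card G ∈ [360, 60, 168, 2448, 32537600, 504, 20160, 29120] := by
  rcases eppo hG h with h | ⟨h, -⟩ | ⟨h, -⟩ | ⟨h, -⟩
  · exact List.mem_append_left [504, 20160, 29120] h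
  all_goals simp [h]

theorem Reps.eppo_kill {G : Type*} [Group G] [Finite G] [IsSimpleGroup G] (hG : ¬ IsMulCommutative G)
    {xs : List G} (h : Reps xs) {g : ℕ} {L : List En} (hg : Nat.card G = g) (e : xs.map dat = L)
    (hp : ∀ x ∈ L, x.1 ∈ pps) : g ∈ [360, 60, 168, 2448, 32537600, 504, 20160, 29120] :=
  hg ▸ eppo_card hG (h.eppo e hp)

end Cfsg.Agent.KC
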