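import Cfsg.Agent.Lib.KC.K1
import Cfsg.Agent.Lib.KC.C11
import Cfsg.Agent.Lib.KC.Eppo
import Cfsg.Agent.Lib.Rec.L213
import Cfsg.Agent.Lib.KCG.G
import Cfsg.Agent.Lib.KCG.H

/-! The leaves for eleven classes. -/

set_option autoImplicit false
set_option synthInstance.maxSize 4000
set_option synthInstance.maxHeartbeats 400000

namespace Cfsg.Agent.KC

/-- the leaves that can be handled -/
def Res11 (g : ℕ) (L : List En) : Prop := K0 g L → K1 g L → ((5, 2, 5) ∈ L ∨ (7, 3, 7) ∈ L → one2 L) →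
    ((∀ x ∈ L, x.1 ∈ pps) ∧ g ∉ [360, 60, 168, 32537600, 504] ∧ (g = 20160 → ∃ x ∈ L, x.1 = 4 ∧ 16 < x.2.2)) ∨
    (g = 720 ∧ [(2, 1, 24), (5, 1, 5)].Subperm L) ∨
    (g = 720 ∧ [(3, 1, 18), (5, 1, 5)].Subperm L) ∨
    (g = 756 ∧ [(7, 2, 7)].Subperm L) ∨
    (g = 1344 ∧ [(2, 1, 48), (3, 1, 6), (7, 2, 7)].Subperm L) ∨
    (g = 1512 ∧ [(3, 1, 9), (3, 1, 9), (7, 1, 7)].Subperm L) ∨
    (g = 1920 ∧ [(3, 1, 6), (5, 1, 5)].Subperm L) ∨
    (g = 7920 ∧ [(3, 1, 18), (5, 1, 5), (11, 2, 11)].Subperm L) ∨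
    (g = 15600 ∧ [(3, 1, 6), (5, 1, 25), (13, 3, 13)].Subperm L) ∨
    (g = 86016 ∧ [(3, 1, 6), (7, 2, 7)].Subperm L)

instance decRes11 (g : ℕ) (L : List En) : Decidable (Res11 g L) := by unfold Res11; infer_instance

theorem cc_equiv {G H : Type*} [Group G] [Group H] (e : G ≃* H) (x : G) : cc (e x) = cc x := by
  refine Nat.card_congr ⟨fun a => ⟨e.symm a, ?_⟩, fun a => ⟨e a, ?_⟩, fun a => by simp, fun a => by simp⟩
  · have := a.2
    simp only [Subgroup.mem_centralizer_iff, Set.mem_singleton_iff, forall_eq] at this ⊢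
    exact e.injective (by simpa using this)
  · have := a.2
    simp only [Subgroup.mem_centralizer_iff, Set.mem_singleton_iff, forall_eq] at this ⊢
    rw [← map_mul, this, map_mul]

theorem fin11 {G : Type*} [Group G] [Finite G] [IsSimpleGroup G] (hG : ¬ IsMulCommutative G)
    (h : Nat.card (ConjClasses G) = 11) {xs : List G} (hx : Reps xs) (r : Res11 (Nat.card G) (xs.map dat)) :
    Nonempty (G ≃* Matrix.ProjectiveSpecialLinearGroup (Fin 2) (ZMod 17)) ∨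
      ∃ (F : Type) (_ : Field F) (_ : Fintype F), Fintype.card F = 8 ∧ Nonempty (G ≃* ↥(Cfsg.Lie.Sz F 4)) := by
  rcases r (KCG.lf_of_reps hG hx).k0 (hx.k1 hG) (fun e => e.elim (fun e => KCG.lp_list hG hx e (by norm_num) rfl) fun e => KCG.lp_list hG hx e (by norm_num) rfl) with ⟨a, b, d⟩ | ⟨a, b⟩ | ⟨a, b⟩ | ⟨a, b⟩ | ⟨a, b⟩ | ⟨a, b⟩ | ⟨a, b⟩ | ⟨a, b⟩ | ⟨a, b⟩ | ⟨a, b⟩
  · rcases eppo hG (hx.eppo rfl a) with c | ⟨c, -⟩ | ⟨c, F, _, _, h1, ⟨e⟩⟩ | ⟨-, c⟩
    · refine Or.inl (Rec.recL217 ?_)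
      simp only [List.mem_cons, List.not_mem_nil, or_false] at b c
      omega
    · exact (b (by simp [c])).elim
    · obtain ⟨x, h2, h3, h4⟩ := d c
      obtain ⟨x, -, rfl⟩ := List.mem_map.1 h2
      exact absurd ((cc_equiv e x).symm.trans_le (KCG.l34c h1 (e x) ((e.orderOf_eq x).trans h3))) (not_le.2 h4)
    · exact Or.inr c
  · exact (hx.ct_kill hG h a rfl b (by decide) k11_720_a).elim
  · exact (hx.ct_kill hG h a rfl b (by decide) k11_720_b).elim
  · exact (hx.ct_kill hG h a rfl b (by decide) k11_756_a).elim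
  · exact (hx.ct_kill hG h a rfl b (by decide) k11_1344_a).elim
  · exact (hx.ct_kill hG h a rfl b (by decide) k11_1512_a).elim
  · exact (hx.ct_kill hG h a rfl b (by decide) k11_1920_a).elim
  · exact (hx.ct_kill hG h a rfl b (by decide) k11_7920_a).elim
  · exact (hx.ct_kill hG h a rfl b (by decide) k11_15600_a).elim
  · exact (hx.ct_kill hG h a rfl b (by decide) k11_86016_a).elim

end Cfsg.Agent.KC
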