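import Cfsg.Agent.Lib.KC.Tab

set_option autoImplicit false
set_option maxRecDepth 100000

namespace Cfsg.Agent.KC.T10
noncomputable section

def t2 : TE := ⟨nat_lit 2,nat_lit 2,nat_lit 2,[],[],mk [],mk [],[(nat_lit 1,nat_lit 1,[],mk [])]⟩
def t3 : TE := ⟨nat_lit 3,nat_lit 3,nat_lit 3,[],[],mk [],mk [],[(nat_lit 1,nat_lit 2,[nat_lit 2],mk [nat_lit 2]),(nat_lit 2,nat_lit 1,[],mk [])]⟩
def t4 : TE := ⟨nat_lit 4,nat_lit 2,nat_lit 2,[],[nat_lit 2],mk [nat_lit 2],mk [],[(nat_lit 1,nat_lit 2,[],mk []),(nat_lit 2,nat_lit 1,[],mk [])]⟩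
def t5 : TE := ⟨nat_lit 5,nat_lit 5,nat_lit 5,[],[],mk [],mk [],[(nat_lit 1,nat_lit 4,[nat_lit 2, nat_lit 4],mk [nat_lit 2, nat_lit 4]),(nat_lit 2,nat_lit 2,[nat_lit 2],mk [nat_lit 2]),(nat_lit 4,nat_lit 1,[],mk [])]⟩
def t6 : TE := ⟨nat_lit 6,nat_lit 0,nat_lit 2,[nat_lit 3],[nat_lit 2, nat_lit 3],mk [nat_lit 2, nat_lit 3],mk [nat_lit 3, nat_lit 2],[(nat_lit 1,nat_lit 2,[],mk []),(nat_lit 2,nat_lit 1,[],mk [])]⟩
def t7 : TE := ⟨nat_lit 7,nat_lit 7,nat_lit 7,[],[],mk [],mk [],[(nat_lit 1,nat_lit 6,[nat_lit 2, nat_lit 3, nat_lit 6],mk [nat_lit 2, nat_lit 3, nat_lit 6]),(nat_lit 2,nat_lit 3,[nat_lit 3],mk [nat_lit 3]),(nat_lit 3,nat_lit 2,[nat_lit 2],mk [nat_lit 2]),(nat_lit 6,nat_lit 1,[],mk [])]⟩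
def t8 : TE := ⟨nat_lit 8,nat_lit 2,nat_lit 2,[],[nat_lit 2, nat_lit 4],mk [nat_lit 2, nat_lit 4],mk [],[(nat_lit 1,nat_lit 4,[],mk []),(nat_lit 2,nat_lit 2,[],mk []),(nat_lit 4,nat_lit 1,[],mk [])]⟩
def t9 : TE := ⟨nat_lit 9,nat_lit 3,nat_lit 3,[],[nat_lit 3],mk [nat_lit 3],mk [],[(nat_lit 1,nat_lit 6,[nat_lit 2, nat_lit 3, nat_lit 6],mk [nat_lit 2, nat_lit 3, nat_lit 6]),(nat_lit 2,nat_lit 3,[nat_lit 3],mk [nat_lit 3]),(nat_lit 3,nat_lit 2,[nat_lit 2],mk [nat_lit 2]),(nat_lit 6,nat_lit 1,[],mk [])]⟩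
def t10 : TE := ⟨nat_lit 10,nat_lit 0,nat_lit 2,[nat_lit 5],[nat_lit 2, nat_lit 5],mk [nat_lit 2, nat_lit 5],mk [nat_lit 5, nat_lit 2],[(nat_lit 1,nat_lit 4,[],mk []),(nat_lit 2,nat_lit 2,[],mk []),(nat_lit 4,nat_lit 1,[],mk [])]⟩
def t11 : TE := ⟨nat_lit 11,nat_lit 11,nat_lit 11,[],[],mk [],mk [],[(nat_lit 1,nat_lit 10,[nat_lit 2, nat_lit 5, nat_lit 10],mk [nat_lit 2, nat_lit 5, nat_lit 10]),(nat_lit 2,nat_lit 5,[nat_lit 5],mk [nat_lit 5]),(nat_lit 5,nat_lit 2,[nat_lit 2],mk [nat_lit 2])]⟩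
def t12 : TE := ⟨nat_lit 12,nat_lit 0,nat_lit 2,[nat_lit 3],[nat_lit 2, nat_lit 3, nat_lit 4, nat_lit 6],mk [nat_lit 2, nat_lit 3, nat_lit 4, nat_lit 6],mk [nat_lit 4],[(nat_lit 1,nat_lit 4,[],mk []),(nat_lit 2,nat_lit 2,[],mk []),(nat_lit 4,nat_lit 1,[],mk [])]⟩
def t13 : TE := ⟨nat_lit 13,nat_lit 13,nat_lit 13,[],[],mk [],mk [],[(nat_lit 1,nat_lit 12,[nat_lit 2, nat_lit 3, nat_lit 4, nat_lit 6, nat_lit 12],mk [nat_lit 2, nat_lit 3, nat_lit 4, nat_lit 6, nat_lit 12]),(nat_lit 2,nat_lit 6,[nat_lit 2, nat_lit 3, nat_lit 6],mk [nat_lit 2, nat_lit 3, nat_lit 6]),(nat_lit 3,nat_lit 4,[nat_lit 2, nat_lit 4],mk [nat_lit 2, nat_lit 4]),(nat_lit 4,nat_lit 3,[nat_lit 3],mk [nat_lit 3]),(nat_lit 6,nat_lit 2,[nat_lit 2],mk [nat_lit 2])]⟩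
def t14 : TE := ⟨nat_lit 14,nat_lit 0,nat_lit 2,[nat_lit 7],[nat_lit 2, nat_lit 7],mk [nat_lit 2, nat_lit 7],mk [nat_lit 7, nat_lit 2],[(nat_lit 1,nat_lit 6,[],mk []),(nat_lit 2,nat_lit 3,[],mk []),(nat_lit 3,nat_lit 2,[],mk []),(nat_lit 6,nat_lit 1,[],mk [])]⟩
def t15 : TE := ⟨nat_lit 15,nat_lit 0,nat_lit 3,[nat_lit 5],[nat_lit 3, nat_lit 5],mk [nat_lit 3, nat_lit 5],mk [nat_lit 5, nat_lit 3],[(nat_lit 1,nat_lit 8,[],mk []),(nat_lit 2,nat_lit 4,[],mk []),(nat_lit 4,nat_lit 2,[],mk []),(nat_lit 8,nat_lit 1,[],mk [])]⟩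
def t16 : TE := ⟨nat_lit 16,nat_lit 2,nat_lit 2,[],[nat_lit 2, nat_lit 4, nat_lit 8],mk [nat_lit 2, nat_lit 4, nat_lit 8],mk [],[(nat_lit 1,nat_lit 8,[],mk []),(nat_lit 2,nat_lit 4,[],mk []),(nat_lit 4,nat_lit 2,[],mk []),(nat_lit 8,nat_lit 1,[],mk [])]⟩
def t17 : TE := ⟨nat_lit 17,nat_lit 17,nat_lit 17,[],[],mk [],mk [],[(nat_lit 1,nat_lit 16,[nat_lit 2, nat_lit 4, nat_lit 8, nat_lit 16],mk [nat_lit 2, nat_lit 4, nat_lit 8, nat_lit 16]),(nat_lit 2,nat_lit 8,[nat_lit 2, nat_lit 4, nat_lit 8],mk [nat_lit 2, nat_lit 4, nat_lit 8]),(nat_lit 4,nat_lit 4,[nat_lit 2, nat_lit 4],mk [nat_lit 2, nat_lit 4]),(nat_lit 8,nat_lit 2,[nat_lit 2],mk [nat_lit 2])]⟩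
def t18 : TE := ⟨nat_lit 18,nat_lit 0,nat_lit 2,[nat_lit 3],[nat_lit 2, nat_lit 3, nat_lit 6, nat_lit 9],mk [nat_lit 2, nat_lit 3, nat_lit 6, nat_lit 9],mk [nat_lit 9],[(nat_lit 1,nat_lit 6,[],mk []),(nat_lit 2,nat_lit 3,[],mk []),(nat_lit 3,nat_lit 2,[],mk []),(nat_lit 6,nat_lit 1,[],mk [])]⟩
def t19 : TE := ⟨nat_lit 19,nat_lit 19,nat_lit 19,[],[],mk [],mk [],[(nat_lit 1,nat_lit 18,[nat_lit 2, nat_lit 3, nat_lit 6, nat_lit 9, nat_lit 18],mk [nat_lit 2, nat_lit 3, nat_lit 6, nat_lit 9, nat_lit 18]),(nat_lit 2,nat_lit 9,[nat_lit 3, nat_lit 9],mk [nat_lit 3, nat_lit 9]),(nat_lit 3,nat_lit 6,[nat_lit 2, nat_lit 3, nat_lit 6],mk [nat_lit 2, nat_lit 3, nat_lit 6]),(nat_lit 6,nat_lit 3,[nat_lit 3],mk [nat_lit 3]),(nat_lit 9,nat_lit 2,[nat_lit 2],mk [nat_lit 2])]⟩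
def t20 : TE := ⟨nat_lit 20,nat_lit 0,nat_lit 2,[nat_lit 5],[nat_lit 2, nat_lit 4, nat_lit 5, nat_lit 10],mk [nat_lit 2, nat_lit 4, nat_lit 5, nat_lit 10],mk [nat_lit 4],[(nat_lit 1,nat_lit 8,[],mk []),(nat_lit 2,nat_lit 4,[],mk []),(nat_lit 4,nat_lit 2,[],mk []),(nat_lit 8,nat_lit 1,[],mk [])]⟩
def t21 : TE := ⟨nat_lit 21,nat_lit 0,nat_lit 3,[nat_lit 7],[nat_lit 3, nat_lit 7],mk [nat_lit 3, nat_lit 7],mk [nat_lit 7, nat_lit 3],[(nat_lit 1,nat_lit 12,[],mk []),(nat_lit 2,nat_lit 6,[],mk []),(nat_lit 3,nat_lit 4,[],mk []),(nat_lit 4,nat_lit 3,[],mk []),(nat_lit 6,nat_lit 2,[],mk [])]⟩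
def t22 : TE := ⟨nat_lit 22,nat_lit 0,nat_lit 2,[nat_lit 11],[nat_lit 2, nat_lit 11],mk [nat_lit 2, nat_lit 11],mk [nat_lit 11, nat_lit 2],[(nat_lit 1,nat_lit 10,[],mk []),(nat_lit 2,nat_lit 5,[],mk []),(nat_lit 5,nat_lit 2,[],mk [])]⟩
def t23 : TE := ⟨nat_lit 23,nat_lit 23,nat_lit 23,[],[],mk [],mk [],[(nat_lit 1,nat_lit 22,[nat_lit 2, nat_lit 11, nat_lit 22],mk [nat_lit 2, nat_lit 11, nat_lit 22]),(nat_lit 2,nat_lit 11,[nat_lit 11],mk [nat_lit 11])]⟩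
def t24 : TE := ⟨nat_lit 24,nat_lit 0,nat_lit 2,[nat_lit 3],[nat_lit 2, nat_lit 3, nat_lit 4, nat_lit 6, nat_lit 8, nat_lit 12],mk [nat_lit 2, nat_lit 3, nat_lit 4, nat_lit 6, nat_lit 8, nat_lit 12],mk [nat_lit 8],[(nat_lit 1,nat_lit 8,[],mk []),(nat_lit 2,nat_lit 4,[],mk []),(nat_lit 4,nat_lit 2,[],mk []),(nat_lit 8,nat_lit 1,[],mk [])]⟩
def t25 : TE := ⟨nat_lit 25,nat_lit 5,nat_lit 5,[],[nat_lit 5],mk [nat_lit 5],mk [],[(nat_lit 1,nat_lit 20,[nat_lit 2, nat_lit 4, nat_lit 5, nat_lit 10, nat_lit 20],mk [nat_lit 2, nat_lit 4, nat_lit 5, nat_lit 10, nat_lit 20]),(nat_lit 2,nat_lit 10,[nat_lit 2, nat_lit 5, nat_lit 10],mk [nat_lit 2, nat_lit 5, nat_lit 10]),(nat_lit 4,nat_lit 5,[nat_lit 5],mk [nat_lit 5]),(nat_lit 5,nat_lit 4,[nat_lit 2, nat_lit 4],mk [nat_lit 2, nat_lit 4])]⟩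
def t26 : TE := ⟨nat_lit 26,nat_lit 0,nat_lit 2,[nat_lit 13],[nat_lit 2, nat_lit 13],mk [nat_lit 2, nat_lit 13],mk [nat_lit 13, nat_lit 2],[(nat_lit 1,nat_lit 12,[],mk []),(nat_lit 2,nat_lit 6,[],mk []),(nat_lit 3,nat_lit 4,[],mk []),(nat_lit 4,nat_lit 3,[],mk []),(nat_lit 6,nat_lit 2,[],mk [])]⟩
def t27 : TE := ⟨nat_lit 27,nat_lit 3,nat_lit 3,[],[nat_lit 3, nat_lit 9],mk [nat_lit 3, nat_lit 9],mk [],[(nat_lit 1,nat_lit 18,[nat_lit 2, nat_lit 3, nat_lit 6, nat_lit 9, nat_lit 18],mk [nat_lit 2, nat_lit 3, nat_lit 6, nat_lit 9, nat_lit 18]),(nat_lit 2,nat_lit 9,[nat_lit 3, nat_lit 9],mk [nat_lit 3, nat_lit 9]),(nat_lit 3,nat_lit 6,[nat_lit 2, nat_lit 3, nat_lit 6],mk [nat_lit 2, nat_lit 3, nat_lit 6]),(nat_lit 6,nat_lit 3,[nat_lit 3],mk [nat_lit 3]),(nat_lit 9,nat_lit 2,[nat_lit 2],mk [nat_lit 2])]⟩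
def t28 : TE := ⟨nat_lit 28,nat_lit 0,nat_lit 2,[nat_lit 7],[nat_lit 2, nat_lit 4, nat_lit 7, nat_lit 14],mk [nat_lit 2, nat_lit 4, nat_lit 7, nat_lit 14],mk [nat_lit 4],[(nat_lit 1,nat_lit 12,[],mk []),(nat_lit 2,nat_lit 6,[],mk []),(nat_lit 3,nat_lit 4,[],mk []),(nat_lit 4,nat_lit 3,[],mk []),(nat_lit 6,nat_lit 2,[],mk [])]⟩
def t29 : TE := ⟨nat_lit 29,nat_lit 29,nat_lit 29,[],[],mk [],mk [],[(nat_lit 1,nat_lit 28,[nat_lit 2, nat_lit 4, nat_lit 7, nat_lit 14, nat_lit 28],mk [nat_lit 2, nat_lit 4, nat_lit 7, nat_lit 14, nat_lit 28]),(nat_lit 2,nat_lit 14,[nat_lit 2, nat_lit 7, nat_lit 14],mk [nat_lit 2, nat_lit 7, nat_lit 14]),(nat_lit 4,nat_lit 7,[nat_lit 7],mk [nat_lit 7]),(nat_lit 7,nat_lit 4,[nat_lit 2, nat_lit 4],mk [nat_lit 2, nat_lit 4])]⟩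
def t30 : TE := ⟨nat_lit 30,nat_lit 0,nat_lit 2,[nat_lit 5, nat_lit 3],[nat_lit 2, nat_lit 3, nat_lit 5, nat_lit 6, nat_lit 10, nat_lit 15],mk [nat_lit 2, nat_lit 3, nat_lit 5, nat_lit 6, nat_lit 10, nat_lit 15],mk [nat_lit 15, nat_lit 10, nat_lit 6],[(nat_lit 1,nat_lit 8,[],mk []),(nat_lit 2,nat_lit 4,[],mk []),(nat_lit 4,nat_lit 2,[],mk []),(nat_lit 8,nat_lit 1,[],mk [])]⟩
def t31 : TE := ⟨nat_lit 31,nat_lit 31,nat_lit 31,[],[],mk [],mk [],[(nat_lit 1,nat_lit 30,[nat_lit 2, nat_lit 3, nat_lit 5, nat_lit 6, nat_lit 10, nat_lit 15, nat_lit 30],mk [nat_lit 2, nat_lit 3, nat_lit 5, nat_lit 6, nat_lit 10, nat_lit 15, nat_lit 30]),(nat_lit 2,nat_lit 15,[nat_lit 3, nat_lit 5, nat_lit 15],mk [nat_lit 3, nat_lit 5, nat_lit 15]),(nat_lit 3,nat_lit 10,[nat_lit 2, nat_lit 5, nat_lit 10],mk [nat_lit 2, nat_lit 5, nat_lit 10]),(nat_lit 5,nat_lit 6,[nat_lit 2, nat_lit 3,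 nat_lit 6],mk [nat_lit 2, nat_lit 3, nat_lit 6]),(nat_lit 6,nat_lit 5,[nat_lit 5],mk [nat_lit 5])]⟩
def t32 : TE := ⟨nat_lit 32,nat_lit 2,nat_lit 2,[],[nat_lit 2, nat_lit 4, nat_lit 8, nat_lit 16],mk [nat_lit 2, nat_lit 4, nat_lit 8, nat_lit 16],mk [],[(nat_lit 1,nat_lit 16,[],mk []),(nat_lit 2,nat_lit 8,[],mk []),(nat_lit 4,nat_lit 4,[],mk []),(nat_lit 8,nat_lit 2,[],mk [])]⟩
def t33 : TE := ⟨nat_lit 33,nat_lit 0,nat_lit 3,[nat_lit 11],[nat_lit 3, nat_lit 11],mk [nat_lit 3, nat_lit 11],mk [nat_lit 11, nat_lit 3],[(nat_lit 1,nat_lit 20,[],mk []),(nat_lit 2,nat_lit 10,[],mk []),(nat_lit 4,nat_lit 5,[],mk []),(nat_lit 5,nat_lit 4,[],mk [])]⟩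
def t34 : TE := ⟨nat_lit 34,nat_lit 0,nat_lit 2,[nat_lit 17],[nat_lit 2, nat_lit 17],mk [nat_lit 2, nat_lit 17],mk [nat_lit 17, nat_lit 2],[(nat_lit 1,nat_lit 16,[],mk []),(nat_lit 2,nat_lit 8,[],mk []),(nat_lit 4,nat_lit 4,[],mk []),(nat_lit 8,nat_lit 2,[],mk [])]⟩
def t35 : TE := ⟨nat_lit 35,nat_lit 0,nat_lit 5,[nat_lit 7],[nat_lit 5, nat_lit 7],mk [nat_lit 5, nat_lit 7],mk [nat_lit 7, nat_lit 5],[(nat_lit 1,nat_lit 24,[],mk []),(nat_lit 2,nat_lit 12,[],mk []),(nat_lit 3,nat_lit 8,[],mk []),(nat_lit 4,nat_lit 6,[],mk []),(nat_lit 6,nat_lit 4,[],mk []),(nat_lit 8,nat_lit 3,[],mk [])]⟩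
def t36 : TE := ⟨nat_lit 36,nat_lit 0,nat_lit 2,[nat_lit 3],[nat_lit 2, nat_lit 3, nat_lit 4, nat_lit 6, nat_lit 9, nat_lit 12, nat_lit 18],mk [nat_lit 2, nat_lit 3, nat_lit 4, nat_lit 6, nat_lit 9, nat_lit 12, nat_lit 18],mk [],[(nat_lit 1,nat_lit 12,[],mk []),(nat_lit 2,nat_lit 6,[],mk []),(nat_lit 3,nat_lit 4,[],mk []),(nat_lit 4,nat_lit 3,[],mk []),(nat_lit 6,nat_lit 2,[],mk [])]⟩
def t37 : TE := ⟨nat_lit 37,nat_lit 37,nat_lit 37,[],[],mk [],mk [],[(nat_lit 1,nat_lit 36,[nat_lit 2, nat_lit 3, nat_lit 4, nat_lit 6, nat_lit 9, nat_lit 12, nat_lit 18, nat_lit 36],mk [nat_lit 2, nat_lit 3, nat_lit 4, nat_lit 6, nat_lit 9, nat_lit 12, nat_lit 18, nat_lit 36]),(nat_lit 2,nat_lit 18,[nat_lit 2, nat_lit 3, nat_lit 6, nat_lit 9, nat_lit 18],mk [nat_lit 2, nat_lit 3, nat_lit 6, nat_lit 9, nat_lit 18]),(nat_lit 3,nat_lit 12,[nat_lit 2, nat_lit 3, nat_lit 4, nat_lit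 6, nat_lit 12],mk [nat_lit 2, nat_lit 3, nat_lit 4, nat_lit 6, nat_lit 12]),(nat_lit 4,nat_lit 9,[nat_lit 3, nat_lit 9],mk [nat_lit 3, nat_lit 9]),(nat_lit 6,nat_lit 6,[nat_lit 2, nat_lit 3, nat_lit 6],mk [nat_lit 2, nat_lit 3, nat_lit 6]),(nat_lit 9,nat_lit 4,[nat_lit 2, nat_lit 4],mk [nat_lit 2, nat_lit 4])]⟩
def t38 : TE := ⟨nat_lit 38,nat_lit 0,nat_lit 2,[nat_lit 19],[nat_lit 2, nat_lit 19],mk [nat_lit 2, nat_lit 19],mk [nat_lit 19, nat_lit 2],[(nat_lit 1,nat_lit 18,[],mk []),(nat_lit 2,nat_lit 9,[],mk []),(nat_lit 3,nat_lit 6,[],mk []),(nat_lit 6,nat_lit 3,[],mk []),(nat_lit 9,nat_lit 2,[],mk [])]⟩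
def t39 : TE := ⟨nat_lit 39,nat_lit 0,nat_lit 3,[nat_lit 13],[nat_lit 3, nat_lit 13],mk [nat_lit 3, nat_lit 13],mk [nat_lit 13, nat_lit 3],[(nat_lit 1,nat_lit 24,[],mk []),(nat_lit 2,nat_lit 12,[],mk []),(nat_lit 3,nat_lit 8,[],mk []),(nat_lit 4,nat_lit 6,[],mk []),(nat_lit 6,nat_lit 4,[],mk []),(nat_lit 8,nat_lit 3,[],mk [])]⟩
def t40 : TE := ⟨nat_lit 40,nat_lit 0,nat_lit 2,[nat_lit 5],[nat_lit 2, nat_lit 4, nat_lit 5, nat_lit 8, nat_lit 10, nat_lit 20],mk [nat_lit 2, nat_lit 4, nat_lit 5, nat_lit 8, nat_lit 10, nat_lit 20],mk [nat_lit 8],[(nat_lit 1,nat_lit 16,[],mk []),(nat_lit 2,nat_lit 8,[],mk []),(nat_lit 4,nat_lit 4,[],mk []),(nat_lit 8,nat_lit 2,[],mk [])]⟩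
def t41 : TE := ⟨nat_lit 41,nat_lit 41,nat_lit 41,[],[],mk [],mk [],[(nat_lit 1,nat_lit 40,[nat_lit 2, nat_lit 4, nat_lit 5, nat_lit 8, nat_lit 10, nat_lit 20, nat_lit 40],mk [nat_lit 2, nat_lit 4, nat_lit 5, nat_lit 8, nat_lit 10, nat_lit 20, nat_lit 40]),(nat_lit 2,nat_lit 20,[nat_lit 2, nat_lit 4, nat_lit 5, nat_lit 10, nat_lit 20],mk [nat_lit 2, nat_lit 4, nat_lit 5, nat_lit 10, nat_lit 20]),(nat_lit 4,nat_lit 10,[nat_lit 2, nat_lit 5, nat_lit 10],mk [nat_lit 2, nat_lit 5, nat_lit 10]),(nat_lit 5,nat_lit 8,[nat_lit 2, nat_lit 4, nat_lit 8],mk [nat_lit 2, nat_lit 4, nat_lit 8]),(nat_lit 8,nat_lit 5,[nat_lit 5],mk [nat_lit 5])]⟩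
def t42 : TE := ⟨nat_lit 42,nat_lit 0,nat_lit 2,[nat_lit 7, nat_lit 3],[nat_lit 2, nat_lit 3, nat_lit 6, nat_lit 7, nat_lit 14, nat_lit 21],mk [nat_lit 2, nat_lit 3, nat_lit 6, nat_lit 7, nat_lit 14, nat_lit 21],mk [nat_lit 21, nat_lit 14, nat_lit 6],[(nat_lit 1,nat_lit 12,[],mk []),(nat_lit 2,nat_lit 6,[],mk []),(nat_lit 3,nat_lit 4,[],mk []),(nat_lit 4,nat_lit 3,[],mk []),(nat_lit 6,nat_lit 2,[],mk [])]⟩
def t43 : TE := ⟨nat_lit 43,nat_lit 43,nat_lit 43,[],[],mk [],mk [],[(nat_lit 1,nat_lit 42,[nat_lit 2, nat_lit 3, nat_lit 6, nat_lit 7, nat_lit 14, nat_lit 21, nat_lit 42],mk [nat_lit 2, nat_lit 3, nat_lit 6, nat_lit 7, nat_lit 14, nat_lit 21, nat_lit 42]),(nat_lit 2,nat_lit 21,[nat_lit 3, nat_lit 7, nat_lit 21],mk [nat_lit 3, nat_lit 7, nat_lit 21]),(nat_lit 3,nat_lit 14,[nat_lit 2, nat_lit 7, nat_lit 14],mk [nat_lit 2, nat_lit 7, nat_lit 14]),(nat_lit 6,nat_lit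 7,[nat_lit 7],mk [nat_lit 7]),(nat_lit 7,nat_lit 6,[nat_lit 2, nat_lit 3, nat_lit 6],mk [nat_lit 2, nat_lit 3, nat_lit 6])]⟩
def t44 : TE := ⟨nat_lit 44,nat_lit 0,nat_lit 2,[nat_lit 11],[nat_lit 2, nat_lit 4, nat_lit 11, nat_lit 22],mk [nat_lit 2, nat_lit 4, nat_lit 11, nat_lit 22],mk [nat_lit 4],[(nat_lit 1,nat_lit 20,[],mk []),(nat_lit 2,nat_lit 10,[],mk []),(nat_lit 4,nat_lit 5,[],mk []),(nat_lit 5,nat_lit 4,[],mk [])]⟩
def t45 : TE := ⟨nat_lit 45,nat_lit 0,nat_lit 3,[nat_lit 5],[nat_lit 3, nat_lit 5, nat_lit 9, nat_lit 15],mk [nat_lit 3, nat_lit 5, nat_lit 9, nat_lit 15],mk [nat_lit 9],[(nat_lit 1,nat_lit 24,[],mk []),(nat_lit 2,nat_lit 12,[],mk []),(nat_lit 3,nat_lit 8,[],mk []),(nat_lit 4,nat_lit 6,[],mk []),(nat_lit 6,nat_lit 4,[],mk []),(nat_lit 8,nat_lit 3,[],mk [])]⟩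
def t46 : TE := ⟨nat_lit 46,nat_lit 0,nat_lit 2,[nat_lit 23],[nat_lit 2, nat_lit 23],mk [nat_lit 2, nat_lit 23],mk [nat_lit 23, nat_lit 2],[(nat_lit 1,nat_lit 22,[],mk []),(nat_lit 2,nat_lit 11,[],mk [])]⟩
def t47 : TE := ⟨nat_lit 47,nat_lit 47,nat_lit 47,[],[],mk [],mk [],[(nat_lit 1,nat_lit 46,[nat_lit 2, nat_lit 23, nat_lit 46],mk [nat_lit 2, nat_lit 23, nat_lit 46]),(nat_lit 2,nat_lit 23,[nat_lit 23],mk [nat_lit 23])]⟩
def t48 : TE := ⟨nat_lit 48,nat_lit 0,nat_lit 2,[nat_lit 3],[nat_lit 2, nat_lit 3, nat_lit 4, nat_lit 6, nat_lit 8, nat_lit 12, nat_lit 16, nat_lit 24],mk [nat_lit 2, nat_lit 3, nat_lit 4, nat_lit 6, nat_lit 8, nat_lit 12, nat_lit 16, nat_lit 24],mk [nat_lit 16],[(nat_lit 1,nat_lit 16,[],mk []),(nat_lit 2,nat_lit 8,[],mk []),(nat_lit 4,nat_lit 4,[],mk []),(nat_lit 8,nat_lit 2,[],mk [])]⟩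
def t49 : TE := ⟨nat_lit 49,nat_lit 7,nat_lit 7,[],[nat_lit 7],mk [nat_lit 7],mk [],[(nat_lit 1,nat_lit 42,[nat_lit 2, nat_lit 3, nat_lit 6, nat_lit 7, nat_lit 14, nat_lit 21, nat_lit 42],mk [nat_lit 2, nat_lit 3, nat_lit 6, nat_lit 7, nat_lit 14, nat_lit 21, nat_lit 42]),(nat_lit 2,nat_lit 21,[nat_lit 3, nat_lit 7, nat_lit 21],mk [nat_lit 3, nat_lit 7, nat_lit 21]),(nat_lit 3,nat_lit 14,[nat_lit 2, nat_lit 7, nat_lit 14],mk [nat_lit 2, nat_lit 7, nat_lit 14]),(nat_lit 6,nat_lit 7,[nat_lit 7],mk [nat_lit 7]),(nat_lit 7,nat_lit 6,[nat_lit 2, nat_lit 3, nat_lit 6],mk [nat_lit 2, nat_lit 3, nat_lit 6])]⟩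
def t50 : TE := ⟨nat_lit 50,nat_lit 0,nat_lit 2,[nat_lit 5],[nat_lit 2, nat_lit 5, nat_lit 10, nat_lit 25],mk [nat_lit 2, nat_lit 5, nat_lit 10, nat_lit 25],mk [nat_lit 25],[(nat_lit 1,nat_lit 20,[],mk []),(nat_lit 2,nat_lit 10,[],mk []),(nat_lit 4,nat_lit 5,[],mk []),(nat_lit 5,nat_lit 4,[],mk [])]⟩
def t51 : TE := ⟨nat_lit 51,nat_lit 0,nat_lit 3,[nat_lit 17],[nat_lit 3, nat_lit 17],mk [nat_lit 3, nat_lit 17],mk [nat_lit 17, nat_lit 3],[(nat_lit 1,nat_lit 32,[],mk []),(nat_lit 2,nat_lit 16,[],mk []),(nat_lit 4,nat_lit 8,[],mk []),(nat_lit 8,nat_lit 4,[],mk [])]⟩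
def t52 : TE := ⟨nat_lit 52,nat_lit 0,nat_lit 2,[nat_lit 13],[nat_lit 2, nat_lit 4, nat_lit 13, nat_lit 26],mk [nat_lit 2, nat_lit 4, nat_lit 13, nat_lit 26],mk [nat_lit 4],[(nat_lit 1,nat_lit 24,[],mk []),(nat_lit 2,nat_lit 12,[],mk []),(nat_lit 3,nat_lit 8,[],mk []),(nat_lit 4,nat_lit 6,[],mk []),(nat_lit 6,nat_lit 4,[],mk []),(nat_lit 8,nat_lit 3,[],mk [])]⟩
def t53 : TE := ⟨nat_lit 53,nat_lit 53,nat_lit 53,[],[],mk [],mk [],[(nat_lit 1,nat_lit 52,[nat_lit 2, nat_lit 4, nat_lit 13, nat_lit 26, nat_lit 52],mk [nat_lit 2, nat_lit 4, nat_lit 13, nat_lit 26, nat_lit 52]),(nat_lit 2,nat_lit 26,[nat_lit 2, nat_lit 13, nat_lit 26],mk [nat_lit 2, nat_lit 13, nat_lit 26]),(nat_lit 4,nat_lit 13,[nat_lit 13],mk [nat_lit 13])]⟩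
def t54 : TE := ⟨nat_lit 54,nat_lit 0,nat_lit 2,[nat_lit 3],[nat_lit 2, nat_lit 3, nat_lit 6, nat_lit 9, nat_lit 18, nat_lit 27],mk [nat_lit 2, nat_lit 3, nat_lit 6, nat_lit 9, nat_lit 18, nat_lit 27],mk [nat_lit 27],[(nat_lit 1,nat_lit 18,[],mk []),(nat_lit 2,nat_lit 9,[],mk []),(nat_lit 3,nat_lit 6,[],mk []),(nat_lit 6,nat_lit 3,[],mk []),(nat_lit 9,nat_lit 2,[],mk [])]⟩
def t55 : TE := ⟨nat_lit 55,nat_lit 0,nat_lit 5,[nat_lit 11],[nat_lit 5, nat_lit 11],mk [nat_lit 5, nat_lit 11],mk [nat_lit 11, nat_lit 5],[(nat_lit 1,nat_lit 40,[],mk []),(nat_lit 2,nat_lit 20,[],mk []),(nat_lit 4,nat_lit 10,[],mk []),(nat_lit 5,nat_lit 8,[],mk []),(nat_lit 8,nat_lit 5,[],mk [])]⟩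
def t56 : TE := ⟨nat_lit 56,nat_lit 0,nat_lit 2,[nat_lit 7],[nat_lit 2, nat_lit 4, nat_lit 7, nat_lit 8, nat_lit 14, nat_lit 28],mk [nat_lit 2, nat_lit 4, nat_lit 7, nat_lit 8, nat_lit 14, nat_lit 28],mk [nat_lit 8],[(nat_lit 1,nat_lit 24,[],mk []),(nat_lit 2,nat_lit 12,[],mk []),(nat_lit 3,nat_lit 8,[],mk []),(nat_lit 4,nat_lit 6,[],mk []),(nat_lit 6,nat_lit 4,[],mk []),(nat_lit 8,nat_lit 3,[],mk [])]⟩
def t57 : TE := ⟨nat_lit 57,nat_lit 0,nat_lit 3,[nat_lit 19],[nat_lit 3, nat_lit 19],mk [nat_lit 3, nat_lit 19],mk [nat_lit 19, nat_lit 3],[(nat_lit 1,nat_lit 36,[],mk []),(nat_lit 2,nat_lit 18,[],mk []),(nat_lit 3,nat_lit 12,[],mk []),(nat_lit 4,nat_lit 9,[],mk []),(nat_lit 6,nat_lit 6,[],mk []),(nat_lit 9,nat_lit 4,[],mk [])]⟩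
def t58 : TE := ⟨nat_lit 58,nat_lit 0,nat_lit 2,[nat_lit 29],[nat_lit 2, nat_lit 29],mk [nat_lit 2, nat_lit 29],mk [nat_lit 29, nat_lit 2],[(nat_lit 1,nat_lit 28,[],mk []),(nat_lit 2,nat_lit 14,[],mk []),(nat_lit 4,nat_lit 7,[],mk []),(nat_lit 7,nat_lit 4,[],mk [])]⟩
def t59 : TE := ⟨nat_lit 59,nat_lit 59,nat_lit 59,[],[],mk [],mk [],[(nat_lit 1,nat_lit 58,[nat_lit 2, nat_lit 29, nat_lit 58],mk [nat_lit 2, nat_lit 29, nat_lit 58]),(nat_lit 2,nat_lit 29,[nat_lit 29],mk [nat_lit 29])]⟩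
def t61 : TE := ⟨nat_lit 61,nat_lit 61,nat_lit 61,[],[],mk [],mk [],[(nat_lit 1,nat_lit 60,[nat_lit 2, nat_lit 3, nat_lit 4, nat_lit 5, nat_lit 6, nat_lit 10, nat_lit 12, nat_lit 15, nat_lit 20, nat_lit 30, nat_lit 60],mk [nat_lit 2, nat_lit 3, nat_lit 4, nat_lit 5, nat_lit 6, nat_lit 10, nat_lit 12, nat_lit 15, nat_lit 20, nat_lit 30, nat_lit 60]),(nat_lit 2,nat_lit 30,[nat_lit 2, nat_lit 3, nat_lit 5, nat_lit 6, nat_lit 10, nat_lit 15, nat_lit 30],mk [nat_lit 2, nat_lit 3, nat_lit 5, nat_lit 6, nat_lit 10, nat_lit 15, nat_lit 30]),(nat_lit 3,nat_lit 20,[nat_lit 2, nat_lit 4, nat_lit 5, nat_lit 10, nat_lit 20],mk [nat_lit 2, nat_lit 4, nat_lit 5, nat_lit 10, nat_lit 20]),(nat_lit 4,nat_lit 15,[nat_lit 3, nat_lit 5, nat_lit 15],mk [nat_lit 3, nat_lit 5, nat_lit 15]),(nat_lit 5,nat_lit 12,[nat_lit 2, nat_lit 3, nat_lit 4, nat_lit 6, nat_lit 12],mk [nat_lit 2,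 nat_lit 3, nat_lit 4, nat_lit 6, nat_lit 12]),(nat_lit 6,nat_lit 10,[nat_lit 2, nat_lit 5, nat_lit 10],mk [nat_lit 2, nat_lit 5, nat_lit 10])]⟩
def t62 : TE := ⟨nat_lit 62,nat_lit 0,nat_lit 2,[nat_lit 31],[nat_lit 2, nat_lit 31],mk [nat_lit 2, nat_lit 31],mk [nat_lit 31, nat_lit 2],[(nat_lit 1,nat_lit 30,[],mk []),(nat_lit 2,nat_lit 15,[],mk []),(nat_lit 3,nat_lit 10,[],mk []),(nat_lit 5,nat_lit 6,[],mk []),(nat_lit 6,nat_lit 5,[],mk [])]⟩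
def t63 : TE := ⟨nat_lit 63,nat_lit 0,nat_lit 3,[nat_lit 7],[nat_lit 3, nat_lit 7, nat_lit 9, nat_lit 21],mk [nat_lit 3, nat_lit 7, nat_lit 9, nat_lit 21],mk [nat_lit 9],[(nat_lit 1,nat_lit 36,[],mk []),(nat_lit 2,nat_lit 18,[],mk []),(nat_lit 3,nat_lit 12,[],mk []),(nat_lit 4,nat_lit 9,[],mk []),(nat_lit 6,nat_lit 6,[],mk []),(nat_lit 9,nat_lit 4,[],mk [])]⟩
def t64 : TE := ⟨nat_lit 64,nat_lit 2,nat_lit 2,[],[nat_lit 2, nat_lit 4, nat_lit 8, nat_lit 16, nat_lit 32],mk [nat_lit 2, nat_lit 4, nat_lit 8, nat_lit 16, nat_lit 32],mk [],[(nat_lit 1,nat_lit 32,[],mk []),(nat_lit 2,nat_lit 16,[],mk []),(nat_lit 4,nat_lit 8,[],mk []),(nat_lit 8,nat_lit 4,[],mk [])]⟩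
def t65 : TE := ⟨nat_lit 65,nat_lit 0,nat_lit 5,[nat_lit 13],[nat_lit 5, nat_lit 13],mk [nat_lit 5, nat_lit 13],mk [nat_lit 13, nat_lit 5],[(nat_lit 1,nat_lit 48,[],mk []),(nat_lit 2,nat_lit 24,[],mk []),(nat_lit 3,nat_lit 16,[],mk []),(nat_lit 4,nat_lit 12,[],mk []),(nat_lit 6,nat_lit 8,[],mk []),(nat_lit 8,nat_lit 6,[],mk [])]⟩
def t67 : TE := ⟨nat_lit 67,nat_lit 67,nat_lit 67,[],[],mk [],mk [],[(nat_lit 1,nat_lit 66,[nat_lit 2, nat_lit 3, nat_lit 6, nat_lit 11, nat_lit 22, nat_lit 33, nat_lit 66],mk [nat_lit 2, nat_lit 3, nat_lit 6, nat_lit 11, nat_lit 22, nat_lit 33, nat_lit 66]),(nat_lit 2,nat_lit 33,[nat_lit 3, nat_lit 11, nat_lit 33],mk [nat_lit 3, nat_lit 11, nat_lit 33]),(nat_lit 3,nat_lit 22,[nat_lit 2, nat_lit 11, nat_lit 22],mk [nat_lit 2, nat_lit 11, nat_lit 22]),(nat_lit 6,nat_lit 11,[nat_lit 11],mk [nat_lit 11])]⟩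
def t68 : TE := ⟨nat_lit 68,nat_lit 0,nat_lit 2,[nat_lit 17],[nat_lit 2, nat_lit 4, nat_lit 17, nat_lit 34],mk [nat_lit 2, nat_lit 4, nat_lit 17, nat_lit 34],mk [nat_lit 4],[(nat_lit 1,nat_lit 32,[],mk []),(nat_lit 2,nat_lit 16,[],mk []),(nat_lit 4,nat_lit 8,[],mk []),(nat_lit 8,nat_lit 4,[],mk [])]⟩
def t69 : TE := ⟨nat_lit 69,nat_lit 0,nat_lit 3,[nat_lit 23],[nat_lit 3, nat_lit 23],mk [nat_lit 3, nat_lit 23],mk [nat_lit 23, nat_lit 3],[(nat_lit 1,nat_lit 44,[],mk []),(nat_lit 2,nat_lit 22,[],mk []),(nat_lit 4,nat_lit 11,[],mk [])]⟩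
def t71 : TE := ⟨nat_lit 71,nat_lit 71,nat_lit 71,[],[],mk [],mk [],[(nat_lit 1,nat_lit 70,[nat_lit 2, nat_lit 5, nat_lit 7, nat_lit 10, nat_lit 14, nat_lit 35, nat_lit 70],mk [nat_lit 2, nat_lit 5, nat_lit 7, nat_lit 10, nat_lit 14, nat_lit 35, nat_lit 70]),(nat_lit 2,nat_lit 35,[nat_lit 5, nat_lit 7, nat_lit 35],mk [nat_lit 5, nat_lit 7, nat_lit 35]),(nat_lit 5,nat_lit 14,[nat_lit 2, nat_lit 7, nat_lit 14],mk [nat_lit 2, nat_lit 7, nat_lit 14]),(nat_lit 7,nat_lit 10,[nat_lit 2, nat_lit 5, nat_lit 10],mk [nat_lit 2, nat_lit 5, nat_lit 10])]⟩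
def t73 : TE := ⟨nat_lit 73,nat_lit 73,nat_lit 73,[],[],mk [],mk [],[(nat_lit 1,nat_lit 72,[nat_lit 2, nat_lit 3, nat_lit 4, nat_lit 6, nat_lit 8, nat_lit 9, nat_lit 12, nat_lit 18, nat_lit 24, nat_lit 36, nat_lit 72],mk [nat_lit 2, nat_lit 3, nat_lit 4, nat_lit 6, nat_lit 8, nat_lit 9, nat_lit 12, nat_lit 18, nat_lit 24, nat_lit 36, nat_lit 72]),(nat_lit 2,nat_lit 36,[nat_lit 2, nat_lit 3, nat_lit 4, nat_lit 6, nat_lit 9, nat_lit 12, nat_lit 18, nat_lit 36],mk [nat_lit 2, nat_lit 3, nat_lit 4, nat_lit 6, nat_lit 9, nat_lit 12, nat_lit 18, nat_lit 36]),(nat_lit 3,nat_lit 24,[nat_lit 2, nat_lit 3, nat_lit 4, nat_lit 6, nat_lit 8, nat_lit 12, nat_lit 24],mk [nat_lit 2, nat_lit 3, nat_lit 4, nat_lit 6, nat_lit 8, nat_lit 12, nat_lit 24]),(nat_lit 4,nat_lit 18,[nat_lit 2, nat_lit 3, nat_lit 6, nat_lit 9, nat_lit 18],mk [nat_lit 2, nat_lit 3, nat_lit 6, nat_lit 9,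 nat_lit 18]),(nat_lit 6,nat_lit 12,[nat_lit 2, nat_lit 3, nat_lit 4, nat_lit 6, nat_lit 12],mk [nat_lit 2, nat_lit 3, nat_lit 4, nat_lit 6, nat_lit 12]),(nat_lit 8,nat_lit 9,[nat_lit 3, nat_lit 9],mk [nat_lit 3, nat_lit 9]),(nat_lit 9,nat_lit 8,[nat_lit 2, nat_lit 4, nat_lit 8],mk [nat_lit 2, nat_lit 4, nat_lit 8])]⟩
def t74 : TE := ⟨nat_lit 74,nat_lit 0,nat_lit 2,[nat_lit 37],[nat_lit 2, nat_lit 37],mk [nat_lit 2, nat_lit 37],mk [nat_lit 37, nat_lit 2],[(nat_lit 1,nat_lit 36,[],mk []),(nat_lit 2,nat_lit 18,[],mk []),(nat_lit 3,nat_lit 12,[],mk []),(nat_lit 4,nat_lit 9,[],mk []),(nat_lit 6,nat_lit 6,[],mk []),(nat_lit 9,nat_lit 4,[],mk [])]⟩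
def t75 : TE := ⟨nat_lit 75,nat_lit 0,nat_lit 3,[nat_lit 5],[nat_lit 3, nat_lit 5, nat_lit 15, nat_lit 25],mk [nat_lit 3, nat_lit 5, nat_lit 15, nat_lit 25],mk [nat_lit 25],[(nat_lit 1,nat_lit 40,[],mk []),(nat_lit 2,nat_lit 20,[],mk []),(nat_lit 4,nat_lit 10,[],mk []),(nat_lit 5,nat_lit 8,[],mk []),(nat_lit 8,nat_lit 5,[],mk [])]⟩
def t76 : TE := ⟨nat_lit 76,nat_lit 0,nat_lit 2,[nat_lit 19],[nat_lit 2, nat_lit 4, nat_lit 19, nat_lit 38],mk [nat_lit 2, nat_lit 4, nat_lit 19, nat_lit 38],mk [nat_lit 4],[(nat_lit 1,nat_lit 36,[],mk []),(nat_lit 2,nat_lit 18,[],mk []),(nat_lit 3,nat_lit 12,[],mk []),(nat_lit 4,nat_lit 9,[],mk []),(nat_lit 6,nat_lit 6,[],mk []),(nat_lit 9,nat_lit 4,[],mk [])]⟩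
def t77 : TE := ⟨nat_lit 77,nat_lit 0,nat_lit 7,[nat_lit 11],[nat_lit 7, nat_lit 11],mk [nat_lit 7, nat_lit 11],mk [nat_lit 11, nat_lit 7],[(nat_lit 1,nat_lit 60,[],mk []),(nat_lit 2,nat_lit 30,[],mk []),(nat_lit 3,nat_lit 20,[],mk []),(nat_lit 4,nat_lit 15,[],mk []),(nat_lit 5,nat_lit 12,[],mk []),(nat_lit 6,nat_lit 10,[],mk [])]⟩
def t78 : TE := ⟨nat_lit 78,nat_lit 0,nat_lit 2,[nat_lit 13, nat_lit 3],[nat_lit 2, nat_lit 3, nat_lit 6, nat_lit 13, nat_lit 26, nat_lit 39],mk [nat_lit 2, nat_lit 3, nat_lit 6, nat_lit 13, nat_lit 26, nat_lit 39],mk [nat_lit 39, nat_lit 26, nat_lit 6],[(nat_lit 1,nat_lit 24,[],mk []),(nat_lit 2,nat_lit 12,[],mk []),(nat_lit 3,nat_lit 8,[],mk []),(nat_lit 4,nat_lit 6,[],mk []),(nat_lit 6,nat_lit 4,[],mk []),(nat_lit 8,nat_lit 3,[],mk [])]⟩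
def t79 : TE := ⟨nat_lit 79,nat_lit 79,nat_lit 79,[],[],mk [],mk [],[(nat_lit 1,nat_lit 78,[nat_lit 2, nat_lit 3, nat_lit 6, nat_lit 13, nat_lit 26, nat_lit 39, nat_lit 78],mk [nat_lit 2, nat_lit 3, nat_lit 6, nat_lit 13, nat_lit 26, nat_lit 39, nat_lit 78]),(nat_lit 2,nat_lit 39,[nat_lit 3, nat_lit 13, nat_lit 39],mk [nat_lit 3, nat_lit 13, nat_lit 39]),(nat_lit 3,nat_lit 26,[nat_lit 2, nat_lit 13, nat_lit 26],mk [nat_lit 2, nat_lit 13, nat_lit 26]),(nat_lit 6,nat_lit 13,[nat_lit 13],mk [nat_lit 13])]⟩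
def t80 : TE := ⟨nat_lit 80,nat_lit 0,nat_lit 2,[nat_lit 5],[nat_lit 2, nat_lit 4, nat_lit 5, nat_lit 8, nat_lit 10, nat_lit 16, nat_lit 20, nat_lit 40],mk [nat_lit 2, nat_lit 4, nat_lit 5, nat_lit 8, nat_lit 10, nat_lit 16, nat_lit 20, nat_lit 40],mk [nat_lit 16],[(nat_lit 1,nat_lit 32,[],mk []),(nat_lit 2,nat_lit 16,[],mk []),(nat_lit 4,nat_lit 8,[],mk []),(nat_lit 8,nat_lit 4,[],mk [])]⟩
def t81 : TE := ⟨nat_lit 81,nat_lit 3,nat_lit 3,[],[nat_lit 3, nat_lit 9, nat_lit 27],mk [nat_lit 3, nat_lit 9, nat_lit 27],mk [],[(nat_lit 1,nat_lit 54,[nat_lit 2, nat_lit 3, nat_lit 6, nat_lit 9, nat_lit 18, nat_lit 27, nat_lit 54],mk [nat_lit 2, nat_lit 3, nat_lit 6, nat_lit 9, nat_lit 18, nat_lit 27, nat_lit 54]),(nat_lit 2,nat_lit 27,[nat_lit 3, nat_lit 9, nat_lit 27],mk [nat_lit 3, nat_lit 9, nat_lit 27]),(nat_lit 3,nat_lit 18,[nat_lit 2, nat_lit 3, nat_lit 6, nat_lit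 9, nat_lit 18],mk [nat_lit 2, nat_lit 3, nat_lit 6, nat_lit 9, nat_lit 18]),(nat_lit 6,nat_lit 9,[nat_lit 3, nat_lit 9],mk [nat_lit 3, nat_lit 9]),(nat_lit 9,nat_lit 6,[nat_lit 2, nat_lit 3, nat_lit 6],mk [nat_lit 2, nat_lit 3, nat_lit 6])]⟩
def t82 : TE := ⟨nat_lit 82,nat_lit 0,nat_lit 2,[nat_lit 41],[nat_lit 2, nat_lit 41],mk [nat_lit 2, nat_lit 41],mk [nat_lit 41, nat_lit 2],[(nat_lit 1,nat_lit 40,[],mk []),(nat_lit 2,nat_lit 20,[],mk []),(nat_lit 4,nat_lit 10,[],mk []),(nat_lit 5,nat_lit 8,[],mk []),(nat_lit 8,nat_lit 5,[],mk [])]⟩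
def t83 : TE := ⟨nat_lit 83,nat_lit 83,nat_lit 83,[],[],mk [],mk [],[(nat_lit 1,nat_lit 82,[nat_lit 2, nat_lit 41, nat_lit 82],mk [nat_lit 2, nat_lit 41, nat_lit 82]),(nat_lit 2,nat_lit 41,[nat_lit 41],mk [nat_lit 41])]⟩
def t85 : TE := ⟨nat_lit 85,nat_lit 0,nat_lit 5,[nat_lit 17],[nat_lit 5, nat_lit 17],mk [nat_lit 5, nat_lit 17],mk [nat_lit 17, nat_lit 5],[(nat_lit 1,nat_lit 64,[],mk []),(nat_lit 2,nat_lit 32,[],mk []),(nat_lit 4,nat_lit 16,[],mk []),(nat_lit 8,nat_lit 8,[],mk [])]⟩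
def t86 : TE := ⟨nat_lit 86,nat_lit 0,nat_lit 2,[nat_lit 43],[nat_lit 2, nat_lit 43],mk [nat_lit 2, nat_lit 43],mk [nat_lit 43, nat_lit 2],[(nat_lit 1,nat_lit 42,[],mk []),(nat_lit 2,nat_lit 21,[],mk []),(nat_lit 3,nat_lit 14,[],mk []),(nat_lit 6,nat_lit 7,[],mk []),(nat_lit 7,nat_lit 6,[],mk [])]⟩
def t87 : TE := ⟨nat_lit 87,nat_lit 0,nat_lit 3,[nat_lit 29],[nat_lit 3, nat_lit 29],mk [nat_lit 3, nat_lit 29],mk [nat_lit 29, nat_lit 3],[(nat_lit 1,nat_lit 56,[],mk []),(nat_lit 2,nat_lit 28,[],mk []),(nat_lit 4,nat_lit 14,[],mk []),(nat_lit 7,nat_lit 8,[],mk []),(nat_lit 8,nat_lit 7,[],mk [])]⟩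
def t88 : TE := ⟨nat_lit 88,nat_lit 0,nat_lit 2,[nat_lit 11],[nat_lit 2, nat_lit 4, nat_lit 8, nat_lit 11, nat_lit 22, nat_lit 44],mk [nat_lit 2, nat_lit 4, nat_lit 8, nat_lit 11, nat_lit 22, nat_lit 44],mk [nat_lit 8],[(nat_lit 1,nat_lit 40,[],mk []),(nat_lit 2,nat_lit 20,[],mk []),(nat_lit 4,nat_lit 10,[],mk []),(nat_lit 5,nat_lit 8,[],mk []),(nat_lit 8,nat_lit 5,[],mk [])]⟩
def t89 : TE := ⟨nat_lit 89,nat_lit 89,nat_lit 89,[],[],mk [],mk [],[(nat_lit 1,nat_lit 88,[nat_lit 2, nat_lit 4, nat_lit 8, nat_lit 11, nat_lit 22, nat_lit 44, nat_lit 88],mk [nat_lit 2, nat_lit 4, nat_lit 8, nat_lit 11, nat_lit 22, nat_lit 44, nat_lit 88]),(nat_lit 2,nat_lit 44,[nat_lit 2, nat_lit 4, nat_lit 11, nat_lit 22, nat_lit 44],mk [nat_lit 2, nat_lit 4, nat_lit 11, nat_lit 22, nat_lit 44]),(nat_lit 4,nat_lit 22,[nat_lit 2, nat_lit 11, nat_lit 22],mk [nat_lit 2, nat_lit 11, nat_lit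 22]),(nat_lit 8,nat_lit 11,[nat_lit 11],mk [nat_lit 11])]⟩
def t91 : TE := ⟨nat_lit 91,nat_lit 0,nat_lit 7,[nat_lit 13],[nat_lit 7, nat_lit 13],mk [nat_lit 7, nat_lit 13],mk [nat_lit 13, nat_lit 7],[(nat_lit 1,nat_lit 72,[],mk []),(nat_lit 2,nat_lit 36,[],mk []),(nat_lit 3,nat_lit 24,[],mk []),(nat_lit 4,nat_lit 18,[],mk []),(nat_lit 6,nat_lit 12,[],mk []),(nat_lit 8,nat_lit 9,[],mk []),(nat_lit 9,nat_lit 8,[],mk [])]⟩
def t92 : TE := ⟨nat_lit 92,nat_lit 0,nat_lit 2,[nat_lit 23],[nat_lit 2, nat_lit 4, nat_lit 23, nat_lit 46],mk [nat_lit 2, nat_lit 4, nat_lit 23, nat_lit 46],mk [nat_lit 4],[(nat_lit 1,nat_lit 44,[],mk []),(nat_lit 2,nat_lit 22,[],mk []),(nat_lit 4,nat_lit 11,[],mk [])]⟩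
def t93 : TE := ⟨nat_lit 93,nat_lit 0,nat_lit 3,[nat_lit 31],[nat_lit 3, nat_lit 31],mk [nat_lit 3, nat_lit 31],mk [nat_lit 31, nat_lit 3],[(nat_lit 1,nat_lit 60,[],mk []),(nat_lit 2,nat_lit 30,[],mk []),(nat_lit 3,nat_lit 20,[],mk []),(nat_lit 4,nat_lit 15,[],mk []),(nat_lit 5,nat_lit 12,[],mk []),(nat_lit 6,nat_lit 10,[],mk [])]⟩
def t95 : TE := ⟨nat_lit 95,nat_lit 0,nat_lit 5,[nat_lit 19],[nat_lit 5, nat_lit 19],mk [nat_lit 5, nat_lit 19],mk [nat_lit 19, nat_lit 5],[(nat_lit 1,nat_lit 72,[],mk []),(nat_lit 2,nat_lit 36,[],mk []),(nat_lit 3,nat_lit 24,[],mk []),(nat_lit 4,nat_lit 18,[],mk []),(nat_lit 6,nat_lit 12,[],mk []),(nat_lit 8,nat_lit 9,[],mk []),(nat_lit 9,nat_lit 8,[],mk [])]⟩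
def t97 : TE := ⟨nat_lit 97,nat_lit 97,nat_lit 97,[],[],mk [],mk [],[(nat_lit 1,nat_lit 96,[nat_lit 2, nat_lit 3, nat_lit 4, nat_lit 6, nat_lit 8, nat_lit 12, nat_lit 16, nat_lit 24, nat_lit 32, nat_lit 48, nat_lit 96],mk [nat_lit 2, nat_lit 3, nat_lit 4, nat_lit 6, nat_lit 8, nat_lit 12, nat_lit 16, nat_lit 24, nat_lit 32, nat_lit 48, nat_lit 96]),(nat_lit 2,nat_lit 48,[nat_lit 2, nat_lit 3, nat_lit 4, nat_lit 6, nat_lit 8, nat_lit 12, nat_lit 16, nat_lit 24, nat_lit 48],mk [nat_lit 2, nat_lit 3, nat_lit 4, nat_lit 6, nat_lit 8, nat_lit 12, nat_lit 16, nat_lit 24, nat_lit 48]),(nat_lit 3,nat_lit 32,[nat_lit 2, nat_lit 4, nat_lit 8, nat_lit 16, nat_lit 32],mk [nat_lit 2, nat_lit 4, nat_lit 8, nat_lit 16, nat_lit 32]),(nat_lit 4,nat_lit 24,[nat_lit 2, nat_lit 3, nat_lit 4, nat_lit 6, nat_lit 8, nat_lit 12, nat_lit 24],mk [nat_lit 2, nat_lit 3, nat_lit 4, nat_lit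 6, nat_lit 8, nat_lit 12, nat_lit 24]),(nat_lit 6,nat_lit 16,[nat_lit 2, nat_lit 4, nat_lit 8, nat_lit 16],mk [nat_lit 2, nat_lit 4, nat_lit 8, nat_lit 16]),(nat_lit 8,nat_lit 12,[nat_lit 2, nat_lit 3, nat_lit 4, nat_lit 6, nat_lit 12],mk [nat_lit 2, nat_lit 3, nat_lit 4, nat_lit 6, nat_lit 12])]⟩
def t98 : TE := ⟨nat_lit 98,nat_lit 0,nat_lit 2,[nat_lit 7],[nat_lit 2, nat_lit 7, nat_lit 14, nat_lit 49],mk [nat_lit 2, nat_lit 7, nat_lit 14, nat_lit 49],mk [nat_lit 49],[(nat_lit 1,nat_lit 42,[],mk []),(nat_lit 2,nat_lit 21,[],mk []),(nat_lit 3,nat_lit 14,[],mk []),(nat_lit 6,nat_lit 7,[],mk []),(nat_lit 7,nat_lit 6,[],mk [])]⟩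
def t99 : TE := ⟨nat_lit 99,nat_lit 0,nat_lit 3,[nat_lit 11],[nat_lit 3, nat_lit 9, nat_lit 11, nat_lit 33],mk [nat_lit 3, nat_lit 9, nat_lit 11, nat_lit 33],mk [nat_lit 9],[(nat_lit 1,nat_lit 60,[],mk []),(nat_lit 2,nat_lit 30,[],mk []),(nat_lit 3,nat_lit 20,[],mk []),(nat_lit 4,nat_lit 15,[],mk []),(nat_lit 5,nat_lit 12,[],mk []),(nat_lit 6,nat_lit 10,[],mk [])]⟩
def t100 : TE := ⟨nat_lit 100,nat_lit 0,nat_lit 2,[nat_lit 5],[nat_lit 2, nat_lit 4, nat_lit 5, nat_lit 10, nat_lit 20, nat_lit 25, nat_lit 50],mk [nat_lit 2, nat_lit 4, nat_lit 5, nat_lit 10, nat_lit 20, nat_lit 25, nat_lit 50],mk [],[(nat_lit 1,nat_lit 40,[],mk []),(nat_lit 2,nat_lit 20,[],mk []),(nat_lit 4,nat_lit 10,[],mk []),(nat_lit 5,nat_lit 8,[],mk []),(nat_lit 8,nat_lit 5,[],mk [])]⟩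
def t101 : TE := ⟨nat_lit 101,nat_lit 101,nat_lit 101,[],[],mk [],mk [],[(nat_lit 1,nat_lit 100,[nat_lit 2, nat_lit 4, nat_lit 5, nat_lit 10, nat_lit 20, nat_lit 25, nat_lit 50, nat_lit 100],mk [nat_lit 2, nat_lit 4, nat_lit 5, nat_lit 10, nat_lit 20, nat_lit 25, nat_lit 50, nat_lit 100]),(nat_lit 2,nat_lit 50,[nat_lit 2, nat_lit 5, nat_lit 10, nat_lit 25, nat_lit 50],mk [nat_lit 2, nat_lit 5, nat_lit 10, nat_lit 25, nat_lit 50]),(nat_lit 4,nat_lit 25,[nat_lit 5, nat_lit 25],mk [nat_lit 5, nat_lit 25]),(nat_lit 5,nat_lit 20,[nat_lit 2, nat_lit 4, nat_lit 5, nat_lit 10, nat_lit 20],mk [nat_lit 2, nat_lit 4, nat_lit 5, nat_lit 10, nat_lit 20])]⟩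
def t103 : TE := ⟨nat_lit 103,nat_lit 103,nat_lit 103,[],[],mk [],mk [],[(nat_lit 1,nat_lit 102,[nat_lit 2, nat_lit 3, nat_lit 6, nat_lit 17, nat_lit 34, nat_lit 51, nat_lit 102],mk [nat_lit 2, nat_lit 3, nat_lit 6, nat_lit 17, nat_lit 34, nat_lit 51, nat_lit 102]),(nat_lit 2,nat_lit 51,[nat_lit 3, nat_lit 17, nat_lit 51],mk [nat_lit 3, nat_lit 17, nat_lit 51]),(nat_lit 3,nat_lit 34,[nat_lit 2, nat_lit 17, nat_lit 34],mk [nat_lit 2, nat_lit 17, nat_lit 34]),(nat_lit 6,nat_lit 17,[nat_lit 17],mk [nat_lit 17])]⟩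
def t104 : TE := ⟨nat_lit 104,nat_lit 0,nat_lit 2,[nat_lit 13],[nat_lit 2, nat_lit 4, nat_lit 8, nat_lit 13, nat_lit 26, nat_lit 52],mk [nat_lit 2, nat_lit 4, nat_lit 8, nat_lit 13, nat_lit 26, nat_lit 52],mk [nat_lit 8],[(nat_lit 1,nat_lit 48,[],mk []),(nat_lit 2,nat_lit 24,[],mk []),(nat_lit 3,nat_lit 16,[],mk []),(nat_lit 4,nat_lit 12,[],mk []),(nat_lit 6,nat_lit 8,[],mk []),(nat_lit 8,nat_lit 6,[],mk [])]⟩
def t106 : TE := ⟨nat_lit 106,nat_lit 0,nat_lit 2,[nat_lit 53],[nat_lit 2, nat_lit 53],mk [nat_lit 2, nat_lit 53],mk [nat_lit 53, nat_lit 2],[(nat_lit 1,nat_lit 52,[],mk []),(nat_lit 2,nat_lit 26,[],mk []),(nat_lit 4,nat_lit 13,[],mk [])]⟩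
def t109 : TE := ⟨nat_lit 109,nat_lit 109,nat_lit 109,[],[],mk [],mk [],[(nat_lit 1,nat_lit 108,[nat_lit 2, nat_lit 3, nat_lit 4, nat_lit 6, nat_lit 9, nat_lit 12, nat_lit 18, nat_lit 27, nat_lit 36, nat_lit 54, nat_lit 108],mk [nat_lit 2, nat_lit 3, nat_lit 4, nat_lit 6, nat_lit 9, nat_lit 12, nat_lit 18, nat_lit 27, nat_lit 36, nat_lit 54, nat_lit 108]),(nat_lit 2,nat_lit 54,[nat_lit 2, nat_lit 3, nat_lit 6, nat_lit 9, nat_lit 18, nat_lit 27, nat_lit 54],mk [nat_lit 2, nat_lit 3, nat_lit 6, nat_lit 9, nat_lit 18, nat_lit 27, nat_lit 54]),(nat_lit 3,nat_lit 36,[nat_lit 2, nat_lit 3, nat_lit 4, nat_lit 6, nat_lit 9, nat_lit 12, nat_lit 18, nat_lit 36],mk [nat_lit 2, nat_lit 3, nat_lit 4, nat_lit 6, nat_lit 9, nat_lit 12, nat_lit 18, nat_lit 36]),(nat_lit 4,nat_lit 27,[nat_lit 3, nat_lit 9, nat_lit 27],mk [nat_lit 3, nat_lit 9, nat_lit 27]),(nat_lit 6,nat_lit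 18,[nat_lit 2, nat_lit 3, nat_lit 6, nat_lit 9, nat_lit 18],mk [nat_lit 2, nat_lit 3, nat_lit 6, nat_lit 9, nat_lit 18]),(nat_lit 9,nat_lit 12,[nat_lit 2, nat_lit 3, nat_lit 4, nat_lit 6, nat_lit 12],mk [nat_lit 2, nat_lit 3, nat_lit 4, nat_lit 6, nat_lit 12])]⟩
def t110 : TE := ⟨nat_lit 110,nat_lit 0,nat_lit 2,[nat_lit 11, nat_lit 5],[nat_lit 2, nat_lit 5, nat_lit 10, nat_lit 11, nat_lit 22, nat_lit 55],mk [nat_lit 2, nat_lit 5, nat_lit 10, nat_lit 11, nat_lit 22, nat_lit 55],mk [nat_lit 55, nat_lit 22, nat_lit 10],[(nat_lit 1,nat_lit 40,[],mk []),(nat_lit 2,nat_lit 20,[],mk []),(nat_lit 4,nat_lit 10,[],mk []),(nat_lit 5,nat_lit 8,[],mk []),(nat_lit 8,nat_lit 5,[],mk [])]⟩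
def t111 : TE := ⟨nat_lit 111,nat_lit 0,nat_lit 3,[nat_lit 37],[nat_lit 3, nat_lit 37],mk [nat_lit 3, nat_lit 37],mk [nat_lit 37, nat_lit 3],[(nat_lit 1,nat_lit 72,[],mk []),(nat_lit 2,nat_lit 36,[],mk []),(nat_lit 3,nat_lit 24,[],mk []),(nat_lit 4,nat_lit 18,[],mk []),(nat_lit 6,nat_lit 12,[],mk []),(nat_lit 8,nat_lit 9,[],mk []),(nat_lit 9,nat_lit 8,[],mk [])]⟩
def t114 : TE := ⟨nat_lit 114,nat_lit 0,nat_lit 2,[nat_lit 19, nat_lit 3],[nat_lit 2, nat_lit 3, nat_lit 6, nat_lit 19, nat_lit 38, nat_lit 57],mk [nat_lit 2, nat_lit 3, nat_lit 6, nat_lit 19, nat_lit 38, nat_lit 57],mk [nat_lit 57, nat_lit 38, nat_lit 6],[(nat_lit 1,nat_lit 36,[],mk []),(nat_lit 2,nat_lit 18,[],mk []),(nat_lit 3,nat_lit 12,[],mk []),(nat_lit 4,nat_lit 9,[],mk []),(nat_lit 6,nat_lit 6,[],mk []),(nat_lit 9,nat_lit 4,[],mk [])]⟩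
def t115 : TE := ⟨nat_lit 115,nat_lit 0,nat_lit 5,[nat_lit 23],[nat_lit 5, nat_lit 23],mk [nat_lit 5, nat_lit 23],mk [nat_lit 23, nat_lit 5],[(nat_lit 1,nat_lit 88,[],mk []),(nat_lit 2,nat_lit 44,[],mk []),(nat_lit 4,nat_lit 22,[],mk []),(nat_lit 8,nat_lit 11,[],mk [])]⟩
def t117 : TE := ⟨nat_lit 117,nat_lit 0,nat_lit 3,[nat_lit 13],[nat_lit 3, nat_lit 9, nat_lit 13, nat_lit 39],mk [nat_lit 3, nat_lit 9, nat_lit 13, nat_lit 39],mk [nat_lit 9],[(nat_lit 1,nat_lit 72,[],mk []),(nat_lit 2,nat_lit 36,[],mk []),(nat_lit 3,nat_lit 24,[],mk []),(nat_lit 4,nat_lit 18,[],mk []),(nat_lit 6,nat_lit 12,[],mk []),(nat_lit 8,nat_lit 9,[],mk []),(nat_lit 9,nat_lit 8,[],mk [])]⟩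
def t119 : TE := ⟨nat_lit 119,nat_lit 0,nat_lit 7,[nat_lit 17],[nat_lit 7, nat_lit 17],mk [nat_lit 7, nat_lit 17],mk [nat_lit 17, nat_lit 7],[(nat_lit 1,nat_lit 96,[],mk []),(nat_lit 2,nat_lit 48,[],mk []),(nat_lit 3,nat_lit 32,[],mk []),(nat_lit 4,nat_lit 24,[],mk []),(nat_lit 6,nat_lit 16,[],mk []),(nat_lit 8,nat_lit 12,[],mk [])]⟩
def t121 : TE := ⟨nat_lit 121,nat_lit 11,nat_lit 11,[],[nat_lit 11],mk [nat_lit 11],mk [],[(nat_lit 1,nat_lit 110,[nat_lit 2, nat_lit 5, nat_lit 10, nat_lit 11, nat_lit 22, nat_lit 55, nat_lit 110],mk [nat_lit 2, nat_lit 5, nat_lit 10, nat_lit 11, nat_lit 22, nat_lit 55, nat_lit 110]),(nat_lit 2,nat_lit 55,[nat_lit 5, nat_lit 11, nat_lit 55],mk [nat_lit 5, nat_lit 11, nat_lit 55]),(nat_lit 5,nat_lit 22,[nat_lit 2, nat_lit 11, nat_lit 22],mk [nat_lit 2, nat_lit 11, nat_lit 22])]⟩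
def t122 : TE := ⟨nat_lit 122,nat_lit 0,nat_lit 2,[nat_lit 61],[nat_lit 2, nat_lit 61],mk [nat_lit 2, nat_lit 61],mk [nat_lit 61, nat_lit 2],[(nat_lit 1,nat_lit 60,[],mk []),(nat_lit 2,nat_lit 30,[],mk []),(nat_lit 3,nat_lit 20,[],mk []),(nat_lit 4,nat_lit 15,[],mk []),(nat_lit 5,nat_lit 12,[],mk []),(nat_lit 6,nat_lit 10,[],mk [])]⟩
def t123 : TE := ⟨nat_lit 123,nat_lit 0,nat_lit 3,[nat_lit 41],[nat_lit 3, nat_lit 41],mk [nat_lit 3, nat_lit 41],mk [nat_lit 41, nat_lit 3],[(nat_lit 1,nat_lit 80,[],mk []),(nat_lit 2,nat_lit 40,[],mk []),(nat_lit 4,nat_lit 20,[],mk []),(nat_lit 5,nat_lit 16,[],mk []),(nat_lit 8,nat_lit 10,[],mk [])]⟩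
def t124 : TE := ⟨nat_lit 124,nat_lit 0,nat_lit 2,[nat_lit 31],[nat_lit 2, nat_lit 4, nat_lit 31, nat_lit 62],mk [nat_lit 2, nat_lit 4, nat_lit 31, nat_lit 62],mk [nat_lit 4],[(nat_lit 1,nat_lit 60,[],mk []),(nat_lit 2,nat_lit 30,[],mk []),(nat_lit 3,nat_lit 20,[],mk []),(nat_lit 4,nat_lit 15,[],mk []),(nat_lit 5,nat_lit 12,[],mk []),(nat_lit 6,nat_lit 10,[],mk [])]⟩
def t125 : TE := ⟨nat_lit 125,nat_lit 5,nat_lit 5,[],[nat_lit 5, nat_lit 25],mk [nat_lit 5, nat_lit 25],mk [],[(nat_lit 1,nat_lit 100,[nat_lit 2, nat_lit 4, nat_lit 5, nat_lit 10, nat_lit 20, nat_lit 25, nat_lit 50, nat_lit 100],mk [nat_lit 2, nat_lit 4, nat_lit 5, nat_lit 10, nat_lit 20, nat_lit 25, nat_lit 50, nat_lit 100]),(nat_lit 2,nat_lit 50,[nat_lit 2, nat_lit 5, nat_lit 10, nat_lit 25, nat_lit 50],mk [nat_lit 2, nat_lit 5, nat_lit 10, nat_lit 25, nat_lit 50]),(nat_lit 4,nat_lit 25,[nat_lit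 5, nat_lit 25],mk [nat_lit 5, nat_lit 25]),(nat_lit 5,nat_lit 20,[nat_lit 2, nat_lit 4, nat_lit 5, nat_lit 10, nat_lit 20],mk [nat_lit 2, nat_lit 4, nat_lit 5, nat_lit 10, nat_lit 20])]⟩
def t127 : TE := ⟨nat_lit 127,nat_lit 127,nat_lit 127,[],[],mk [],mk [],[(nat_lit 1,nat_lit 126,[nat_lit 2, nat_lit 3, nat_lit 6, nat_lit 7, nat_lit 9, nat_lit 14, nat_lit 18, nat_lit 21, nat_lit 42, nat_lit 63, nat_lit 126],mk [nat_lit 2, nat_lit 3, nat_lit 6, nat_lit 7, nat_lit 9, nat_lit 14, nat_lit 18, nat_lit 21, nat_lit 42, nat_lit 63, nat_lit 126]),(nat_lit 2,nat_lit 63,[nat_lit 3, nat_lit 7, nat_lit 9, nat_lit 21, nat_lit 63],mk [nat_lit 3, nat_lit 7, nat_lit 9, nat_lit 21, nat_lit 63]),(nat_lit 3,nat_lit 42,[nat_lit 2, nat_lit 3, nat_lit 6, nat_lit 7, nat_lit 14, nat_lit 21, nat_lit 42],mk [nat_lit 2, nat_lit 3, nat_lit 6, nat_lit 7, nat_lit 14, nat_lit 21, nat_lit 42]),(nat_lit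 6,nat_lit 21,[nat_lit 3, nat_lit 7, nat_lit 21],mk [nat_lit 3, nat_lit 7, nat_lit 21]),(nat_lit 7,nat_lit 18,[nat_lit 2, nat_lit 3, nat_lit 6, nat_lit 9, nat_lit 18],mk [nat_lit 2, nat_lit 3, nat_lit 6, nat_lit 9, nat_lit 18]),(nat_lit 9,nat_lit 14,[nat_lit 2, nat_lit 7, nat_lit 14],mk [nat_lit 2, nat_lit 7, nat_lit 14])]⟩
def t128 : TE := ⟨nat_lit 128,nat_lit 2,nat_lit 2,[],[nat_lit 2, nat_lit 4, nat_lit 8, nat_lit 16, nat_lit 32, nat_lit 64],mk [nat_lit 2, nat_lit 4, nat_lit 8, nat_lit 16, nat_lit 32, nat_lit 64],mk [],[(nat_lit 1,nat_lit 64,[],mk []),(nat_lit 2,nat_lit 32,[],mk []),(nat_lit 4,nat_lit 16,[],mk []),(nat_lit 8,nat_lit 8,[],mk [])]⟩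
def t129 : TE := ⟨nat_lit 129,nat_lit 0,nat_lit 3,[nat_lit 43],[nat_lit 3, nat_lit 43],mk [nat_lit 3, nat_lit 43],mk [nat_lit 43, nat_lit 3],[(nat_lit 1,nat_lit 84,[],mk []),(nat_lit 2,nat_lit 42,[],mk []),(nat_lit 3,nat_lit 28,[],mk []),(nat_lit 4,nat_lit 21,[],mk []),(nat_lit 6,nat_lit 14,[],mk []),(nat_lit 7,nat_lit 12,[],mk [])]⟩
def t131 : TE := ⟨nat_lit 131,nat_lit 131,nat_lit 131,[],[],mk [],mk [],[(nat_lit 1,nat_lit 130,[nat_lit 2, nat_lit 5, nat_lit 10, nat_lit 13, nat_lit 26, nat_lit 65, nat_lit 130],mk [nat_lit 2, nat_lit 5, nat_lit 10, nat_lit 13, nat_lit 26, nat_lit 65, nat_lit 130]),(nat_lit 2,nat_lit 65,[nat_lit 5, nat_lit 13, nat_lit 65],mk [nat_lit 5, nat_lit 13, nat_lit 65]),(nat_lit 5,nat_lit 26,[nat_lit 2, nat_lit 13, nat_lit 26],mk [nat_lit 2, nat_lit 13, nat_lit 26])]⟩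
def t133 : TE := ⟨nat_lit 133,nat_lit 0,nat_lit 7,[nat_lit 19],[nat_lit 7, nat_lit 19],mk [nat_lit 7, nat_lit 19],mk [nat_lit 19, nat_lit 7],[(nat_lit 1,nat_lit 108,[],mk []),(nat_lit 2,nat_lit 54,[],mk []),(nat_lit 3,nat_lit 36,[],mk []),(nat_lit 4,nat_lit 27,[],mk []),(nat_lit 6,nat_lit 18,[],mk []),(nat_lit 9,nat_lit 12,[],mk [])]⟩
def t135 : TE := ⟨nat_lit 135,nat_lit 0,nat_lit 3,[nat_lit 5],[nat_lit 3, nat_lit 5, nat_lit 9, nat_lit 15, nat_lit 27, nat_lit 45],mk [nat_lit 3, nat_lit 5, nat_lit 9, nat_lit 15, nat_lit 27, nat_lit 45],mk [nat_lit 27],[(nat_lit 1,nat_lit 72,[],mk []),(nat_lit 2,nat_lit 36,[],mk []),(nat_lit 3,nat_lit 24,[],mk []),(nat_lit 4,nat_lit 18,[],mk []),(nat_lit 6,nat_lit 12,[],mk []),(nat_lit 8,nat_lit 9,[],mk []),(nat_lit 9,nat_lit 8,[],mk [])]⟩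
def t136 : TE := ⟨nat_lit 136,nat_lit 0,nat_lit 2,[nat_lit 17],[nat_lit 2, nat_lit 4, nat_lit 8, nat_lit 17, nat_lit 34, nat_lit 68],mk [nat_lit 2, nat_lit 4, nat_lit 8, nat_lit 17, nat_lit 34, nat_lit 68],mk [nat_lit 8],[(nat_lit 1,nat_lit 64,[],mk []),(nat_lit 2,nat_lit 32,[],mk []),(nat_lit 4,nat_lit 16,[],mk []),(nat_lit 8,nat_lit 8,[],mk [])]⟩
def t137 : TE := ⟨nat_lit 137,nat_lit 137,nat_lit 137,[],[],mk [],mk [],[(nat_lit 1,nat_lit 136,[nat_lit 2, nat_lit 4, nat_lit 8, nat_lit 17, nat_lit 34, nat_lit 68, nat_lit 136],mk [nat_lit 2, nat_lit 4, nat_lit 8, nat_lit 17, nat_lit 34, nat_lit 68, nat_lit 136]),(nat_lit 2,nat_lit 68,[nat_lit 2, nat_lit 4, nat_lit 17, nat_lit 34, nat_lit 68],mk [nat_lit 2, nat_lit 4, nat_lit 17, nat_lit 34, nat_lit 68]),(nat_lit 4,nat_lit 34,[nat_lit 2, nat_lit 17, nat_lit 34],mk [nat_lit 2, nat_lit 17, nat_lit 34]),(nat_lit 8,nat_lit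 17,[nat_lit 17],mk [nat_lit 17])]⟩
def t143 : TE := ⟨nat_lit 143,nat_lit 0,nat_lit 11,[nat_lit 13],[nat_lit 11, nat_lit 13],mk [nat_lit 11, nat_lit 13],mk [nat_lit 13, nat_lit 11],[(nat_lit 1,nat_lit 120,[],mk []),(nat_lit 2,nat_lit 60,[],mk []),(nat_lit 3,nat_lit 40,[],mk []),(nat_lit 4,nat_lit 30,[],mk []),(nat_lit 5,nat_lit 24,[],mk []),(nat_lit 6,nat_lit 20,[],mk []),(nat_lit 8,nat_lit 15,[],mk [])]⟩
def t147 : TE := ⟨nat_lit 147,nat_lit 0,nat_lit 3,[nat_lit 7],[nat_lit 3, nat_lit 7, nat_lit 21, nat_lit 49],mk [nat_lit 3, nat_lit 7, nat_lit 21, nat_lit 49],mk [nat_lit 49],[(nat_lit 1,nat_lit 84,[],mk []),(nat_lit 2,nat_lit 42,[],mk []),(nat_lit 3,nat_lit 28,[],mk []),(nat_lit 4,nat_lit 21,[],mk []),(nat_lit 6,nat_lit 14,[],mk []),(nat_lit 7,nat_lit 12,[],mk [])]⟩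
def t151 : TE := ⟨nat_lit 151,nat_lit 151,nat_lit 151,[],[],mk [],mk [],[(nat_lit 1,nat_lit 150,[nat_lit 2, nat_lit 3, nat_lit 5, nat_lit 6, nat_lit 10, nat_lit 15, nat_lit 25, nat_lit 30, nat_lit 50, nat_lit 75, nat_lit 150],mk [nat_lit 2, nat_lit 3, nat_lit 5, nat_lit 6, nat_lit 10, nat_lit 15, nat_lit 25, nat_lit 30, nat_lit 50, nat_lit 75, nat_lit 150]),(nat_lit 2,nat_lit 75,[nat_lit 3, nat_lit 5, nat_lit 15, nat_lit 25, nat_lit 75],mk [nat_lit 3, nat_lit 5, nat_lit 15, nat_lit 25, nat_lit 75]),(nat_lit 3,nat_lit 50,[nat_lit 2, nat_lit 5, nat_lit 10, nat_lit 25, nat_lit 50],mk [nat_lit 2, nat_lit 5, nat_lit 10, nat_lit 25, nat_lit 50]),(nat_lit 5,nat_lit 30,[nat_lit 2, nat_lit 3, nat_lit 5, nat_lit 6, nat_lit 10, nat_lit 15, nat_lit 30],mk [nat_lit 2, nat_lit 3, nat_lit 5, nat_lit 6, nat_lit 10, nat_lit 15, nat_lit 30]),(nat_lit 6,nat_lit 25,[nat_lit 5, nat_lit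 25],mk [nat_lit 5, nat_lit 25])]⟩
def t153 : TE := ⟨nat_lit 153,nat_lit 0,nat_lit 3,[nat_lit 17],[nat_lit 3, nat_lit 9, nat_lit 17, nat_lit 51],mk [nat_lit 3, nat_lit 9, nat_lit 17, nat_lit 51],mk [nat_lit 9],[(nat_lit 1,nat_lit 96,[],mk []),(nat_lit 2,nat_lit 48,[],mk []),(nat_lit 3,nat_lit 32,[],mk []),(nat_lit 4,nat_lit 24,[],mk []),(nat_lit 6,nat_lit 16,[],mk []),(nat_lit 8,nat_lit 12,[],mk [])]⟩
def t155 : TE := ⟨nat_lit 155,nat_lit 0,nat_lit 5,[nat_lit 31],[nat_lit 5, nat_lit 31],mk [nat_lit 5, nat_lit 31],mk [nat_lit 31, nat_lit 5],[(nat_lit 1,nat_lit 120,[],mk []),(nat_lit 2,nat_lit 60,[],mk []),(nat_lit 3,nat_lit 40,[],mk []),(nat_lit 4,nat_lit 30,[],mk []),(nat_lit 5,nat_lit 24,[],mk []),(nat_lit 6,nat_lit 20,[],mk []),(nat_lit 8,nat_lit 15,[],mk [])]⟩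
def t158 : TE := ⟨nat_lit 158,nat_lit 0,nat_lit 2,[nat_lit 79],[nat_lit 2, nat_lit 79],mk [nat_lit 2, nat_lit 79],mk [nat_lit 79, nat_lit 2],[(nat_lit 1,nat_lit 78,[],mk []),(nat_lit 2,nat_lit 39,[],mk []),(nat_lit 3,nat_lit 26,[],mk []),(nat_lit 6,nat_lit 13,[],mk [])]⟩
def t159 : TE := ⟨nat_lit 159,nat_lit 0,nat_lit 3,[nat_lit 53],[nat_lit 3, nat_lit 53],mk [nat_lit 3, nat_lit 53],mk [nat_lit 53, nat_lit 3],[(nat_lit 1,nat_lit 104,[],mk []),(nat_lit 2,nat_lit 52,[],mk []),(nat_lit 4,nat_lit 26,[],mk []),(nat_lit 8,nat_lit 13,[],mk [])]⟩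
def t162 : TE := ⟨nat_lit 162,nat_lit 0,nat_lit 2,[nat_lit 3],[nat_lit 2, nat_lit 3, nat_lit 6, nat_lit 9, nat_lit 18, nat_lit 27, nat_lit 54, nat_lit 81],mk [nat_lit 2, nat_lit 3, nat_lit 6, nat_lit 9, nat_lit 18, nat_lit 27, nat_lit 54, nat_lit 81],mk [nat_lit 81],[(nat_lit 1,nat_lit 54,[],mk []),(nat_lit 2,nat_lit 27,[],mk []),(nat_lit 3,nat_lit 18,[],mk []),(nat_lit 6,nat_lit 9,[],mk []),(nat_lit 9,nat_lit 6,[],mk [])]⟩
def t163 : TE := ⟨nat_lit 163,nat_lit 163,nat_lit 163,[],[],mk [],mk [],[(nat_lit 1,nat_lit 162,[nat_lit 2, nat_lit 3, nat_lit 6, nat_lit 9, nat_lit 18, nat_lit 27, nat_lit 54, nat_lit 81, nat_lit 162],mk [nat_lit 2, nat_lit 3, nat_lit 6, nat_lit 9, nat_lit 18, nat_lit 27, nat_lit 54, nat_lit 81, nat_lit 162]),(nat_lit 2,nat_lit 81,[nat_lit 3, nat_lit 9, nat_lit 27, nat_lit 81],mk [nat_lit 3, nat_lit 9, nat_lit 27, nat_lit 81]),(nat_lit 3,nat_lit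 54,[nat_lit 2, nat_lit 3, nat_lit 6, nat_lit 9, nat_lit 18, nat_lit 27, nat_lit 54],mk [nat_lit 2, nat_lit 3, nat_lit 6, nat_lit 9, nat_lit 18, nat_lit 27, nat_lit 54]),(nat_lit 6,nat_lit 27,[nat_lit 3, nat_lit 9, nat_lit 27],mk [nat_lit 3, nat_lit 9, nat_lit 27]),(nat_lit 9,nat_lit 18,[nat_lit 2, nat_lit 3, nat_lit 6, nat_lit 9, nat_lit 18],mk [nat_lit 2, nat_lit 3, nat_lit 6, nat_lit 9, nat_lit 18])]⟩
def t164 : TE := ⟨nat_lit 164,nat_lit 0,nat_lit 2,[nat_lit 41],[nat_lit 2, nat_lit 4, nat_lit 41, nat_lit 82],mk [nat_lit 2, nat_lit 4, nat_lit 41, nat_lit 82],mk [nat_lit 4],[(nat_lit 1,nat_lit 80,[],mk []),(nat_lit 2,nat_lit 40,[],mk []),(nat_lit 4,nat_lit 20,[],mk []),(nat_lit 5,nat_lit 16,[],mk []),(nat_lit 8,nat_lit 10,[],mk [])]⟩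
def t169 : TE := ⟨nat_lit 169,nat_lit 13,nat_lit 13,[],[nat_lit 13],mk [nat_lit 13],mk [],[(nat_lit 1,nat_lit 156,[nat_lit 2, nat_lit 3, nat_lit 4, nat_lit 6, nat_lit 12, nat_lit 13, nat_lit 26, nat_lit 39, nat_lit 52, nat_lit 78, nat_lit 156],mk [nat_lit 2, nat_lit 3, nat_lit 4, nat_lit 6, nat_lit 12, nat_lit 13, nat_lit 26, nat_lit 39, nat_lit 52, nat_lit 78, nat_lit 156]),(nat_lit 2,nat_lit 78,[nat_lit 2, nat_lit 3, nat_lit 6, nat_lit 13, nat_lit 26, nat_lit 39, nat_lit 78],mk [nat_lit 2, nat_lit 3, nat_lit 6, nat_lit 13, nat_lit 26, nat_lit 39, nat_lit 78]),(nat_lit 3,nat_lit 52,[nat_lit 2, nat_lit 4, nat_lit 13, nat_lit 26, nat_lit 52],mk [nat_lit 2, nat_lit 4, nat_lit 13, nat_lit 26, nat_lit 52]),(nat_lit 4,nat_lit 39,[nat_lit 3, nat_lit 13, nat_lit 39],mk [nat_lit 3, nat_lit 13, nat_lit 39]),(nat_lit 6,nat_lit 26,[nat_lit 2, nat_lit 13, nat_lit 26],mk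 [nat_lit 2, nat_lit 13, nat_lit 26])]⟩
def t171 : TE := ⟨nat_lit 171,nat_lit 0,nat_lit 3,[nat_lit 19],[nat_lit 3, nat_lit 9, nat_lit 19, nat_lit 57],mk [nat_lit 3, nat_lit 9, nat_lit 19, nat_lit 57],mk [nat_lit 9],[(nat_lit 1,nat_lit 108,[],mk []),(nat_lit 2,nat_lit 54,[],mk []),(nat_lit 3,nat_lit 36,[],mk []),(nat_lit 4,nat_lit 27,[],mk []),(nat_lit 6,nat_lit 18,[],mk []),(nat_lit 9,nat_lit 12,[],mk [])]⟩
def t175 : TE := ⟨nat_lit 175,nat_lit 0,nat_lit 5,[nat_lit 7],[nat_lit 5, nat_lit 7, nat_lit 25, nat_lit 35],mk [nat_lit 5, nat_lit 7, nat_lit 25, nat_lit 35],mk [nat_lit 25],[(nat_lit 1,nat_lit 120,[],mk []),(nat_lit 2,nat_lit 60,[],mk []),(nat_lit 3,nat_lit 40,[],mk []),(nat_lit 4,nat_lit 30,[],mk []),(nat_lit 5,nat_lit 24,[],mk []),(nat_lit 6,nat_lit 20,[],mk []),(nat_lit 8,nat_lit 15,[],mk [])]⟩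
def t187 : TE := ⟨nat_lit 187,nat_lit 0,nat_lit 11,[nat_lit 17],[nat_lit 11, nat_lit 17],mk [nat_lit 11, nat_lit 17],mk [nat_lit 17, nat_lit 11],[(nat_lit 1,nat_lit 160,[],mk []),(nat_lit 2,nat_lit 80,[],mk []),(nat_lit 4,nat_lit 40,[],mk []),(nat_lit 5,nat_lit 32,[],mk []),(nat_lit 8,nat_lit 20,[],mk [])]⟩
def t189 : TE := ⟨nat_lit 189,nat_lit 0,nat_lit 3,[nat_lit 7],[nat_lit 3, nat_lit 7, nat_lit 9, nat_lit 21, nat_lit 27, nat_lit 63],mk [nat_lit 3, nat_lit 7, nat_lit 9, nat_lit 21, nat_lit 27, nat_lit 63],mk [nat_lit 27],[(nat_lit 1,nat_lit 108,[],mk []),(nat_lit 2,nat_lit 54,[],mk []),(nat_lit 3,nat_lit 36,[],mk []),(nat_lit 4,nat_lit 27,[],mk []),(nat_lit 6,nat_lit 18,[],mk []),(nat_lit 9,nat_lit 12,[],mk [])]⟩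
def t193 : TE := ⟨nat_lit 193,nat_lit 193,nat_lit 193,[],[],mk [],mk [],[(nat_lit 1,nat_lit 192,[nat_lit 2, nat_lit 3, nat_lit 4, nat_lit 6, nat_lit 8, nat_lit 12, nat_lit 16, nat_lit 24, nat_lit 32, nat_lit 48, nat_lit 64],mk [nat_lit 2, nat_lit 3, nat_lit 4, nat_lit 6, nat_lit 8, nat_lit 12, nat_lit 16, nat_lit 24, nat_lit 32, nat_lit 48, nat_lit 64]),(nat_lit 2,nat_lit 96,[nat_lit 2, nat_lit 3, nat_lit 4, nat_lit 6, nat_lit 8, nat_lit 12, nat_lit 16, nat_lit 24, nat_lit 32, nat_lit 48, nat_lit 96],mk [nat_lit 2, nat_lit 3, nat_lit 4, nat_lit 6, nat_lit 8, nat_lit 12, nat_lit 16, nat_lit 24, nat_lit 32, nat_lit 48, nat_lit 96]),(nat_lit 3,nat_lit 64,[nat_lit 2, nat_lit 4, nat_lit 8, nat_lit 16, nat_lit 32, nat_lit 64],mk [nat_lit 2, nat_lit 4, nat_lit 8, nat_lit 16, nat_lit 32, nat_lit 64]),(nat_lit 4,nat_lit 48,[nat_lit 2, nat_lit 3, nat_lit 4, nat_lit 6,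 nat_lit 8, nat_lit 12, nat_lit 16, nat_lit 24, nat_lit 48],mk [nat_lit 2, nat_lit 3, nat_lit 4, nat_lit 6, nat_lit 8, nat_lit 12, nat_lit 16, nat_lit 24, nat_lit 48]),(nat_lit 6,nat_lit 32,[nat_lit 2, nat_lit 4, nat_lit 8, nat_lit 16, nat_lit 32],mk [nat_lit 2, nat_lit 4, nat_lit 8, nat_lit 16, nat_lit 32]),(nat_lit 8,nat_lit 24,[nat_lit 2, nat_lit 3, nat_lit 4, nat_lit 6, nat_lit 8, nat_lit 12, nat_lit 24],mk [nat_lit 2, nat_lit 3, nat_lit 4, nat_lit 6, nat_lit 8, nat_lit 12, nat_lit 24])]⟩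
def t194 : TE := ⟨nat_lit 194,nat_lit 0,nat_lit 2,[nat_lit 97],[nat_lit 2, nat_lit 97],mk [nat_lit 2, nat_lit 97],mk [nat_lit 97, nat_lit 2],[(nat_lit 1,nat_lit 96,[],mk []),(nat_lit 2,nat_lit 48,[],mk []),(nat_lit 3,nat_lit 32,[],mk []),(nat_lit 4,nat_lit 24,[],mk []),(nat_lit 6,nat_lit 16,[],mk []),(nat_lit 8,nat_lit 12,[],mk [])]⟩
def t197 : TE := ⟨nat_lit 197,nat_lit 197,nat_lit 197,[],[],mk [],mk [],[(nat_lit 1,nat_lit 196,[nat_lit 2, nat_lit 4, nat_lit 7, nat_lit 14, nat_lit 28, nat_lit 49, nat_lit 98, nat_lit 196],mk [nat_lit 2, nat_lit 4, nat_lit 7, nat_lit 14, nat_lit 28, nat_lit 49, nat_lit 98, nat_lit 196]),(nat_lit 2,nat_lit 98,[nat_lit 2, nat_lit 7, nat_lit 14, nat_lit 49, nat_lit 98],mk [nat_lit 2, nat_lit 7, nat_lit 14, nat_lit 49, nat_lit 98]),(nat_lit 4,nat_lit 49,[nat_lit 7, nat_lit 49],mk [nat_lit 7, nat_lit 49]),(nat_lit 7,nat_lit 28,[nat_lit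 2, nat_lit 4, nat_lit 7, nat_lit 14, nat_lit 28],mk [nat_lit 2, nat_lit 4, nat_lit 7, nat_lit 14, nat_lit 28])]⟩
def t202 : TE := ⟨nat_lit 202,nat_lit 0,nat_lit 2,[nat_lit 101],[nat_lit 2, nat_lit 101],mk [nat_lit 2, nat_lit 101],mk [nat_lit 101, nat_lit 2],[(nat_lit 1,nat_lit 100,[],mk []),(nat_lit 2,nat_lit 50,[],mk []),(nat_lit 4,nat_lit 25,[],mk []),(nat_lit 5,nat_lit 20,[],mk [])]⟩
def t203 : TE := ⟨nat_lit 203,nat_lit 0,nat_lit 7,[nat_lit 29],[nat_lit 7, nat_lit 29],mk [nat_lit 7, nat_lit 29],mk [nat_lit 29, nat_lit 7],[(nat_lit 1,nat_lit 168,[],mk []),(nat_lit 2,nat_lit 84,[],mk []),(nat_lit 3,nat_lit 56,[],mk []),(nat_lit 4,nat_lit 42,[],mk []),(nat_lit 6,nat_lit 28,[],mk []),(nat_lit 7,nat_lit 24,[],mk []),(nat_lit 8,nat_lit 21,[],mk [])]⟩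
def t205 : TE := ⟨nat_lit 205,nat_lit 0,nat_lit 5,[nat_lit 41],[nat_lit 5, nat_lit 41],mk [nat_lit 5, nat_lit 41],mk [nat_lit 41, nat_lit 5],[(nat_lit 1,nat_lit 160,[],mk []),(nat_lit 2,nat_lit 80,[],mk []),(nat_lit 4,nat_lit 40,[],mk []),(nat_lit 5,nat_lit 32,[],mk []),(nat_lit 8,nat_lit 20,[],mk [])]⟩
def t218 : TE := ⟨nat_lit 218,nat_lit 0,nat_lit 2,[nat_lit 109],[nat_lit 2, nat_lit 109],mk [nat_lit 2, nat_lit 109],mk [nat_lit 109, nat_lit 2],[(nat_lit 1,nat_lit 108,[],mk []),(nat_lit 2,nat_lit 54,[],mk []),(nat_lit 3,nat_lit 36,[],mk []),(nat_lit 4,nat_lit 27,[],mk []),(nat_lit 6,nat_lit 18,[],mk []),(nat_lit 9,nat_lit 12,[],mk [])]⟩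
def t221 : TE := ⟨nat_lit 221,nat_lit 0,nat_lit 13,[nat_lit 17],[nat_lit 13, nat_lit 17],mk [nat_lit 13, nat_lit 17],mk [nat_lit 17, nat_lit 13],[(nat_lit 1,nat_lit 192,[],mk []),(nat_lit 2,nat_lit 96,[],mk []),(nat_lit 3,nat_lit 64,[],mk []),(nat_lit 4,nat_lit 48,[],mk []),(nat_lit 6,nat_lit 32,[],mk []),(nat_lit 8,nat_lit 24,[],mk [])]⟩
def t237 : TE := ⟨nat_lit 237,nat_lit 0,nat_lit 3,[nat_lit 79],[nat_lit 3, nat_lit 79],mk [nat_lit 3, nat_lit 79],mk [nat_lit 79, nat_lit 3],[(nat_lit 1,nat_lit 156,[],mk []),(nat_lit 2,nat_lit 78,[],mk []),(nat_lit 3,nat_lit 52,[],mk []),(nat_lit 4,nat_lit 39,[],mk []),(nat_lit 6,nat_lit 26,[],mk [])]⟩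
def t242 : TE := ⟨nat_lit 242,nat_lit 0,nat_lit 2,[nat_lit 11],[nat_lit 2, nat_lit 11, nat_lit 22, nat_lit 121],mk [nat_lit 2, nat_lit 11, nat_lit 22, nat_lit 121],mk [nat_lit 121],[(nat_lit 1,nat_lit 110,[],mk []),(nat_lit 2,nat_lit 55,[],mk []),(nat_lit 5,nat_lit 22,[],mk [])]⟩
def t243 : TE := ⟨nat_lit 243,nat_lit 3,nat_lit 3,[],[nat_lit 3, nat_lit 9, nat_lit 27, nat_lit 81],mk [nat_lit 3, nat_lit 9, nat_lit 27, nat_lit 81],mk [],[(nat_lit 1,nat_lit 162,[nat_lit 2, nat_lit 3, nat_lit 6, nat_lit 9, nat_lit 18, nat_lit 27, nat_lit 54, nat_lit 81, nat_lit 162],mk [nat_lit 2, nat_lit 3, nat_lit 6, nat_lit 9, nat_lit 18, nat_lit 27, nat_lit 54, nat_lit 81, nat_lit 162]),(nat_lit 2,nat_lit 81,[nat_lit 3, nat_lit 9, nat_lit 27, nat_lit 81],mk [nat_lit 3, nat_lit 9, nat_lit 27, nat_lit 81]),(nat_lit 3,nat_lit 54,[nat_lit 2, nat_lit 3, nat_lit 6, nat_lit 9, nat_lit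 18, nat_lit 27, nat_lit 54],mk [nat_lit 2, nat_lit 3, nat_lit 6, nat_lit 9, nat_lit 18, nat_lit 27, nat_lit 54]),(nat_lit 6,nat_lit 27,[nat_lit 3, nat_lit 9, nat_lit 27],mk [nat_lit 3, nat_lit 9, nat_lit 27]),(nat_lit 9,nat_lit 18,[nat_lit 2, nat_lit 3, nat_lit 6, nat_lit 9, nat_lit 18],mk [nat_lit 2, nat_lit 3, nat_lit 6, nat_lit 9, nat_lit 18])]⟩
def t245 : TE := ⟨nat_lit 245,nat_lit 0,nat_lit 5,[nat_lit 7],[nat_lit 5, nat_lit 7, nat_lit 35, nat_lit 49],mk [nat_lit 5, nat_lit 7, nat_lit 35, nat_lit 49],mk [nat_lit 49],[(nat_lit 1,nat_lit 168,[],mk []),(nat_lit 2,nat_lit 84,[],mk []),(nat_lit 3,nat_lit 56,[],mk []),(nat_lit 4,nat_lit 42,[],mk []),(nat_lit 6,nat_lit 28,[],mk []),(nat_lit 7,nat_lit 24,[],mk []),(nat_lit 8,nat_lit 21,[],mk [])]⟩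
def t247 : TE := ⟨nat_lit 247,nat_lit 0,nat_lit 13,[nat_lit 19],[nat_lit 13, nat_lit 19],mk [nat_lit 13, nat_lit 19],mk [nat_lit 19, nat_lit 13],[(nat_lit 1,nat_lit 216,[],mk []),(nat_lit 2,nat_lit 108,[],mk []),(nat_lit 3,nat_lit 72,[],mk []),(nat_lit 4,nat_lit 54,[],mk []),(nat_lit 6,nat_lit 36,[],mk []),(nat_lit 8,nat_lit 27,[],mk []),(nat_lit 9,nat_lit 24,[],mk [])]⟩
def t250 : TE := ⟨nat_lit 250,nat_lit 0,nat_lit 2,[nat_lit 5],[nat_lit 2, nat_lit 5, nat_lit 10, nat_lit 25, nat_lit 50, nat_lit 125],mk [nat_lit 2, nat_lit 5, nat_lit 10, nat_lit 25, nat_lit 50, nat_lit 125],mk [nat_lit 125],[(nat_lit 1,nat_lit 100,[],mk []),(nat_lit 2,nat_lit 50,[],mk []),(nat_lit 4,nat_lit 25,[],mk []),(nat_lit 5,nat_lit 20,[],mk [])]⟩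
def t251 : TE := ⟨nat_lit 251,nat_lit 251,nat_lit 251,[],[],mk [],mk [],[(nat_lit 1,nat_lit 250,[nat_lit 2, nat_lit 5, nat_lit 10, nat_lit 25, nat_lit 50, nat_lit 125, nat_lit 250],mk [nat_lit 2, nat_lit 5, nat_lit 10, nat_lit 25, nat_lit 50, nat_lit 125, nat_lit 250]),(nat_lit 2,nat_lit 125,[nat_lit 5, nat_lit 25, nat_lit 125],mk [nat_lit 5, nat_lit 25, nat_lit 125]),(nat_lit 5,nat_lit 50,[nat_lit 2, nat_lit 5, nat_lit 10, nat_lit 25, nat_lit 50],mk [nat_lit 2, nat_lit 5, nat_lit 10, nat_lit 25, nat_lit 50])]⟩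
def t253 : TE := ⟨nat_lit 253,nat_lit 0,nat_lit 11,[nat_lit 23],[nat_lit 11, nat_lit 23],mk [nat_lit 11, nat_lit 23],mk [nat_lit 23, nat_lit 11],[(nat_lit 1,nat_lit 220,[],mk []),(nat_lit 2,nat_lit 110,[],mk []),(nat_lit 4,nat_lit 55,[],mk []),(nat_lit 5,nat_lit 44,[],mk [])]⟩
def t256 : TE := ⟨nat_lit 256,nat_lit 2,nat_lit 2,[],[nat_lit 2, nat_lit 4, nat_lit 8, nat_lit 16, nat_lit 32, nat_lit 64, nat_lit 128],mk [nat_lit 2, nat_lit 4, nat_lit 8, nat_lit 16, nat_lit 32, nat_lit 64, nat_lit 128],mk [],[(nat_lit 1,nat_lit 128,[],mk []),(nat_lit 2,nat_lit 64,[],mk []),(nat_lit 4,nat_lit 32,[],mk []),(nat_lit 8,nat_lit 16,[],mk [])]⟩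
def t257 : TE := ⟨nat_lit 257,nat_lit 257,nat_lit 257,[],[],mk [],mk [],[(nat_lit 1,nat_lit 256,[nat_lit 2, nat_lit 4, nat_lit 8, nat_lit 16, nat_lit 32, nat_lit 64, nat_lit 128, nat_lit 256],mk [nat_lit 2, nat_lit 4, nat_lit 8, nat_lit 16, nat_lit 32, nat_lit 64, nat_lit 128, nat_lit 256]),(nat_lit 2,nat_lit 128,[nat_lit 2, nat_lit 4, nat_lit 8, nat_lit 16, nat_lit 32, nat_lit 64, nat_lit 128],mk [nat_lit 2, nat_lit 4, nat_lit 8, nat_lit 16, nat_lit 32, nat_lit 64, nat_lit 128]),(nat_lit 4,nat_lit 64,[nat_lit 2, nat_lit 4, nat_lit 8, nat_lit 16, nat_lit 32, nat_lit 64],mk [nat_lit 2, nat_lit 4, nat_lit 8, nat_lit 16, nat_lit 32, nat_lit 64]),(nat_lit 8,nat_lit 32,[nat_lit 2, nat_lit 4, nat_lit 8, nat_lit 16, nat_lit 32],mk [nat_lit 2, nat_lit 4, nat_lit 8, nat_lit 16, nat_lit 32])]⟩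
def t259 : TE := ⟨nat_lit 259,nat_lit 0,nat_lit 7,[nat_lit 37],[nat_lit 7, nat_lit 37],mk [nat_lit 7, nat_lit 37],mk [nat_lit 37, nat_lit 7],[(nat_lit 1,nat_lit 216,[],mk []),(nat_lit 2,nat_lit 108,[],mk []),(nat_lit 3,nat_lit 72,[],mk []),(nat_lit 4,nat_lit 54,[],mk []),(nat_lit 6,nat_lit 36,[],mk []),(nat_lit 8,nat_lit 27,[],mk []),(nat_lit 9,nat_lit 24,[],mk [])]⟩
def t272 : TE := ⟨nat_lit 272,nat_lit 0,nat_lit 2,[nat_lit 17],[nat_lit 2, nat_lit 4, nat_lit 8, nat_lit 16, nat_lit 17, nat_lit 34, nat_lit 68, nat_lit 136],mk [nat_lit 2, nat_lit 4, nat_lit 8, nat_lit 16, nat_lit 17, nat_lit 34, nat_lit 68, nat_lit 136],mk [nat_lit 16],[(nat_lit 1,nat_lit 128,[],mk []),(nat_lit 2,nat_lit 64,[],mk []),(nat_lit 4,nat_lit 32,[],mk []),(nat_lit 8,nat_lit 16,[],mk [])]⟩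
def t275 : TE := ⟨nat_lit 275,nat_lit 0,nat_lit 5,[nat_lit 11],[nat_lit 5, nat_lit 11, nat_lit 25, nat_lit 55],mk [nat_lit 5, nat_lit 11, nat_lit 25, nat_lit 55],mk [nat_lit 25],[(nat_lit 1,nat_lit 200,[],mk []),(nat_lit 2,nat_lit 100,[],mk []),(nat_lit 4,nat_lit 50,[],mk []),(nat_lit 5,nat_lit 40,[],mk []),(nat_lit 8,nat_lit 25,[],mk [])]⟩
def t289 : TE := ⟨nat_lit 289,nat_lit 17,nat_lit 17,[],[nat_lit 17],mk [nat_lit 17],mk [],[(nat_lit 1,nat_lit 272,[nat_lit 2, nat_lit 4, nat_lit 8, nat_lit 16, nat_lit 17, nat_lit 34, nat_lit 68, nat_lit 136, nat_lit 272],mk [nat_lit 2, nat_lit 4, nat_lit 8, nat_lit 16, nat_lit 17, nat_lit 34, nat_lit 68, nat_lit 136, nat_lit 272]),(nat_lit 2,nat_lit 136,[nat_lit 2, nat_lit 4, nat_lit 8, nat_lit 17, nat_lit 34, nat_lit 68, nat_lit 136],mk [nat_lit 2, nat_lit 4, nat_lit 8, nat_lit 17, nat_lit 34, nat_lit 68, nat_lit 136]),(nat_lit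 4,nat_lit 68,[nat_lit 2, nat_lit 4, nat_lit 17, nat_lit 34, nat_lit 68],mk [nat_lit 2, nat_lit 4, nat_lit 17, nat_lit 34, nat_lit 68]),(nat_lit 8,nat_lit 34,[nat_lit 2, nat_lit 17, nat_lit 34],mk [nat_lit 2, nat_lit 17, nat_lit 34])]⟩
def t301 : TE := ⟨nat_lit 301,nat_lit 0,nat_lit 7,[nat_lit 43],[nat_lit 7, nat_lit 43],mk [nat_lit 7, nat_lit 43],mk [nat_lit 43, nat_lit 7],[(nat_lit 1,nat_lit 252,[],mk []),(nat_lit 2,nat_lit 126,[],mk []),(nat_lit 3,nat_lit 84,[],mk []),(nat_lit 4,nat_lit 63,[],mk []),(nat_lit 6,nat_lit 42,[],mk []),(nat_lit 7,nat_lit 36,[],mk []),(nat_lit 9,nat_lit 28,[],mk [])]⟩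
def t305 : TE := ⟨nat_lit 305,nat_lit 0,nat_lit 5,[nat_lit 61],[nat_lit 5, nat_lit 61],mk [nat_lit 5, nat_lit 61],mk [nat_lit 61, nat_lit 5],[(nat_lit 1,nat_lit 240,[],mk []),(nat_lit 2,nat_lit 120,[],mk []),(nat_lit 3,nat_lit 80,[],mk []),(nat_lit 4,nat_lit 60,[],mk []),(nat_lit 5,nat_lit 48,[],mk []),(nat_lit 6,nat_lit 40,[],mk []),(nat_lit 8,nat_lit 30,[],mk [])]⟩
def t325 : TE := ⟨nat_lit 325,nat_lit 0,nat_lit 5,[nat_lit 13],[nat_lit 5, nat_lit 13, nat_lit 25, nat_lit 65],mk [nat_lit 5, nat_lit 13, nat_lit 25, nat_lit 65],mk [nat_lit 25],[(nat_lit 1,nat_lit 240,[],mk []),(nat_lit 2,nat_lit 120,[],mk []),(nat_lit 3,nat_lit 80,[],mk []),(nat_lit 4,nat_lit 60,[],mk []),(nat_lit 5,nat_lit 48,[],mk []),(nat_lit 6,nat_lit 40,[],mk []),(nat_lit 8,nat_lit 30,[],mk [])]⟩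
def t326 : TE := ⟨nat_lit 326,nat_lit 0,nat_lit 2,[nat_lit 163],[nat_lit 2, nat_lit 163],mk [nat_lit 2, nat_lit 163],mk [nat_lit 163, nat_lit 2],[(nat_lit 1,nat_lit 162,[],mk []),(nat_lit 2,nat_lit 81,[],mk []),(nat_lit 3,nat_lit 54,[],mk []),(nat_lit 6,nat_lit 27,[],mk []),(nat_lit 9,nat_lit 18,[],mk [])]⟩
def t327 : TE := ⟨nat_lit 327,nat_lit 0,nat_lit 3,[nat_lit 109],[nat_lit 3, nat_lit 109],mk [nat_lit 3, nat_lit 109],mk [nat_lit 109, nat_lit 3],[(nat_lit 1,nat_lit 216,[],mk []),(nat_lit 2,nat_lit 108,[],mk []),(nat_lit 3,nat_lit 72,[],mk []),(nat_lit 4,nat_lit 54,[],mk []),(nat_lit 6,nat_lit 36,[],mk []),(nat_lit 8,nat_lit 27,[],mk []),(nat_lit 9,nat_lit 24,[],mk [])]⟩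
def t333 : TE := ⟨nat_lit 333,nat_lit 0,nat_lit 3,[nat_lit 37],[nat_lit 3, nat_lit 9, nat_lit 37, nat_lit 111],mk [nat_lit 3, nat_lit 9, nat_lit 37, nat_lit 111],mk [nat_lit 9],[(nat_lit 1,nat_lit 216,[],mk []),(nat_lit 2,nat_lit 108,[],mk []),(nat_lit 3,nat_lit 72,[],mk []),(nat_lit 4,nat_lit 54,[],mk []),(nat_lit 6,nat_lit 36,[],mk []),(nat_lit 8,nat_lit 27,[],mk []),(nat_lit 9,nat_lit 24,[],mk [])]⟩
def t338 : TE := ⟨nat_lit 338,nat_lit 0,nat_lit 2,[nat_lit 13],[nat_lit 2, nat_lit 13, nat_lit 26, nat_lit 169],mk [nat_lit 2, nat_lit 13, nat_lit 26, nat_lit 169],mk [nat_lit 169],[(nat_lit 1,nat_lit 156,[],mk []),(nat_lit 2,nat_lit 78,[],mk []),(nat_lit 3,nat_lit 52,[],mk []),(nat_lit 4,nat_lit 39,[],mk []),(nat_lit 6,nat_lit 26,[],mk [])]⟩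
def t341 : TE := ⟨nat_lit 341,nat_lit 0,nat_lit 11,[nat_lit 31],[nat_lit 11, nat_lit 31],mk [nat_lit 11, nat_lit 31],mk [nat_lit 31, nat_lit 11],[(nat_lit 1,nat_lit 300,[],mk []),(nat_lit 2,nat_lit 150,[],mk []),(nat_lit 3,nat_lit 100,[],mk []),(nat_lit 4,nat_lit 75,[],mk []),(nat_lit 5,nat_lit 60,[],mk []),(nat_lit 6,nat_lit 50,[],mk [])]⟩
def t343 : TE := ⟨nat_lit 343,nat_lit 7,nat_lit 7,[],[nat_lit 7, nat_lit 49],mk [nat_lit 7, nat_lit 49],mk [],[(nat_lit 1,nat_lit 294,[nat_lit 2, nat_lit 3, nat_lit 6, nat_lit 7, nat_lit 14, nat_lit 21, nat_lit 42, nat_lit 49, nat_lit 98, nat_lit 147, nat_lit 294],mk [nat_lit 2, nat_lit 3, nat_lit 6, nat_lit 7, nat_lit 14, nat_lit 21, nat_lit 42, nat_lit 49, nat_lit 98, nat_lit 147, nat_lit 294]),(nat_lit 2,nat_lit 147,[nat_lit 3, nat_lit 7, nat_lit 21, nat_lit 49, nat_lit 147],mk [nat_lit 3, nat_lit 7, nat_lit 21, nat_lit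 49, nat_lit 147]),(nat_lit 3,nat_lit 98,[nat_lit 2, nat_lit 7, nat_lit 14, nat_lit 49, nat_lit 98],mk [nat_lit 2, nat_lit 7, nat_lit 14, nat_lit 49, nat_lit 98]),(nat_lit 6,nat_lit 49,[nat_lit 7, nat_lit 49],mk [nat_lit 7, nat_lit 49]),(nat_lit 7,nat_lit 42,[nat_lit 2, nat_lit 3, nat_lit 6, nat_lit 7, nat_lit 14, nat_lit 21, nat_lit 42],mk [nat_lit 2, nat_lit 3, nat_lit 6, nat_lit 7, nat_lit 14, nat_lit 21, nat_lit 42])]⟩
def t361 : TE := ⟨nat_lit 361,nat_lit 19,nat_lit 19,[],[nat_lit 19],mk [nat_lit 19],mk [],[(nat_lit 1,nat_lit 342,[nat_lit 2, nat_lit 3, nat_lit 6, nat_lit 9, nat_lit 18, nat_lit 19, nat_lit 38, nat_lit 57, nat_lit 114, nat_lit 171, nat_lit 342],mk [nat_lit 2, nat_lit 3, nat_lit 6, nat_lit 9, nat_lit 18, nat_lit 19, nat_lit 38, nat_lit 57, nat_lit 114, nat_lit 171, nat_lit 342]),(nat_lit 2,nat_lit 171,[nat_lit 3, nat_lit 9, nat_lit 19, nat_lit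 57, nat_lit 171],mk [nat_lit 3, nat_lit 9, nat_lit 19, nat_lit 57, nat_lit 171]),(nat_lit 3,nat_lit 114,[nat_lit 2, nat_lit 3, nat_lit 6, nat_lit 19, nat_lit 38, nat_lit 57, nat_lit 114],mk [nat_lit 2, nat_lit 3, nat_lit 6, nat_lit 19, nat_lit 38, nat_lit 57, nat_lit 114]),(nat_lit 6,nat_lit 57,[nat_lit 3, nat_lit 19, nat_lit 57],mk [nat_lit 3, nat_lit 19, nat_lit 57]),(nat_lit 9,nat_lit 38,[nat_lit 2, nat_lit 19, nat_lit 38],mk [nat_lit 2, nat_lit 19, nat_lit 38])]⟩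
def t363 : TE := ⟨nat_lit 363,nat_lit 0,nat_lit 3,[nat_lit 11],[nat_lit 3, nat_lit 11, nat_lit 33, nat_lit 121],mk [nat_lit 3, nat_lit 11, nat_lit 33, nat_lit 121],mk [nat_lit 121],[(nat_lit 1,nat_lit 220,[],mk []),(nat_lit 2,nat_lit 110,[],mk []),(nat_lit 4,nat_lit 55,[],mk []),(nat_lit 5,nat_lit 44,[],mk [])]⟩
def t375 : TE := ⟨nat_lit 375,nat_lit 0,nat_lit 3,[nat_lit 5],[nat_lit 3, nat_lit 5, nat_lit 15, nat_lit 25, nat_lit 75, nat_lit 125],mk [nat_lit 3, nat_lit 5, nat_lit 15, nat_lit 25, nat_lit 75, nat_lit 125],mk [nat_lit 125],[(nat_lit 1,nat_lit 200,[],mk []),(nat_lit 2,nat_lit 100,[],mk []),(nat_lit 4,nat_lit 50,[],mk []),(nat_lit 5,nat_lit 40,[],mk []),(nat_lit 8,nat_lit 25,[],mk [])]⟩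
def t425 : TE := ⟨nat_lit 425,nat_lit 0,nat_lit 5,[nat_lit 17],[nat_lit 5, nat_lit 17, nat_lit 25, nat_lit 85],mk [nat_lit 5, nat_lit 17, nat_lit 25, nat_lit 85],mk [nat_lit 25],[(nat_lit 1,nat_lit 320,[],mk []),(nat_lit 2,nat_lit 160,[],mk []),(nat_lit 4,nat_lit 80,[],mk []),(nat_lit 5,nat_lit 64,[],mk []),(nat_lit 8,nat_lit 40,[],mk [])]⟩
def t451 : TE := ⟨nat_lit 451,nat_lit 0,nat_lit 11,[nat_lit 41],[nat_lit 11, nat_lit 41],mk [nat_lit 11, nat_lit 41],mk [nat_lit 41, nat_lit 11],[(nat_lit 1,nat_lit 400,[],mk []),(nat_lit 2,nat_lit 200,[],mk []),(nat_lit 4,nat_lit 100,[],mk []),(nat_lit 5,nat_lit 80,[],mk []),(nat_lit 8,nat_lit 50,[],mk [])]⟩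
def t487 : TE := ⟨nat_lit 487,nat_lit 487,nat_lit 487,[],[],mk [],mk [],[(nat_lit 1,nat_lit 486,[nat_lit 2, nat_lit 3, nat_lit 6, nat_lit 9, nat_lit 18, nat_lit 27, nat_lit 54, nat_lit 81, nat_lit 162, nat_lit 243, nat_lit 486],mk [nat_lit 2, nat_lit 3, nat_lit 6, nat_lit 9, nat_lit 18, nat_lit 27, nat_lit 54, nat_lit 81, nat_lit 162, nat_lit 243, nat_lit 486]),(nat_lit 2,nat_lit 243,[nat_lit 3, nat_lit 9, nat_lit 27, nat_lit 81, nat_lit 243],mk [nat_lit 3, nat_lit 9, nat_lit 27, nat_lit 81, nat_lit 243]),(nat_lit 3,nat_lit 162,[nat_lit 2, nat_lit 3, nat_lit 6, nat_lit 9, nat_lit 18, nat_lit 27, nat_lit 54, nat_lit 81, nat_lit 162],mk [nat_lit 2, nat_lit 3, nat_lit 6, nat_lit 9, nat_lit 18, nat_lit 27, nat_lit 54, nat_lit 81, nat_lit 162]),(nat_lit 6,nat_lit 81,[nat_lit 3, nat_lit 9, nat_lit 27, nat_lit 81],mk [nat_lit 3, nat_lit 9, nat_lit 27, nat_lit 81]),(nat_lit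 9,nat_lit 54,[nat_lit 2, nat_lit 3, nat_lit 6, nat_lit 9, nat_lit 18, nat_lit 27, nat_lit 54],mk [nat_lit 2, nat_lit 3, nat_lit 6, nat_lit 9, nat_lit 18, nat_lit 27, nat_lit 54])]⟩
def t489 : TE := ⟨nat_lit 489,nat_lit 0,nat_lit 3,[nat_lit 163],[nat_lit 3, nat_lit 163],mk [nat_lit 3, nat_lit 163],mk [nat_lit 163, nat_lit 3],[(nat_lit 1,nat_lit 324,[],mk []),(nat_lit 2,nat_lit 162,[],mk []),(nat_lit 3,nat_lit 108,[],mk []),(nat_lit 4,nat_lit 81,[],mk []),(nat_lit 6,nat_lit 54,[],mk []),(nat_lit 9,nat_lit 36,[],mk [])]⟩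
def t502 : TE := ⟨nat_lit 502,nat_lit 0,nat_lit 2,[nat_lit 251],[nat_lit 2, nat_lit 251],mk [nat_lit 2, nat_lit 251],mk [nat_lit 251, nat_lit 2],[(nat_lit 1,nat_lit 250,[],mk []),(nat_lit 2,nat_lit 125,[],mk []),(nat_lit 5,nat_lit 50,[],mk [])]⟩
def t503 : TE := ⟨nat_lit 503,nat_lit 503,nat_lit 503,[],[],mk [],mk [],[(nat_lit 1,nat_lit 502,[nat_lit 2, nat_lit 251, nat_lit 502],mk [nat_lit 2, nat_lit 251, nat_lit 502]),(nat_lit 2,nat_lit 251,[nat_lit 251],mk [nat_lit 251])]⟩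
def t505 : TE := ⟨nat_lit 505,nat_lit 0,nat_lit 5,[nat_lit 101],[nat_lit 5, nat_lit 101],mk [nat_lit 5, nat_lit 101],mk [nat_lit 101, nat_lit 5],[(nat_lit 1,nat_lit 400,[],mk []),(nat_lit 2,nat_lit 200,[],mk []),(nat_lit 4,nat_lit 100,[],mk []),(nat_lit 5,nat_lit 80,[],mk []),(nat_lit 8,nat_lit 50,[],mk [])]⟩
def t507 : TE := ⟨nat_lit 507,nat_lit 0,nat_lit 3,[nat_lit 13],[nat_lit 3, nat_lit 13, nat_lit 39, nat_lit 169],mk [nat_lit 3, nat_lit 13, nat_lit 39, nat_lit 169],mk [nat_lit 169],[(nat_lit 1,nat_lit 312,[],mk []),(nat_lit 2,nat_lit 156,[],mk []),(nat_lit 3,nat_lit 104,[],mk []),(nat_lit 4,nat_lit 78,[],mk []),(nat_lit 6,nat_lit 52,[],mk []),(nat_lit 8,nat_lit 39,[],mk [])]⟩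
def t512 : TE := ⟨nat_lit 512,nat_lit 2,nat_lit 2,[],[nat_lit 2, nat_lit 4, nat_lit 8, nat_lit 16, nat_lit 32, nat_lit 64, nat_lit 128, nat_lit 256],mk [nat_lit 2, nat_lit 4, nat_lit 8, nat_lit 16, nat_lit 32, nat_lit 64, nat_lit 128, nat_lit 256],mk [],[(nat_lit 1,nat_lit 256,[],mk []),(nat_lit 2,nat_lit 128,[],mk []),(nat_lit 4,nat_lit 64,[],mk []),(nat_lit 8,nat_lit 32,[],mk [])]⟩
def t513 : TE := ⟨nat_lit 513,nat_lit 0,nat_lit 3,[nat_lit 19],[nat_lit 3, nat_lit 9, nat_lit 19, nat_lit 27, nat_lit 57, nat_lit 171],mk [nat_lit 3, nat_lit 9, nat_lit 19, nat_lit 27, nat_lit 57, nat_lit 171],mk [nat_lit 27],[(nat_lit 1,nat_lit 324,[],mk []),(nat_lit 2,nat_lit 162,[],mk []),(nat_lit 3,nat_lit 108,[],mk []),(nat_lit 4,nat_lit 81,[],mk []),(nat_lit 6,nat_lit 54,[],mk []),(nat_lit 9,nat_lit 36,[],mk [])]⟩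
def t529 : TE := ⟨nat_lit 529,nat_lit 23,nat_lit 23,[],[nat_lit 23],mk [nat_lit 23],mk [],[(nat_lit 1,nat_lit 506,[nat_lit 2, nat_lit 11, nat_lit 22, nat_lit 23, nat_lit 46, nat_lit 253, nat_lit 506],mk [nat_lit 2, nat_lit 11, nat_lit 22, nat_lit 23, nat_lit 46, nat_lit 253, nat_lit 506]),(nat_lit 2,nat_lit 253,[nat_lit 11, nat_lit 23, nat_lit 253],mk [nat_lit 11, nat_lit 23, nat_lit 253])]⟩
def t578 : TE := ⟨nat_lit 578,nat_lit 0,nat_lit 2,[nat_lit 17],[nat_lit 2, nat_lit 17, nat_lit 34, nat_lit 289],mk [nat_lit 2, nat_lit 17, nat_lit 34, nat_lit 289],mk [nat_lit 289],[(nat_lit 1,nat_lit 272,[],mk []),(nat_lit 2,nat_lit 136,[],mk []),(nat_lit 4,nat_lit 68,[],mk []),(nat_lit 8,nat_lit 34,[],mk [])]⟩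
def t605 : TE := ⟨nat_lit 605,nat_lit 0,nat_lit 5,[nat_lit 11],[nat_lit 5, nat_lit 11, nat_lit 55, nat_lit 121],mk [nat_lit 5, nat_lit 11, nat_lit 55, nat_lit 121],mk [nat_lit 121],[(nat_lit 1,nat_lit 440,[],mk []),(nat_lit 2,nat_lit 220,[],mk []),(nat_lit 4,nat_lit 110,[],mk []),(nat_lit 5,nat_lit 88,[],mk []),(nat_lit 8,nat_lit 55,[],mk [])]⟩
def t625 : TE := ⟨nat_lit 625,nat_lit 5,nat_lit 5,[],[nat_lit 5, nat_lit 25, nat_lit 125],mk [nat_lit 5, nat_lit 25, nat_lit 125],mk [],[(nat_lit 1,nat_lit 500,[nat_lit 2, nat_lit 4, nat_lit 5, nat_lit 10, nat_lit 20, nat_lit 25, nat_lit 50, nat_lit 100, nat_lit 125, nat_lit 250, nat_lit 500],mk [nat_lit 2, nat_lit 4, nat_lit 5, nat_lit 10, nat_lit 20, nat_lit 25, nat_lit 50, nat_lit 100, nat_lit 125, nat_lit 250, nat_lit 500]),(nat_lit 2,nat_lit 250,[nat_lit 2, nat_lit 5, nat_lit 10, nat_lit 25, nat_lit 50, nat_lit 125,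 nat_lit 250],mk [nat_lit 2, nat_lit 5, nat_lit 10, nat_lit 25, nat_lit 50, nat_lit 125, nat_lit 250]),(nat_lit 4,nat_lit 125,[nat_lit 5, nat_lit 25, nat_lit 125],mk [nat_lit 5, nat_lit 25, nat_lit 125]),(nat_lit 5,nat_lit 100,[nat_lit 2, nat_lit 4, nat_lit 5, nat_lit 10, nat_lit 20, nat_lit 25, nat_lit 50, nat_lit 100],mk [nat_lit 2, nat_lit 4, nat_lit 5, nat_lit 10, nat_lit 20, nat_lit 25, nat_lit 50, nat_lit 100])]⟩
def t637 : TE := ⟨nat_lit 637,nat_lit 0,nat_lit 7,[nat_lit 13],[nat_lit 7, nat_lit 13, nat_lit 49, nat_lit 91],mk [nat_lit 7, nat_lit 13, nat_lit 49, nat_lit 91],mk [nat_lit 49],[(nat_lit 1,nat_lit 504,[],mk []),(nat_lit 2,nat_lit 252,[],mk []),(nat_lit 3,nat_lit 168,[],mk []),(nat_lit 4,nat_lit 126,[],mk []),(nat_lit 6,nat_lit 84,[],mk []),(nat_lit 7,nat_lit 72,[],mk []),(nat_lit 8,nat_lit 63,[],mk []),(nat_lit 9,nat_lit 56,[],mk [])]⟩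
def t686 : TE := ⟨nat_lit 686,nat_lit 0,nat_lit 2,[nat_lit 7],[nat_lit 2, nat_lit 7, nat_lit 14, nat_lit 49, nat_lit 98, nat_lit 343],mk [nat_lit 2, nat_lit 7, nat_lit 14, nat_lit 49, nat_lit 98, nat_lit 343],mk [nat_lit 343],[(nat_lit 1,nat_lit 294,[],mk []),(nat_lit 2,nat_lit 147,[],mk []),(nat_lit 3,nat_lit 98,[],mk []),(nat_lit 6,nat_lit 49,[],mk []),(nat_lit 7,nat_lit 42,[],mk [])]⟩
def t689 : TE := ⟨nat_lit 689,nat_lit 0,nat_lit 13,[nat_lit 53],[nat_lit 13, nat_lit 53],mk [nat_lit 13, nat_lit 53],mk [nat_lit 53, nat_lit 13],[(nat_lit 1,nat_lit 624,[],mk []),(nat_lit 2,nat_lit 312,[],mk []),(nat_lit 3,nat_lit 208,[],mk []),(nat_lit 4,nat_lit 156,[],mk []),(nat_lit 6,nat_lit 104,[],mk []),(nat_lit 8,nat_lit 78,[],mk [])]⟩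
def t703 : TE := ⟨nat_lit 703,nat_lit 0,nat_lit 19,[nat_lit 37],[nat_lit 19, nat_lit 37],mk [nat_lit 19, nat_lit 37],mk [nat_lit 37, nat_lit 19],[(nat_lit 1,nat_lit 648,[],mk []),(nat_lit 2,nat_lit 324,[],mk []),(nat_lit 3,nat_lit 216,[],mk []),(nat_lit 4,nat_lit 162,[],mk []),(nat_lit 6,nat_lit 108,[],mk []),(nat_lit 8,nat_lit 81,[],mk []),(nat_lit 9,nat_lit 72,[],mk [])]⟩
def t722 : TE := ⟨nat_lit 722,nat_lit 0,nat_lit 2,[nat_lit 19],[nat_lit 2, nat_lit 19, nat_lit 38, nat_lit 361],mk [nat_lit 2, nat_lit 19, nat_lit 38, nat_lit 361],mk [nat_lit 361],[(nat_lit 1,nat_lit 342,[],mk []),(nat_lit 2,nat_lit 171,[],mk []),(nat_lit 3,nat_lit 114,[],mk []),(nat_lit 6,nat_lit 57,[],mk []),(nat_lit 9,nat_lit 38,[],mk [])]⟩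
def t729 : TE := ⟨nat_lit 729,nat_lit 3,nat_lit 3,[],[nat_lit 3, nat_lit 9, nat_lit 27, nat_lit 81, nat_lit 243],mk [nat_lit 3, nat_lit 9, nat_lit 27, nat_lit 81, nat_lit 243],mk [],[(nat_lit 1,nat_lit 486,[nat_lit 2, nat_lit 3, nat_lit 6, nat_lit 9, nat_lit 18, nat_lit 27, nat_lit 54, nat_lit 81, nat_lit 162, nat_lit 243, nat_lit 486],mk [nat_lit 2, nat_lit 3, nat_lit 6, nat_lit 9, nat_lit 18, nat_lit 27, nat_lit 54, nat_lit 81, nat_lit 162, nat_lit 243, nat_lit 486]),(nat_lit 2,nat_lit 243,[nat_lit 3, nat_lit 9, nat_lit 27, nat_lit 81, nat_lit 243],mk [nat_lit 3, nat_lit 9, nat_lit 27, nat_lit 81, nat_lit 243]),(nat_lit 3,nat_lit 162,[nat_lit 2, nat_lit 3, nat_lit 6, nat_lit 9, nat_lit 18, nat_lit 27, nat_lit 54, nat_lit 81, nat_lit 162],mk [nat_lit 2, nat_lit 3, nat_lit 6, nat_lit 9, nat_lit 18, nat_lit 27, nat_lit 54, nat_lit 81, nat_lit 162]),(nat_lit 6,nat_lit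 81,[nat_lit 3, nat_lit 9, nat_lit 27, nat_lit 81],mk [nat_lit 3, nat_lit 9, nat_lit 27, nat_lit 81]),(nat_lit 9,nat_lit 54,[nat_lit 2, nat_lit 3, nat_lit 6, nat_lit 9, nat_lit 18, nat_lit 27, nat_lit 54],mk [nat_lit 2, nat_lit 3, nat_lit 6, nat_lit 9, nat_lit 18, nat_lit 27, nat_lit 54])]⟩
def t753 : TE := ⟨nat_lit 753,nat_lit 0,nat_lit 3,[nat_lit 251],[nat_lit 3, nat_lit 251],mk [nat_lit 3, nat_lit 251],mk [nat_lit 251, nat_lit 3],[(nat_lit 1,nat_lit 500,[],mk []),(nat_lit 2,nat_lit 250,[],mk []),(nat_lit 4,nat_lit 125,[],mk []),(nat_lit 5,nat_lit 100,[],mk [])]⟩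
def t841 : TE := ⟨nat_lit 841,nat_lit 29,nat_lit 29,[],[nat_lit 29],mk [nat_lit 29],mk [],[(nat_lit 1,nat_lit 812,[nat_lit 2, nat_lit 4, nat_lit 7, nat_lit 14, nat_lit 28, nat_lit 29, nat_lit 58, nat_lit 116, nat_lit 203, nat_lit 406, nat_lit 812],mk [nat_lit 2, nat_lit 4, nat_lit 7, nat_lit 14, nat_lit 28, nat_lit 29, nat_lit 58, nat_lit 116, nat_lit 203, nat_lit 406, nat_lit 812]),(nat_lit 2,nat_lit 406,[nat_lit 2, nat_lit 7, nat_lit 14, nat_lit 29, nat_lit 58, nat_lit 203, nat_lit 406],mk [nat_lit 2, nat_lit 7, nat_lit 14, nat_lit 29, nat_lit 58, nat_lit 203, nat_lit 406]),(nat_lit 4,nat_lit 203,[nat_lit 7, nat_lit 29, nat_lit 203],mk [nat_lit 7, nat_lit 29, nat_lit 203]),(nat_lit 7,nat_lit 116,[nat_lit 2, nat_lit 4, nat_lit 29, nat_lit 58, nat_lit 116],mk [nat_lit 2, nat_lit 4, nat_lit 29, nat_lit 58, nat_lit 116])]⟩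
def t845 : TE := ⟨nat_lit 845,nat_lit 0,nat_lit 5,[nat_lit 13],[nat_lit 5, nat_lit 13, nat_lit 65, nat_lit 169],mk [nat_lit 5, nat_lit 13, nat_lit 65, nat_lit 169],mk [nat_lit 169],[(nat_lit 1,nat_lit 624,[],mk []),(nat_lit 2,nat_lit 312,[],mk []),(nat_lit 3,nat_lit 208,[],mk []),(nat_lit 4,nat_lit 156,[],mk []),(nat_lit 6,nat_lit 104,[],mk []),(nat_lit 8,nat_lit 78,[],mk [])]⟩
def t867 : TE := ⟨nat_lit 867,nat_lit 0,nat_lit 3,[nat_lit 17],[nat_lit 3, nat_lit 17, nat_lit 51, nat_lit 289],mk [nat_lit 3, nat_lit 17, nat_lit 51, nat_lit 289],mk [nat_lit 289],[(nat_lit 1,nat_lit 544,[],mk []),(nat_lit 2,nat_lit 272,[],mk []),(nat_lit 4,nat_lit 136,[],mk []),(nat_lit 8,nat_lit 68,[],mk [])]⟩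
def t961 : TE := ⟨nat_lit 961,nat_lit 31,nat_lit 31,[],[nat_lit 31],mk [nat_lit 31],mk [],[(nat_lit 1,nat_lit 930,[nat_lit 2, nat_lit 3, nat_lit 5, nat_lit 6, nat_lit 10, nat_lit 15, nat_lit 30, nat_lit 31, nat_lit 62, nat_lit 93, nat_lit 155],mk [nat_lit 2, nat_lit 3, nat_lit 5, nat_lit 6, nat_lit 10, nat_lit 15, nat_lit 30, nat_lit 31, nat_lit 62, nat_lit 93, nat_lit 155]),(nat_lit 2,nat_lit 465,[nat_lit 3, nat_lit 5, nat_lit 15, nat_lit 31, nat_lit 93, nat_lit 155, nat_lit 465],mk [nat_lit 3, nat_lit 5, nat_lit 15, nat_lit 31, nat_lit 93, nat_lit 155, nat_lit 465]),(nat_lit 3,nat_lit 310,[nat_lit 2, nat_lit 5, nat_lit 10, nat_lit 31, nat_lit 62, nat_lit 155, nat_lit 310],mk [nat_lit 2, nat_lit 5, nat_lit 10, nat_lit 31, nat_lit 62, nat_lit 155, nat_lit 310]),(nat_lit 5,nat_lit 186,[nat_lit 2, nat_lit 3, nat_lit 6, nat_lit 31, nat_lit 62, nat_lit 93, nat_lit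 186],mk [nat_lit 2, nat_lit 3, nat_lit 6, nat_lit 31, nat_lit 62, nat_lit 93, nat_lit 186]),(nat_lit 6,nat_lit 155,[nat_lit 5, nat_lit 31, nat_lit 155],mk [nat_lit 5, nat_lit 31, nat_lit 155])]⟩
def t974 : TE := ⟨nat_lit 974,nat_lit 0,nat_lit 2,[nat_lit 487],[nat_lit 2, nat_lit 487],mk [nat_lit 2, nat_lit 487],mk [nat_lit 487, nat_lit 2],[(nat_lit 1,nat_lit 486,[],mk []),(nat_lit 2,nat_lit 243,[],mk []),(nat_lit 3,nat_lit 162,[],mk []),(nat_lit 6,nat_lit 81,[],mk []),(nat_lit 9,nat_lit 54,[],mk [])]⟩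
def t1004 : TE := ⟨nat_lit 1004,nat_lit 0,nat_lit 2,[nat_lit 251],[nat_lit 2, nat_lit 4, nat_lit 251, nat_lit 502],mk [nat_lit 2, nat_lit 4, nat_lit 251, nat_lit 502],mk [nat_lit 4],[(nat_lit 1,nat_lit 500,[],mk []),(nat_lit 2,nat_lit 250,[],mk []),(nat_lit 4,nat_lit 125,[],mk []),(nat_lit 5,nat_lit 100,[],mk [])]⟩
def t1027 : TE := ⟨nat_lit 1027,nat_lit 0,nat_lit 13,[nat_lit 79],[nat_lit 13, nat_lit 79],mk [nat_lit 13, nat_lit 79],mk [nat_lit 79, nat_lit 13],[(nat_lit 1,nat_lit 936,[],mk []),(nat_lit 2,nat_lit 468,[],mk []),(nat_lit 3,nat_lit 312,[],mk []),(nat_lit 4,nat_lit 234,[],mk []),(nat_lit 6,nat_lit 156,[],mk []),(nat_lit 8,nat_lit 117,[],mk []),(nat_lit 9,nat_lit 104,[],mk [])]⟩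
def t1029 : TE := ⟨nat_lit 1029,nat_lit 0,nat_lit 3,[nat_lit 7],[nat_lit 3, nat_lit 7, nat_lit 21, nat_lit 49, nat_lit 147, nat_lit 343],mk [nat_lit 3, nat_lit 7, nat_lit 21, nat_lit 49, nat_lit 147, nat_lit 343],mk [nat_lit 343],[(nat_lit 1,nat_lit 588,[],mk []),(nat_lit 2,nat_lit 294,[],mk []),(nat_lit 3,nat_lit 196,[],mk []),(nat_lit 4,nat_lit 147,[],mk []),(nat_lit 6,nat_lit 98,[],mk []),(nat_lit 7,nat_lit 84,[],mk [])]⟩
def t1083 : TE := ⟨nat_lit 1083,nat_lit 0,nat_lit 3,[nat_lit 19],[nat_lit 3, nat_lit 19, nat_lit 57, nat_lit 361],mk [nat_lit 3, nat_lit 19, nat_lit 57, nat_lit 361],mk [nat_lit 361],[(nat_lit 1,nat_lit 684,[],mk []),(nat_lit 2,nat_lit 342,[],mk []),(nat_lit 3,nat_lit 228,[],mk []),(nat_lit 4,nat_lit 171,[],mk []),(nat_lit 6,nat_lit 114,[],mk []),(nat_lit 9,nat_lit 76,[],mk [])]⟩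
def t1183 : TE := ⟨nat_lit 1183,nat_lit 0,nat_lit 7,[nat_lit 13],[nat_lit 7, nat_lit 13, nat_lit 91, nat_lit 169],mk [nat_lit 7, nat_lit 13, nat_lit 91, nat_lit 169],mk [nat_lit 169],[(nat_lit 1,nat_lit 936,[],mk []),(nat_lit 2,nat_lit 468,[],mk []),(nat_lit 3,nat_lit 312,[],mk []),(nat_lit 4,nat_lit 234,[],mk []),(nat_lit 6,nat_lit 156,[],mk []),(nat_lit 8,nat_lit 117,[],mk []),(nat_lit 9,nat_lit 104,[],mk [])]⟩
def t1255 : TE := ⟨nat_lit 1255,nat_lit 0,nat_lit 5,[nat_lit 251],[nat_lit 5, nat_lit 251],mk [nat_lit 5, nat_lit 251],mk [nat_lit 251, nat_lit 5],[(nat_lit 1,nat_lit 1000,[],mk []),(nat_lit 2,nat_lit 500,[],mk []),(nat_lit 4,nat_lit 250,[],mk []),(nat_lit 5,nat_lit 200,[],mk []),(nat_lit 8,nat_lit 125,[],mk [])]⟩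
def t1331 : TE := ⟨nat_lit 1331,nat_lit 11,nat_lit 11,[],[nat_lit 11, nat_lit 121],mk [nat_lit 11, nat_lit 121],mk [],[(nat_lit 1,nat_lit 1210,[nat_lit 2, nat_lit 5, nat_lit 10, nat_lit 11, nat_lit 22, nat_lit 55, nat_lit 110, nat_lit 121, nat_lit 242, nat_lit 605, nat_lit 1210],mk [nat_lit 2, nat_lit 5, nat_lit 10, nat_lit 11, nat_lit 22, nat_lit 55, nat_lit 110, nat_lit 121, nat_lit 242, nat_lit 605, nat_lit 1210]),(nat_lit 2,nat_lit 605,[nat_lit 5, nat_lit 11, nat_lit 55, nat_lit 121, nat_lit 605],mk [nat_lit 5, nat_lit 11, nat_lit 55, nat_lit 121, nat_lit 605]),(nat_lit 5,nat_lit 242,[nat_lit 2, nat_lit 11, nat_lit 22, nat_lit 121, nat_lit 242],mk [nat_lit 2, nat_lit 11, nat_lit 22, nat_lit 121, nat_lit 242])]⟩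
def t1369 : TE := ⟨nat_lit 1369,nat_lit 37,nat_lit 37,[],[nat_lit 37],mk [nat_lit 37],mk [],[(nat_lit 1,nat_lit 1332,[nat_lit 2, nat_lit 3, nat_lit 4, nat_lit 6, nat_lit 9, nat_lit 12, nat_lit 18, nat_lit 36, nat_lit 37, nat_lit 74, nat_lit 111],mk [nat_lit 2, nat_lit 3, nat_lit 4, nat_lit 6, nat_lit 9, nat_lit 12, nat_lit 18, nat_lit 36, nat_lit 37, nat_lit 74, nat_lit 111]),(nat_lit 2,nat_lit 666,[nat_lit 2, nat_lit 3, nat_lit 6, nat_lit 9, nat_lit 18, nat_lit 37, nat_lit 74, nat_lit 111, nat_lit 222, nat_lit 333, nat_lit 666],mk [nat_lit 2, nat_lit 3, nat_lit 6, nat_lit 9, nat_lit 18, nat_lit 37, nat_lit 74, nat_lit 111, nat_lit 222, nat_lit 333, nat_lit 666]),(nat_lit 3,nat_lit 444,[nat_lit 2, nat_lit 3, nat_lit 4, nat_lit 6, nat_lit 12, nat_lit 37, nat_lit 74, nat_lit 111, nat_lit 148, nat_lit 222, nat_lit 444],mk [nat_lit 2, nat_lit 3, nat_lit 4, nat_lit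 6, nat_lit 12, nat_lit 37, nat_lit 74, nat_lit 111, nat_lit 148, nat_lit 222, nat_lit 444]),(nat_lit 4,nat_lit 333,[nat_lit 3, nat_lit 9, nat_lit 37, nat_lit 111, nat_lit 333],mk [nat_lit 3, nat_lit 9, nat_lit 37, nat_lit 111, nat_lit 333]),(nat_lit 6,nat_lit 222,[nat_lit 2, nat_lit 3, nat_lit 6, nat_lit 37, nat_lit 74, nat_lit 111, nat_lit 222],mk [nat_lit 2, nat_lit 3, nat_lit 6, nat_lit 37, nat_lit 74, nat_lit 111, nat_lit 222]),(nat_lit 9,nat_lit 148,[nat_lit 2, nat_lit 4, nat_lit 37, nat_lit 74, nat_lit 148],mk [nat_lit 2, nat_lit 4, nat_lit 37, nat_lit 74, nat_lit 148])]⟩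
def t1445 : TE := ⟨nat_lit 1445,nat_lit 0,nat_lit 5,[nat_lit 17],[nat_lit 5, nat_lit 17, nat_lit 85, nat_lit 289],mk [nat_lit 5, nat_lit 17, nat_lit 85, nat_lit 289],mk [nat_lit 289],[(nat_lit 1,nat_lit 1088,[],mk []),(nat_lit 2,nat_lit 544,[],mk []),(nat_lit 4,nat_lit 272,[],mk []),(nat_lit 8,nat_lit 136,[],mk [])]⟩
def t1459 : TE := ⟨nat_lit 1459,nat_lit 1459,nat_lit 1459,[],[],mk [],mk [],[(nat_lit 1,nat_lit 1458,[nat_lit 2, nat_lit 3, nat_lit 6, nat_lit 9, nat_lit 18, nat_lit 27, nat_lit 54, nat_lit 81, nat_lit 162, nat_lit 243, nat_lit 486],mk [nat_lit 2, nat_lit 3, nat_lit 6, nat_lit 9, nat_lit 18, nat_lit 27, nat_lit 54, nat_lit 81, nat_lit 162, nat_lit 243, nat_lit 486]),(nat_lit 2,nat_lit 729,[nat_lit 3, nat_lit 9, nat_lit 27, nat_lit 81, nat_lit 243, nat_lit 729],mk [nat_lit 3, nat_lit 9, nat_lit 27, nat_lit 81, nat_lit 243, nat_lit 729]),(nat_lit 3,nat_lit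 486,[nat_lit 2, nat_lit 3, nat_lit 6, nat_lit 9, nat_lit 18, nat_lit 27, nat_lit 54, nat_lit 81, nat_lit 162, nat_lit 243, nat_lit 486],mk [nat_lit 2, nat_lit 3, nat_lit 6, nat_lit 9, nat_lit 18, nat_lit 27, nat_lit 54, nat_lit 81, nat_lit 162, nat_lit 243, nat_lit 486]),(nat_lit 6,nat_lit 243,[nat_lit 3, nat_lit 9, nat_lit 27, nat_lit 81, nat_lit 243],mk [nat_lit 3, nat_lit 9, nat_lit 27, nat_lit 81, nat_lit 243]),(nat_lit 9,nat_lit 162,[nat_lit 2, nat_lit 3, nat_lit 6, nat_lit 9, nat_lit 18, nat_lit 27, nat_lit 54, nat_lit 81, nat_lit 162],mk [nat_lit 2, nat_lit 3, nat_lit 6, nat_lit 9, nat_lit 18, nat_lit 27, nat_lit 54, nat_lit 81, nat_lit 162])]⟩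
def t1461 : TE := ⟨nat_lit 1461,nat_lit 0,nat_lit 3,[nat_lit 487],[nat_lit 3, nat_lit 487],mk [nat_lit 3, nat_lit 487],mk [nat_lit 487, nat_lit 3],[(nat_lit 1,nat_lit 972,[],mk []),(nat_lit 2,nat_lit 486,[],mk []),(nat_lit 3,nat_lit 324,[],mk []),(nat_lit 4,nat_lit 243,[],mk []),(nat_lit 6,nat_lit 162,[],mk []),(nat_lit 9,nat_lit 108,[],mk [])]⟩
def t1467 : TE := ⟨nat_lit 1467,nat_lit 0,nat_lit 3,[nat_lit 163],[nat_lit 3, nat_lit 9, nat_lit 163, nat_lit 489],mk [nat_lit 3, nat_lit 9, nat_lit 163, nat_lit 489],mk [nat_lit 9],[(nat_lit 1,nat_lit 972,[],mk []),(nat_lit 2,nat_lit 486,[],mk []),(nat_lit 3,nat_lit 324,[],mk []),(nat_lit 4,nat_lit 243,[],mk []),(nat_lit 6,nat_lit 162,[],mk []),(nat_lit 9,nat_lit 108,[],mk [])]⟩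
def t1681 : TE := ⟨nat_lit 1681,nat_lit 41,nat_lit 41,[],[nat_lit 41],mk [nat_lit 41],mk [],[(nat_lit 1,nat_lit 1640,[nat_lit 2, nat_lit 4, nat_lit 5, nat_lit 8, nat_lit 10, nat_lit 20, nat_lit 40, nat_lit 41, nat_lit 82, nat_lit 164, nat_lit 205],mk [nat_lit 2, nat_lit 4, nat_lit 5, nat_lit 8, nat_lit 10, nat_lit 20, nat_lit 40, nat_lit 41, nat_lit 82, nat_lit 164, nat_lit 205]),(nat_lit 2,nat_lit 820,[nat_lit 2, nat_lit 4, nat_lit 5, nat_lit 10, nat_lit 20, nat_lit 41, nat_lit 82, nat_lit 164, nat_lit 205, nat_lit 410, nat_lit 820],mk [nat_lit 2, nat_lit 4, nat_lit 5, nat_lit 10, nat_lit 20, nat_lit 41, nat_lit 82, nat_lit 164, nat_lit 205, nat_lit 410, nat_lit 820]),(nat_lit 4,nat_lit 410,[nat_lit 2, nat_lit 5, nat_lit 10, nat_lit 41, nat_lit 82, nat_lit 205, nat_lit 410],mk [nat_lit 2, nat_lit 5, nat_lit 10, nat_lit 41, nat_lit 82, nat_lit 205, nat_lit 410]),(nat_lit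 5,nat_lit 328,[nat_lit 2, nat_lit 4, nat_lit 8, nat_lit 41, nat_lit 82, nat_lit 164, nat_lit 328],mk [nat_lit 2, nat_lit 4, nat_lit 8, nat_lit 41, nat_lit 82, nat_lit 164, nat_lit 328]),(nat_lit 8,nat_lit 205,[nat_lit 5, nat_lit 41, nat_lit 205],mk [nat_lit 5, nat_lit 41, nat_lit 205])]⟩
def t1849 : TE := ⟨nat_lit 1849,nat_lit 43,nat_lit 43,[],[nat_lit 43],mk [nat_lit 43],mk [],[(nat_lit 1,nat_lit 1806,[nat_lit 2, nat_lit 3, nat_lit 6, nat_lit 7, nat_lit 14, nat_lit 21, nat_lit 42, nat_lit 43, nat_lit 86, nat_lit 129, nat_lit 258],mk [nat_lit 2, nat_lit 3, nat_lit 6, nat_lit 7, nat_lit 14, nat_lit 21, nat_lit 42, nat_lit 43, nat_lit 86, nat_lit 129, nat_lit 258]),(nat_lit 2,nat_lit 903,[nat_lit 3, nat_lit 7, nat_lit 21, nat_lit 43, nat_lit 129, nat_lit 301, nat_lit 903],mk [nat_lit 3, nat_lit 7, nat_lit 21, nat_lit 43, nat_lit 129, nat_lit 301, nat_lit 903]),(nat_lit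 3,nat_lit 602,[nat_lit 2, nat_lit 7, nat_lit 14, nat_lit 43, nat_lit 86, nat_lit 301, nat_lit 602],mk [nat_lit 2, nat_lit 7, nat_lit 14, nat_lit 43, nat_lit 86, nat_lit 301, nat_lit 602]),(nat_lit 6,nat_lit 301,[nat_lit 7, nat_lit 43, nat_lit 301],mk [nat_lit 7, nat_lit 43, nat_lit 301]),(nat_lit 7,nat_lit 258,[nat_lit 2, nat_lit 3, nat_lit 6, nat_lit 43, nat_lit 86, nat_lit 129, nat_lit 258],mk [nat_lit 2, nat_lit 3, nat_lit 6, nat_lit 43, nat_lit 86, nat_lit 129, nat_lit 258])]⟩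
def t2187 : TE := ⟨nat_lit 2187,nat_lit 3,nat_lit 3,[],[nat_lit 3, nat_lit 9, nat_lit 27, nat_lit 81, nat_lit 243, nat_lit 729],mk [nat_lit 3, nat_lit 9, nat_lit 27, nat_lit 81, nat_lit 243, nat_lit 729],mk [],[(nat_lit 1,nat_lit 1458,[nat_lit 2, nat_lit 3, nat_lit 6, nat_lit 9, nat_lit 18, nat_lit 27, nat_lit 54, nat_lit 81, nat_lit 162, nat_lit 243, nat_lit 486],mk [nat_lit 2, nat_lit 3, nat_lit 6, nat_lit 9, nat_lit 18, nat_lit 27, nat_lit 54, nat_lit 81, nat_lit 162, nat_lit 243, nat_lit 486]),(nat_lit 2,nat_lit 729,[nat_lit 3, nat_lit 9, nat_lit 27, nat_lit 81, nat_lit 243, nat_lit 729],mk [nat_lit 3, nat_lit 9, nat_lit 27, nat_lit 81, nat_lit 243, nat_lit 729]),(nat_lit 3,nat_lit 486,[nat_lit 2, nat_lit 3, nat_lit 6, nat_lit 9, nat_lit 18, nat_lit 27, nat_lit 54, nat_lit 81, nat_lit 162, nat_lit 243, nat_lit 486],mk [nat_lit 2, nat_lit 3, nat_lit 6, nat_lit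 9, nat_lit 18, nat_lit 27, nat_lit 54, nat_lit 81, nat_lit 162, nat_lit 243, nat_lit 486]),(nat_lit 6,nat_lit 243,[nat_lit 3, nat_lit 9, nat_lit 27, nat_lit 81, nat_lit 243],mk [nat_lit 3, nat_lit 9, nat_lit 27, nat_lit 81, nat_lit 243]),(nat_lit 9,nat_lit 162,[nat_lit 2, nat_lit 3, nat_lit 6, nat_lit 9, nat_lit 18, nat_lit 27, nat_lit 54, nat_lit 81, nat_lit 162],mk [nat_lit 2, nat_lit 3, nat_lit 6, nat_lit 9, nat_lit 18, nat_lit 27, nat_lit 54, nat_lit 81, nat_lit 162])]⟩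
def t2197 : TE := ⟨nat_lit 2197,nat_lit 13,nat_lit 13,[],[nat_lit 13, nat_lit 169],mk [nat_lit 13, nat_lit 169],mk [],[(nat_lit 1,nat_lit 2028,[nat_lit 2, nat_lit 3, nat_lit 4, nat_lit 6, nat_lit 12, nat_lit 13, nat_lit 26, nat_lit 39, nat_lit 52, nat_lit 78, nat_lit 156],mk [nat_lit 2, nat_lit 3, nat_lit 4, nat_lit 6, nat_lit 12, nat_lit 13, nat_lit 26, nat_lit 39, nat_lit 52, nat_lit 78, nat_lit 156]),(nat_lit 2,nat_lit 1014,[nat_lit 2, nat_lit 3, nat_lit 6, nat_lit 13, nat_lit 26, nat_lit 39, nat_lit 78, nat_lit 169, nat_lit 338, nat_lit 507, nat_lit 1014],mk [nat_lit 2, nat_lit 3, nat_lit 6, nat_lit 13, nat_lit 26, nat_lit 39, nat_lit 78, nat_lit 169, nat_lit 338, nat_lit 507, nat_lit 1014]),(nat_lit 3,nat_lit 676,[nat_lit 2, nat_lit 4, nat_lit 13, nat_lit 26, nat_lit 52, nat_lit 169, nat_lit 338, nat_lit 676],mk [nat_lit 2, nat_lit 4, nat_lit 13, nat_lit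 26, nat_lit 52, nat_lit 169, nat_lit 338, nat_lit 676]),(nat_lit 4,nat_lit 507,[nat_lit 3, nat_lit 13, nat_lit 39, nat_lit 169, nat_lit 507],mk [nat_lit 3, nat_lit 13, nat_lit 39, nat_lit 169, nat_lit 507]),(nat_lit 6,nat_lit 338,[nat_lit 2, nat_lit 13, nat_lit 26, nat_lit 169, nat_lit 338],mk [nat_lit 2, nat_lit 13, nat_lit 26, nat_lit 169, nat_lit 338])]⟩
def t2401 : TE := ⟨nat_lit 2401,nat_lit 7,nat_lit 7,[],[nat_lit 7, nat_lit 49, nat_lit 343],mk [nat_lit 7, nat_lit 49, nat_lit 343],mk [],[(nat_lit 1,nat_lit 2058,[nat_lit 2, nat_lit 3, nat_lit 6, nat_lit 7, nat_lit 14, nat_lit 21, nat_lit 42, nat_lit 49, nat_lit 98, nat_lit 147, nat_lit 294],mk [nat_lit 2, nat_lit 3, nat_lit 6, nat_lit 7, nat_lit 14, nat_lit 21, nat_lit 42, nat_lit 49, nat_lit 98, nat_lit 147, nat_lit 294]),(nat_lit 2,nat_lit 1029,[nat_lit 3, nat_lit 7, nat_lit 21, nat_lit 49, nat_lit 147,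 nat_lit 343, nat_lit 1029],mk [nat_lit 3, nat_lit 7, nat_lit 21, nat_lit 49, nat_lit 147, nat_lit 343, nat_lit 1029]),(nat_lit 3,nat_lit 686,[nat_lit 2, nat_lit 7, nat_lit 14, nat_lit 49, nat_lit 98, nat_lit 343, nat_lit 686],mk [nat_lit 2, nat_lit 7, nat_lit 14, nat_lit 49, nat_lit 98, nat_lit 343, nat_lit 686]),(nat_lit 6,nat_lit 343,[nat_lit 7, nat_lit 49, nat_lit 343],mk [nat_lit 7, nat_lit 49, nat_lit 343]),(nat_lit 7,nat_lit 294,[nat_lit 2, nat_lit 3, nat_lit 6, nat_lit 7, nat_lit 14, nat_lit 21, nat_lit 42, nat_lit 49, nat_lit 98, nat_lit 147, nat_lit 294],mk [nat_lit 2, nat_lit 3, nat_lit 6, nat_lit 7, nat_lit 14, nat_lit 21, nat_lit 42, nat_lit 49, nat_lit 98, nat_lit 147, nat_lit 294])]⟩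
def t2663 : TE := ⟨nat_lit 2663,nat_lit 2663,nat_lit 2663,[],[],mk [],mk [],[(nat_lit 1,nat_lit 2662,[nat_lit 2, nat_lit 11, nat_lit 22, nat_lit 121, nat_lit 242, nat_lit 1331, nat_lit 2662],mk [nat_lit 2, nat_lit 11, nat_lit 22, nat_lit 121, nat_lit 242, nat_lit 1331, nat_lit 2662]),(nat_lit 2,nat_lit 1331,[nat_lit 11, nat_lit 121, nat_lit 1331],mk [nat_lit 11, nat_lit 121, nat_lit 1331])]⟩
def t2809 : TE := ⟨nat_lit 2809,nat_lit 53,nat_lit 53,[],[nat_lit 53],mk [nat_lit 53],mk [],[(nat_lit 1,nat_lit 2756,[nat_lit 2, nat_lit 4, nat_lit 13, nat_lit 26, nat_lit 52, nat_lit 53, nat_lit 106, nat_lit 212, nat_lit 689, nat_lit 1378, nat_lit 2756],mk [nat_lit 2, nat_lit 4, nat_lit 13, nat_lit 26, nat_lit 52, nat_lit 53, nat_lit 106, nat_lit 212, nat_lit 689, nat_lit 1378, nat_lit 2756]),(nat_lit 2,nat_lit 1378,[nat_lit 2, nat_lit 13, nat_lit 26, nat_lit 53, nat_lit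 106, nat_lit 689, nat_lit 1378],mk [nat_lit 2, nat_lit 13, nat_lit 26, nat_lit 53, nat_lit 106, nat_lit 689, nat_lit 1378]),(nat_lit 4,nat_lit 689,[nat_lit 13, nat_lit 53, nat_lit 689],mk [nat_lit 13, nat_lit 53, nat_lit 689])]⟩
def t3125 : TE := ⟨nat_lit 3125,nat_lit 5,nat_lit 5,[],[nat_lit 5, nat_lit 25, nat_lit 125, nat_lit 625],mk [nat_lit 5, nat_lit 25, nat_lit 125, nat_lit 625],mk [],[(nat_lit 1,nat_lit 2500,[nat_lit 2, nat_lit 4, nat_lit 5, nat_lit 10, nat_lit 20, nat_lit 25, nat_lit 50, nat_lit 100, nat_lit 125, nat_lit 250, nat_lit 500],mk [nat_lit 2, nat_lit 4, nat_lit 5, nat_lit 10, nat_lit 20, nat_lit 25, nat_lit 50, nat_lit 100, nat_lit 125, nat_lit 250, nat_lit 500]),(nat_lit 2,nat_lit 1250,[nat_lit 2, nat_lit 5, nat_lit 10, nat_lit 25, nat_lit 50, nat_lit 125, nat_lit 250, nat_lit 625, nat_lit 1250],mk [nat_lit 2, nat_lit 5, nat_lit 10, nat_lit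 25, nat_lit 50, nat_lit 125, nat_lit 250, nat_lit 625, nat_lit 1250]),(nat_lit 4,nat_lit 625,[nat_lit 5, nat_lit 25, nat_lit 125, nat_lit 625],mk [nat_lit 5, nat_lit 25, nat_lit 125, nat_lit 625]),(nat_lit 5,nat_lit 500,[nat_lit 2, nat_lit 4, nat_lit 5, nat_lit 10, nat_lit 20, nat_lit 25, nat_lit 50, nat_lit 100, nat_lit 125, nat_lit 250, nat_lit 500],mk [nat_lit 2, nat_lit 4, nat_lit 5, nat_lit 10, nat_lit 20, nat_lit 25, nat_lit 50, nat_lit 100, nat_lit 125, nat_lit 250, nat_lit 500])]⟩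
def t3721 : TE := ⟨nat_lit 3721,nat_lit 61,nat_lit 61,[],[nat_lit 61],mk [nat_lit 61],mk [],[(nat_lit 1,nat_lit 3660,[nat_lit 2, nat_lit 3, nat_lit 4, nat_lit 5, nat_lit 6, nat_lit 10, nat_lit 12, nat_lit 15, nat_lit 20, nat_lit 30, nat_lit 60],mk [nat_lit 2, nat_lit 3, nat_lit 4, nat_lit 5, nat_lit 6, nat_lit 10, nat_lit 12, nat_lit 15, nat_lit 20, nat_lit 30, nat_lit 60]),(nat_lit 2,nat_lit 1830,[nat_lit 2, nat_lit 3, nat_lit 5, nat_lit 6, nat_lit 10, nat_lit 15, nat_lit 30, nat_lit 61, nat_lit 122, nat_lit 183, nat_lit 305],mk [nat_lit 2, nat_lit 3, nat_lit 5, nat_lit 6, nat_lit 10, nat_lit 15, nat_lit 30, nat_lit 61, nat_lit 122, nat_lit 183, nat_lit 305]),(nat_lit 3,nat_lit 1220,[nat_lit 2, nat_lit 4, nat_lit 5, nat_lit 10, nat_lit 20, nat_lit 61, nat_lit 122, nat_lit 244, nat_lit 305, nat_lit 610, nat_lit 1220],mk [nat_lit 2, nat_lit 4, nat_lit 5, nat_lit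 10, nat_lit 20, nat_lit 61, nat_lit 122, nat_lit 244, nat_lit 305, nat_lit 610, nat_lit 1220]),(nat_lit 4,nat_lit 915,[nat_lit 3, nat_lit 5, nat_lit 15, nat_lit 61, nat_lit 183, nat_lit 305, nat_lit 915],mk [nat_lit 3, nat_lit 5, nat_lit 15, nat_lit 61, nat_lit 183, nat_lit 305, nat_lit 915]),(nat_lit 5,nat_lit 732,[nat_lit 2, nat_lit 3, nat_lit 4, nat_lit 6, nat_lit 12, nat_lit 61, nat_lit 122, nat_lit 183, nat_lit 244, nat_lit 366, nat_lit 732],mk [nat_lit 2, nat_lit 3, nat_lit 4, nat_lit 6, nat_lit 12, nat_lit 61, nat_lit 122, nat_lit 183, nat_lit 244, nat_lit 366, nat_lit 732]),(nat_lit 6,nat_lit 610,[nat_lit 2, nat_lit 5, nat_lit 10, nat_lit 61, nat_lit 122, nat_lit 305, nat_lit 610],mk [nat_lit 2, nat_lit 5, nat_lit 10, nat_lit 61, nat_lit 122, nat_lit 305, nat_lit 610])]⟩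
def t4913 : TE := ⟨nat_lit 4913,nat_lit 17,nat_lit 17,[],[nat_lit 17, nat_lit 289],mk [nat_lit 17, nat_lit 289],mk [],[(nat_lit 1,nat_lit 4624,[nat_lit 2, nat_lit 4, nat_lit 8, nat_lit 16, nat_lit 17, nat_lit 34, nat_lit 68, nat_lit 136, nat_lit 272, nat_lit 289, nat_lit 578],mk [nat_lit 2, nat_lit 4, nat_lit 8, nat_lit 16, nat_lit 17, nat_lit 34, nat_lit 68, nat_lit 136, nat_lit 272, nat_lit 289, nat_lit 578]),(nat_lit 2,nat_lit 2312,[nat_lit 2, nat_lit 4, nat_lit 8, nat_lit 17, nat_lit 34, nat_lit 68, nat_lit 136, nat_lit 289, nat_lit 578, nat_lit 1156, nat_lit 2312],mk [nat_lit 2, nat_lit 4, nat_lit 8, nat_lit 17, nat_lit 34, nat_lit 68, nat_lit 136, nat_lit 289, nat_lit 578, nat_lit 1156, nat_lit 2312]),(nat_lit 4,nat_lit 1156,[nat_lit 2, nat_lit 4, nat_lit 17, nat_lit 34, nat_lit 68, nat_lit 289, nat_lit 578, nat_lit 1156],mk [nat_lit 2, nat_lit 4, nat_lit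 17, nat_lit 34, nat_lit 68, nat_lit 289, nat_lit 578, nat_lit 1156]),(nat_lit 8,nat_lit 578,[nat_lit 2, nat_lit 17, nat_lit 34, nat_lit 289, nat_lit 578],mk [nat_lit 2, nat_lit 17, nat_lit 34, nat_lit 289, nat_lit 578])]⟩
def t6241 : TE := ⟨nat_lit 6241,nat_lit 79,nat_lit 79,[],[nat_lit 79],mk [nat_lit 79],mk [],[(nat_lit 1,nat_lit 6162,[nat_lit 2, nat_lit 3, nat_lit 6, nat_lit 13, nat_lit 26, nat_lit 39, nat_lit 78, nat_lit 79, nat_lit 158, nat_lit 237, nat_lit 474],mk [nat_lit 2, nat_lit 3, nat_lit 6, nat_lit 13, nat_lit 26, nat_lit 39, nat_lit 78, nat_lit 79, nat_lit 158, nat_lit 237, nat_lit 474]),(nat_lit 2,nat_lit 3081,[nat_lit 3, nat_lit 13, nat_lit 39, nat_lit 79, nat_lit 237, nat_lit 1027, nat_lit 3081],mk [nat_lit 3, nat_lit 13, nat_lit 39, nat_lit 79, nat_lit 237, nat_lit 1027, nat_lit 3081]),(nat_lit 3,nat_lit 2054,[nat_lit 2, nat_lit 13, nat_lit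 26, nat_lit 79, nat_lit 158, nat_lit 1027, nat_lit 2054],mk [nat_lit 2, nat_lit 13, nat_lit 26, nat_lit 79, nat_lit 158, nat_lit 1027, nat_lit 2054]),(nat_lit 6,nat_lit 1027,[nat_lit 13, nat_lit 79, nat_lit 1027],mk [nat_lit 13, nat_lit 79, nat_lit 1027])]⟩
def t6275 : TE := ⟨nat_lit 6275,nat_lit 0,nat_lit 5,[nat_lit 251],[nat_lit 5, nat_lit 25, nat_lit 251, nat_lit 1255],mk [nat_lit 5, nat_lit 25, nat_lit 251, nat_lit 1255],mk [nat_lit 25],[(nat_lit 1,nat_lit 5000,[],mk []),(nat_lit 2,nat_lit 2500,[],mk []),(nat_lit 4,nat_lit 1250,[],mk []),(nat_lit 5,nat_lit 1000,[],mk []),(nat_lit 8,nat_lit 625,[],mk [])]⟩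
def t6561 : TE := ⟨nat_lit 6561,nat_lit 3,nat_lit 3,[],[nat_lit 3, nat_lit 9, nat_lit 27, nat_lit 81, nat_lit 243, nat_lit 729, nat_lit 2187],mk [nat_lit 3, nat_lit 9, nat_lit 27, nat_lit 81, nat_lit 243, nat_lit 729, nat_lit 2187],mk [],[(nat_lit 1,nat_lit 4374,[nat_lit 2, nat_lit 3, nat_lit 6, nat_lit 9, nat_lit 18, nat_lit 27, nat_lit 54, nat_lit 81, nat_lit 162, nat_lit 243, nat_lit 486],mk [nat_lit 2, nat_lit 3, nat_lit 6, nat_lit 9, nat_lit 18, nat_lit 27, nat_lit 54, nat_lit 81, nat_lit 162, nat_lit 243, nat_lit 486]),(nat_lit 2,nat_lit 2187,[nat_lit 3, nat_lit 9, nat_lit 27, nat_lit 81, nat_lit 243, nat_lit 729, nat_lit 2187],mk [nat_lit 3, nat_lit 9, nat_lit 27, nat_lit 81, nat_lit 243, nat_lit 729, nat_lit 2187]),(nat_lit 3,nat_lit 1458,[nat_lit 2, nat_lit 3, nat_lit 6, nat_lit 9, nat_lit 18, nat_lit 27, nat_lit 54, nat_lit 81, nat_lit 162, nat_lit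 243, nat_lit 486],mk [nat_lit 2, nat_lit 3, nat_lit 6, nat_lit 9, nat_lit 18, nat_lit 27, nat_lit 54, nat_lit 81, nat_lit 162, nat_lit 243, nat_lit 486]),(nat_lit 6,nat_lit 729,[nat_lit 3, nat_lit 9, nat_lit 27, nat_lit 81, nat_lit 243, nat_lit 729],mk [nat_lit 3, nat_lit 9, nat_lit 27, nat_lit 81, nat_lit 243, nat_lit 729]),(nat_lit 9,nat_lit 486,[nat_lit 2, nat_lit 3, nat_lit 6, nat_lit 9, nat_lit 18, nat_lit 27, nat_lit 54, nat_lit 81, nat_lit 162, nat_lit 243, nat_lit 486],mk [nat_lit 2, nat_lit 3, nat_lit 6, nat_lit 9, nat_lit 18, nat_lit 27, nat_lit 54, nat_lit 81, nat_lit 162, nat_lit 243, nat_lit 486])]⟩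
def t6859 : TE := ⟨nat_lit 6859,nat_lit 19,nat_lit 19,[],[nat_lit 19, nat_lit 361],mk [nat_lit 19, nat_lit 361],mk [],[(nat_lit 1,nat_lit 6498,[nat_lit 2, nat_lit 3, nat_lit 6, nat_lit 9, nat_lit 18, nat_lit 19, nat_lit 38, nat_lit 57, nat_lit 114, nat_lit 171, nat_lit 342],mk [nat_lit 2, nat_lit 3, nat_lit 6, nat_lit 9, nat_lit 18, nat_lit 19, nat_lit 38, nat_lit 57, nat_lit 114, nat_lit 171, nat_lit 342]),(nat_lit 2,nat_lit 3249,[nat_lit 3, nat_lit 9, nat_lit 19, nat_lit 57, nat_lit 171, nat_lit 361, nat_lit 1083, nat_lit 3249],mk [nat_lit 3, nat_lit 9, nat_lit 19, nat_lit 57, nat_lit 171, nat_lit 361, nat_lit 1083, nat_lit 3249]),(nat_lit 3,nat_lit 2166,[nat_lit 2, nat_lit 3, nat_lit 6, nat_lit 19, nat_lit 38, nat_lit 57, nat_lit 114, nat_lit 361, nat_lit 722, nat_lit 1083, nat_lit 2166],mk [nat_lit 2, nat_lit 3, nat_lit 6, nat_lit 19, nat_lit 38, nat_lit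 57, nat_lit 114, nat_lit 361, nat_lit 722, nat_lit 1083, nat_lit 2166]),(nat_lit 6,nat_lit 1083,[nat_lit 3, nat_lit 19, nat_lit 57, nat_lit 361, nat_lit 1083],mk [nat_lit 3, nat_lit 19, nat_lit 57, nat_lit 361, nat_lit 1083]),(nat_lit 9,nat_lit 722,[nat_lit 2, nat_lit 19, nat_lit 38, nat_lit 361, nat_lit 722],mk [nat_lit 2, nat_lit 19, nat_lit 38, nat_lit 361, nat_lit 722])]⟩
def t9409 : TE := ⟨nat_lit 9409,nat_lit 97,nat_lit 97,[],[nat_lit 97],mk [nat_lit 97],mk [],[(nat_lit 1,nat_lit 9312,[nat_lit 2, nat_lit 3, nat_lit 4, nat_lit 6, nat_lit 8, nat_lit 12, nat_lit 16, nat_lit 24, nat_lit 32, nat_lit 48, nat_lit 96],mk [nat_lit 2, nat_lit 3, nat_lit 4, nat_lit 6, nat_lit 8, nat_lit 12, nat_lit 16, nat_lit 24, nat_lit 32, nat_lit 48, nat_lit 96]),(nat_lit 2,nat_lit 4656,[nat_lit 2, nat_lit 3, nat_lit 4, nat_lit 6, nat_lit 8, nat_lit 12, nat_lit 16, nat_lit 24,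 nat_lit 48, nat_lit 97, nat_lit 194],mk [nat_lit 2, nat_lit 3, nat_lit 4, nat_lit 6, nat_lit 8, nat_lit 12, nat_lit 16, nat_lit 24, nat_lit 48, nat_lit 97, nat_lit 194]),(nat_lit 3,nat_lit 3104,[nat_lit 2, nat_lit 4, nat_lit 8, nat_lit 16, nat_lit 32, nat_lit 97, nat_lit 194, nat_lit 388, nat_lit 776, nat_lit 1552, nat_lit 3104],mk [nat_lit 2, nat_lit 4, nat_lit 8, nat_lit 16, nat_lit 32, nat_lit 97, nat_lit 194, nat_lit 388, nat_lit 776, nat_lit 1552, nat_lit 3104]),(nat_lit 4,nat_lit 2328,[nat_lit 2, nat_lit 3, nat_lit 4, nat_lit 6, nat_lit 8, nat_lit 12, nat_lit 24, nat_lit 97, nat_lit 194, nat_lit 291, nat_lit 388],mk [nat_lit 2, nat_lit 3, nat_lit 4, nat_lit 6, nat_lit 8, nat_lit 12, nat_lit 24, nat_lit 97, nat_lit 194, nat_lit 291, nat_lit 388]),(nat_lit 6,nat_lit 1552,[nat_lit 2, nat_lit 4, nat_lit 8, nat_lit 16, nat_lit 97, nat_lit 194, nat_lit 388, nat_lit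 776, nat_lit 1552],mk [nat_lit 2, nat_lit 4, nat_lit 8, nat_lit 16, nat_lit 97, nat_lit 194, nat_lit 388, nat_lit 776, nat_lit 1552]),(nat_lit 8,nat_lit 1164,[nat_lit 2, nat_lit 3, nat_lit 4, nat_lit 6, nat_lit 12, nat_lit 97, nat_lit 194, nat_lit 291, nat_lit 388, nat_lit 582, nat_lit 1164],mk [nat_lit 2, nat_lit 3, nat_lit 4, nat_lit 6, nat_lit 12, nat_lit 97, nat_lit 194, nat_lit 291, nat_lit 388, nat_lit 582, nat_lit 1164])]⟩
def t10201 : TE := ⟨nat_lit 10201,nat_lit 101,nat_lit 101,[],[nat_lit 101],mk [nat_lit 101],mk [],[(nat_lit 1,nat_lit 10100,[nat_lit 2, nat_lit 4, nat_lit 5, nat_lit 10, nat_lit 20, nat_lit 25, nat_lit 50, nat_lit 100, nat_lit 101, nat_lit 202, nat_lit 404],mk [nat_lit 2, nat_lit 4, nat_lit 5, nat_lit 10, nat_lit 20, nat_lit 25, nat_lit 50, nat_lit 100, nat_lit 101, nat_lit 202, nat_lit 404]),(nat_lit 2,nat_lit 5050,[nat_lit 2, nat_lit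 5, nat_lit 10, nat_lit 25, nat_lit 50, nat_lit 101, nat_lit 202, nat_lit 505, nat_lit 1010, nat_lit 2525, nat_lit 5050],mk [nat_lit 2, nat_lit 5, nat_lit 10, nat_lit 25, nat_lit 50, nat_lit 101, nat_lit 202, nat_lit 505, nat_lit 1010, nat_lit 2525, nat_lit 5050]),(nat_lit 4,nat_lit 2525,[nat_lit 5, nat_lit 25, nat_lit 101, nat_lit 505, nat_lit 2525],mk [nat_lit 5, nat_lit 25, nat_lit 101, nat_lit 505, nat_lit 2525]),(nat_lit 5,nat_lit 2020,[nat_lit 2, nat_lit 4, nat_lit 5, nat_lit 10, nat_lit 20, nat_lit 101, nat_lit 202, nat_lit 404, nat_lit 505, nat_lit 1010, nat_lit 2020],mk [nat_lit 2, nat_lit 4, nat_lit 5, nat_lit 10, nat_lit 20, nat_lit 101, nat_lit 202, nat_lit 404, nat_lit 505, nat_lit 1010, nat_lit 2020])]⟩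
def t11881 : TE := ⟨nat_lit 11881,nat_lit 109,nat_lit 109,[],[nat_lit 109],mk [nat_lit 109],mk [],[(nat_lit 1,nat_lit 11772,[nat_lit 2, nat_lit 3, nat_lit 4, nat_lit 6, nat_lit 9, nat_lit 12, nat_lit 18, nat_lit 27, nat_lit 36, nat_lit 54, nat_lit 108],mk [nat_lit 2, nat_lit 3, nat_lit 4, nat_lit 6, nat_lit 9, nat_lit 12, nat_lit 18, nat_lit 27, nat_lit 36, nat_lit 54, nat_lit 108]),(nat_lit 2,nat_lit 5886,[nat_lit 2, nat_lit 3, nat_lit 6, nat_lit 9, nat_lit 18, nat_lit 27, nat_lit 54, nat_lit 109, nat_lit 218, nat_lit 327, nat_lit 654],mk [nat_lit 2, nat_lit 3, nat_lit 6, nat_lit 9, nat_lit 18, nat_lit 27, nat_lit 54, nat_lit 109, nat_lit 218, nat_lit 327, nat_lit 654]),(nat_lit 3,nat_lit 3924,[nat_lit 2, nat_lit 3, nat_lit 4, nat_lit 6, nat_lit 9, nat_lit 12, nat_lit 18, nat_lit 36, nat_lit 109, nat_lit 218, nat_lit 327],mk [nat_lit 2, nat_lit 3, nat_lit 4,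 nat_lit 6, nat_lit 9, nat_lit 12, nat_lit 18, nat_lit 36, nat_lit 109, nat_lit 218, nat_lit 327]),(nat_lit 4,nat_lit 2943,[nat_lit 3, nat_lit 9, nat_lit 27, nat_lit 109, nat_lit 327, nat_lit 981, nat_lit 2943],mk [nat_lit 3, nat_lit 9, nat_lit 27, nat_lit 109, nat_lit 327, nat_lit 981, nat_lit 2943]),(nat_lit 6,nat_lit 1962,[nat_lit 2, nat_lit 3, nat_lit 6, nat_lit 9, nat_lit 18, nat_lit 109, nat_lit 218, nat_lit 327, nat_lit 654, nat_lit 981, nat_lit 1962],mk [nat_lit 2, nat_lit 3, nat_lit 6, nat_lit 9, nat_lit 18, nat_lit 109, nat_lit 218, nat_lit 327, nat_lit 654, nat_lit 981, nat_lit 1962]),(nat_lit 9,nat_lit 1308,[nat_lit 2, nat_lit 3, nat_lit 4, nat_lit 6, nat_lit 12, nat_lit 109, nat_lit 218, nat_lit 327, nat_lit 436, nat_lit 654, nat_lit 1308],mk [nat_lit 2, nat_lit 3, nat_lit 4, nat_lit 6, nat_lit 12, nat_lit 109, nat_lit 218, nat_lit 327, nat_lit 436,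 nat_lit 654, nat_lit 1308])]⟩
def t12167 : TE := ⟨nat_lit 12167,nat_lit 23,nat_lit 23,[],[nat_lit 23, nat_lit 529],mk [nat_lit 23, nat_lit 529],mk [],[(nat_lit 1,nat_lit 11638,[nat_lit 2, nat_lit 11, nat_lit 22, nat_lit 23, nat_lit 46, nat_lit 253, nat_lit 506, nat_lit 529, nat_lit 1058, nat_lit 5819, nat_lit 11638],mk [nat_lit 2, nat_lit 11, nat_lit 22, nat_lit 23, nat_lit 46, nat_lit 253, nat_lit 506, nat_lit 529, nat_lit 1058, nat_lit 5819, nat_lit 11638]),(nat_lit 2,nat_lit 5819,[nat_lit 11, nat_lit 23, nat_lit 253, nat_lit 529, nat_lit 5819],mk [nat_lit 11, nat_lit 23, nat_lit 253, nat_lit 529, nat_lit 5819])]⟩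
def t14641 : TE := ⟨nat_lit 14641,nat_lit 11,nat_lit 11,[],[nat_lit 11, nat_lit 121, nat_lit 1331],mk [nat_lit 11, nat_lit 121, nat_lit 1331],mk [],[(nat_lit 1,nat_lit 13310,[nat_lit 2, nat_lit 5, nat_lit 10, nat_lit 11, nat_lit 22, nat_lit 55, nat_lit 110, nat_lit 121, nat_lit 242, nat_lit 605, nat_lit 1210],mk [nat_lit 2, nat_lit 5, nat_lit 10, nat_lit 11, nat_lit 22, nat_lit 55, nat_lit 110, nat_lit 121, nat_lit 242, nat_lit 605, nat_lit 1210]),(nat_lit 2,nat_lit 6655,[nat_lit 5, nat_lit 11, nat_lit 55, nat_lit 121, nat_lit 605, nat_lit 1331, nat_lit 6655],mk [nat_lit 5, nat_lit 11, nat_lit 55, nat_lit 121, nat_lit 605, nat_lit 1331, nat_lit 6655]),(nat_lit 5,nat_lit 2662,[nat_lit 2, nat_lit 11, nat_lit 22, nat_lit 121, nat_lit 242, nat_lit 1331, nat_lit 2662],mk [nat_lit 2, nat_lit 11, nat_lit 22, nat_lit 121, nat_lit 242, nat_lit 1331, nat_lit 2662])]⟩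
def t15625 : TE := ⟨nat_lit 15625,nat_lit 5,nat_lit 5,[],[nat_lit 5, nat_lit 25, nat_lit 125, nat_lit 625, nat_lit 3125],mk [nat_lit 5, nat_lit 25, nat_lit 125, nat_lit 625, nat_lit 3125],mk [],[(nat_lit 1,nat_lit 12500,[nat_lit 2, nat_lit 4, nat_lit 5, nat_lit 10, nat_lit 20, nat_lit 25, nat_lit 50, nat_lit 100, nat_lit 125, nat_lit 250, nat_lit 500],mk [nat_lit 2, nat_lit 4, nat_lit 5, nat_lit 10, nat_lit 20, nat_lit 25, nat_lit 50, nat_lit 100, nat_lit 125, nat_lit 250, nat_lit 500]),(nat_lit 2,nat_lit 6250,[nat_lit 2, nat_lit 5, nat_lit 10, nat_lit 25, nat_lit 50, nat_lit 125, nat_lit 250, nat_lit 625, nat_lit 1250, nat_lit 3125, nat_lit 6250],mk [nat_lit 2, nat_lit 5, nat_lit 10, nat_lit 25, nat_lit 50, nat_lit 125, nat_lit 250, nat_lit 625, nat_lit 1250, nat_lit 3125, nat_lit 6250]),(nat_lit 4,nat_lit 3125,[nat_lit 5, nat_lit 25, nat_lit 125, nat_lit 625,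 nat_lit 3125],mk [nat_lit 5, nat_lit 25, nat_lit 125, nat_lit 625, nat_lit 3125]),(nat_lit 5,nat_lit 2500,[nat_lit 2, nat_lit 4, nat_lit 5, nat_lit 10, nat_lit 20, nat_lit 25, nat_lit 50, nat_lit 100, nat_lit 125, nat_lit 250, nat_lit 500],mk [nat_lit 2, nat_lit 4, nat_lit 5, nat_lit 10, nat_lit 20, nat_lit 25, nat_lit 50, nat_lit 100, nat_lit 125, nat_lit 250, nat_lit 500])]⟩
def t16807 : TE := ⟨nat_lit 16807,nat_lit 7,nat_lit 7,[],[nat_lit 7, nat_lit 49, nat_lit 343, nat_lit 2401],mk [nat_lit 7, nat_lit 49, nat_lit 343, nat_lit 2401],mk [],[(nat_lit 1,nat_lit 14406,[nat_lit 2, nat_lit 3, nat_lit 6, nat_lit 7, nat_lit 14, nat_lit 21, nat_lit 42, nat_lit 49, nat_lit 98, nat_lit 147, nat_lit 294],mk [nat_lit 2, nat_lit 3, nat_lit 6, nat_lit 7, nat_lit 14, nat_lit 21, nat_lit 42, nat_lit 49, nat_lit 98, nat_lit 147, nat_lit 294]),(nat_lit 2,nat_lit 7203,[nat_lit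 3, nat_lit 7, nat_lit 21, nat_lit 49, nat_lit 147, nat_lit 343, nat_lit 1029, nat_lit 2401, nat_lit 7203],mk [nat_lit 3, nat_lit 7, nat_lit 21, nat_lit 49, nat_lit 147, nat_lit 343, nat_lit 1029, nat_lit 2401, nat_lit 7203]),(nat_lit 3,nat_lit 4802,[nat_lit 2, nat_lit 7, nat_lit 14, nat_lit 49, nat_lit 98, nat_lit 343, nat_lit 686, nat_lit 2401, nat_lit 4802],mk [nat_lit 2, nat_lit 7, nat_lit 14, nat_lit 49, nat_lit 98, nat_lit 343, nat_lit 686, nat_lit 2401, nat_lit 4802]),(nat_lit 6,nat_lit 2401,[nat_lit 7, nat_lit 49, nat_lit 343, nat_lit 2401],mk [nat_lit 7, nat_lit 49, nat_lit 343, nat_lit 2401]),(nat_lit 7,nat_lit 2058,[nat_lit 2, nat_lit 3, nat_lit 6, nat_lit 7, nat_lit 14, nat_lit 21, nat_lit 42, nat_lit 49, nat_lit 98, nat_lit 147, nat_lit 294],mk [nat_lit 2, nat_lit 3, nat_lit 6, nat_lit 7, nat_lit 14, nat_lit 21, nat_lit 42, nat_lit 49, nat_lit 98,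 nat_lit 147, nat_lit 294])]⟩
def t24389 : TE := ⟨nat_lit 24389,nat_lit 29,nat_lit 29,[],[nat_lit 29, nat_lit 841],mk [nat_lit 29, nat_lit 841],mk [],[(nat_lit 1,nat_lit 23548,[nat_lit 2, nat_lit 4, nat_lit 7, nat_lit 14, nat_lit 28, nat_lit 29, nat_lit 58, nat_lit 116, nat_lit 203, nat_lit 406, nat_lit 812],mk [nat_lit 2, nat_lit 4, nat_lit 7, nat_lit 14, nat_lit 28, nat_lit 29, nat_lit 58, nat_lit 116, nat_lit 203, nat_lit 406, nat_lit 812]),(nat_lit 2,nat_lit 11774,[nat_lit 2, nat_lit 7, nat_lit 14, nat_lit 29, nat_lit 58, nat_lit 203, nat_lit 406, nat_lit 841, nat_lit 1682, nat_lit 5887, nat_lit 11774],mk [nat_lit 2, nat_lit 7, nat_lit 14, nat_lit 29, nat_lit 58, nat_lit 203, nat_lit 406, nat_lit 841, nat_lit 1682, nat_lit 5887, nat_lit 11774]),(nat_lit 4,nat_lit 5887,[nat_lit 7, nat_lit 29, nat_lit 203, nat_lit 841, nat_lit 5887],mk [nat_lit 7, nat_lit 29,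 nat_lit 203, nat_lit 841, nat_lit 5887]),(nat_lit 7,nat_lit 3364,[nat_lit 2, nat_lit 4, nat_lit 29, nat_lit 58, nat_lit 116, nat_lit 841, nat_lit 1682, nat_lit 3364],mk [nat_lit 2, nat_lit 4, nat_lit 29, nat_lit 58, nat_lit 116, nat_lit 841, nat_lit 1682, nat_lit 3364])]⟩
def t26569 : TE := ⟨nat_lit 26569,nat_lit 163,nat_lit 163,[],[nat_lit 163],mk [nat_lit 163],mk [],[(nat_lit 1,nat_lit 26406,[nat_lit 2, nat_lit 3, nat_lit 6, nat_lit 9, nat_lit 18, nat_lit 27, nat_lit 54, nat_lit 81, nat_lit 162, nat_lit 163, nat_lit 326],mk [nat_lit 2, nat_lit 3, nat_lit 6, nat_lit 9, nat_lit 18, nat_lit 27, nat_lit 54, nat_lit 81, nat_lit 162, nat_lit 163, nat_lit 326]),(nat_lit 2,nat_lit 13203,[nat_lit 3, nat_lit 9, nat_lit 27, nat_lit 81, nat_lit 163, nat_lit 489, nat_lit 1467, nat_lit 4401, nat_lit 13203],mk [nat_lit 3, nat_lit 9, nat_lit 27, nat_lit 81, nat_lit 163, nat_lit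 489, nat_lit 1467, nat_lit 4401, nat_lit 13203]),(nat_lit 3,nat_lit 8802,[nat_lit 2, nat_lit 3, nat_lit 6, nat_lit 9, nat_lit 18, nat_lit 27, nat_lit 54, nat_lit 163, nat_lit 326, nat_lit 489, nat_lit 978],mk [nat_lit 2, nat_lit 3, nat_lit 6, nat_lit 9, nat_lit 18, nat_lit 27, nat_lit 54, nat_lit 163, nat_lit 326, nat_lit 489, nat_lit 978]),(nat_lit 6,nat_lit 4401,[nat_lit 3, nat_lit 9, nat_lit 27, nat_lit 163, nat_lit 489, nat_lit 1467, nat_lit 4401],mk [nat_lit 3, nat_lit 9, nat_lit 27, nat_lit 163, nat_lit 489, nat_lit 1467, nat_lit 4401]),(nat_lit 9,nat_lit 2934,[nat_lit 2, nat_lit 3, nat_lit 6, nat_lit 9, nat_lit 18, nat_lit 163, nat_lit 326, nat_lit 489, nat_lit 978, nat_lit 1467, nat_lit 2934],mk [nat_lit 2, nat_lit 3, nat_lit 6, nat_lit 9, nat_lit 18, nat_lit 163, nat_lit 326, nat_lit 489, nat_lit 978, nat_lit 1467, nat_lit 2934])]⟩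
def t28561 : TE := ⟨nat_lit 28561,nat_lit 13,nat_lit 13,[],[nat_lit 13, nat_lit 169, nat_lit 2197],mk [nat_lit 13, nat_lit 169, nat_lit 2197],mk [],[(nat_lit 1,nat_lit 26364,[nat_lit 2, nat_lit 3, nat_lit 4, nat_lit 6, nat_lit 12, nat_lit 13, nat_lit 26, nat_lit 39, nat_lit 52, nat_lit 78, nat_lit 156],mk [nat_lit 2, nat_lit 3, nat_lit 4, nat_lit 6, nat_lit 12, nat_lit 13, nat_lit 26, nat_lit 39, nat_lit 52, nat_lit 78, nat_lit 156]),(nat_lit 2,nat_lit 13182,[nat_lit 2, nat_lit 3, nat_lit 6, nat_lit 13, nat_lit 26, nat_lit 39, nat_lit 78, nat_lit 169, nat_lit 338, nat_lit 507, nat_lit 1014],mk [nat_lit 2, nat_lit 3, nat_lit 6, nat_lit 13, nat_lit 26, nat_lit 39, nat_lit 78, nat_lit 169, nat_lit 338, nat_lit 507, nat_lit 1014]),(nat_lit 3,nat_lit 8788,[nat_lit 2, nat_lit 4, nat_lit 13, nat_lit 26, nat_lit 52, nat_lit 169, nat_lit 338, nat_lit 676, nat_lit 2197,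 nat_lit 4394, nat_lit 8788],mk [nat_lit 2, nat_lit 4, nat_lit 13, nat_lit 26, nat_lit 52, nat_lit 169, nat_lit 338, nat_lit 676, nat_lit 2197, nat_lit 4394, nat_lit 8788]),(nat_lit 4,nat_lit 6591,[nat_lit 3, nat_lit 13, nat_lit 39, nat_lit 169, nat_lit 507, nat_lit 2197, nat_lit 6591],mk [nat_lit 3, nat_lit 13, nat_lit 39, nat_lit 169, nat_lit 507, nat_lit 2197, nat_lit 6591]),(nat_lit 6,nat_lit 4394,[nat_lit 2, nat_lit 13, nat_lit 26, nat_lit 169, nat_lit 338, nat_lit 2197, nat_lit 4394],mk [nat_lit 2, nat_lit 13, nat_lit 26, nat_lit 169, nat_lit 338, nat_lit 2197, nat_lit 4394])]⟩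
def t29791 : TE := ⟨nat_lit 29791,nat_lit 31,nat_lit 31,[],[nat_lit 31, nat_lit 961],mk [nat_lit 31, nat_lit 961],mk [],[(nat_lit 1,nat_lit 28830,[nat_lit 2, nat_lit 3, nat_lit 5, nat_lit 6, nat_lit 10, nat_lit 15, nat_lit 30, nat_lit 31, nat_lit 62, nat_lit 93, nat_lit 155],mk [nat_lit 2, nat_lit 3, nat_lit 5, nat_lit 6, nat_lit 10, nat_lit 15, nat_lit 30, nat_lit 31, nat_lit 62, nat_lit 93, nat_lit 155]),(nat_lit 2,nat_lit 14415,[nat_lit 3, nat_lit 5, nat_lit 15, nat_lit 31, nat_lit 93, nat_lit 155, nat_lit 465, nat_lit 961, nat_lit 2883, nat_lit 4805, nat_lit 14415],mk [nat_lit 3, nat_lit 5, nat_lit 15, nat_lit 31, nat_lit 93, nat_lit 155, nat_lit 465, nat_lit 961, nat_lit 2883, nat_lit 4805, nat_lit 14415]),(nat_lit 3,nat_lit 9610,[nat_lit 2, nat_lit 5, nat_lit 10, nat_lit 31, nat_lit 62, nat_lit 155, nat_lit 310, nat_lit 961, nat_lit 1922, nat_lit 4805,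 nat_lit 9610],mk [nat_lit 2, nat_lit 5, nat_lit 10, nat_lit 31, nat_lit 62, nat_lit 155, nat_lit 310, nat_lit 961, nat_lit 1922, nat_lit 4805, nat_lit 9610]),(nat_lit 5,nat_lit 5766,[nat_lit 2, nat_lit 3, nat_lit 6, nat_lit 31, nat_lit 62, nat_lit 93, nat_lit 186, nat_lit 961, nat_lit 1922, nat_lit 2883, nat_lit 5766],mk [nat_lit 2, nat_lit 3, nat_lit 6, nat_lit 31, nat_lit 62, nat_lit 93, nat_lit 186, nat_lit 961, nat_lit 1922, nat_lit 2883, nat_lit 5766]),(nat_lit 6,nat_lit 4805,[nat_lit 5, nat_lit 31, nat_lit 155, nat_lit 961, nat_lit 4805],mk [nat_lit 5, nat_lit 31, nat_lit 155, nat_lit 961, nat_lit 4805])]⟩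
def t50653 : TE := ⟨nat_lit 50653,nat_lit 37,nat_lit 37,[],[nat_lit 37, nat_lit 1369],mk [nat_lit 37, nat_lit 1369],mk [],[(nat_lit 1,nat_lit 49284,[nat_lit 2, nat_lit 3, nat_lit 4, nat_lit 6, nat_lit 9, nat_lit 12, nat_lit 18, nat_lit 36, nat_lit 37, nat_lit 74, nat_lit 111],mk [nat_lit 2, nat_lit 3, nat_lit 4, nat_lit 6, nat_lit 9, nat_lit 12, nat_lit 18, nat_lit 36, nat_lit 37, nat_lit 74, nat_lit 111]),(nat_lit 2,nat_lit 24642,[nat_lit 2, nat_lit 3, nat_lit 6, nat_lit 9, nat_lit 18, nat_lit 37, nat_lit 74, nat_lit 111, nat_lit 222, nat_lit 333, nat_lit 666],mk [nat_lit 2, nat_lit 3, nat_lit 6, nat_lit 9, nat_lit 18, nat_lit 37, nat_lit 74, nat_lit 111, nat_lit 222, nat_lit 333, nat_lit 666]),(nat_lit 3,nat_lit 16428,[nat_lit 2, nat_lit 3, nat_lit 4, nat_lit 6, nat_lit 12, nat_lit 37, nat_lit 74, nat_lit 111, nat_lit 148, nat_lit 222, nat_lit 444],mk [nat_lit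 2, nat_lit 3, nat_lit 4, nat_lit 6, nat_lit 12, nat_lit 37, nat_lit 74, nat_lit 111, nat_lit 148, nat_lit 222, nat_lit 444]),(nat_lit 4,nat_lit 12321,[nat_lit 3, nat_lit 9, nat_lit 37, nat_lit 111, nat_lit 333, nat_lit 1369, nat_lit 4107, nat_lit 12321],mk [nat_lit 3, nat_lit 9, nat_lit 37, nat_lit 111, nat_lit 333, nat_lit 1369, nat_lit 4107, nat_lit 12321]),(nat_lit 6,nat_lit 8214,[nat_lit 2, nat_lit 3, nat_lit 6, nat_lit 37, nat_lit 74, nat_lit 111, nat_lit 222, nat_lit 1369, nat_lit 2738, nat_lit 4107, nat_lit 8214],mk [nat_lit 2, nat_lit 3, nat_lit 6, nat_lit 37, nat_lit 74, nat_lit 111, nat_lit 222, nat_lit 1369, nat_lit 2738, nat_lit 4107, nat_lit 8214]),(nat_lit 9,nat_lit 5476,[nat_lit 2, nat_lit 4, nat_lit 37, nat_lit 74, nat_lit 148, nat_lit 1369, nat_lit 2738, nat_lit 5476],mk [nat_lit 2, nat_lit 4, nat_lit 37, nat_lit 74, nat_lit 148, nat_lit 1369,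 nat_lit 2738, nat_lit 5476])]⟩
def t63001 : TE := ⟨nat_lit 63001,nat_lit 251,nat_lit 251,[],[nat_lit 251],mk [nat_lit 251],mk [],[(nat_lit 1,nat_lit 62750,[nat_lit 2, nat_lit 5, nat_lit 10, nat_lit 25, nat_lit 50, nat_lit 125, nat_lit 250, nat_lit 251, nat_lit 502, nat_lit 1255, nat_lit 2510],mk [nat_lit 2, nat_lit 5, nat_lit 10, nat_lit 25, nat_lit 50, nat_lit 125, nat_lit 250, nat_lit 251, nat_lit 502, nat_lit 1255, nat_lit 2510]),(nat_lit 2,nat_lit 31375,[nat_lit 5, nat_lit 25, nat_lit 125, nat_lit 251, nat_lit 1255, nat_lit 6275, nat_lit 31375],mk [nat_lit 5, nat_lit 25, nat_lit 125, nat_lit 251, nat_lit 1255, nat_lit 6275, nat_lit 31375]),(nat_lit 5,nat_lit 12550,[nat_lit 2, nat_lit 5, nat_lit 10, nat_lit 25, nat_lit 50, nat_lit 251, nat_lit 502, nat_lit 1255, nat_lit 2510, nat_lit 6275, nat_lit 12550],mk [nat_lit 2, nat_lit 5, nat_lit 10, nat_lit 25, nat_lit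 50, nat_lit 251, nat_lit 502, nat_lit 1255, nat_lit 2510, nat_lit 6275, nat_lit 12550])]⟩
def t68921 : TE := ⟨nat_lit 68921,nat_lit 41,nat_lit 41,[],[nat_lit 41, nat_lit 1681],mk [nat_lit 41, nat_lit 1681],mk [],[(nat_lit 1,nat_lit 67240,[nat_lit 2, nat_lit 4, nat_lit 5, nat_lit 8, nat_lit 10, nat_lit 20, nat_lit 40, nat_lit 41, nat_lit 82, nat_lit 164, nat_lit 205],mk [nat_lit 2, nat_lit 4, nat_lit 5, nat_lit 8, nat_lit 10, nat_lit 20, nat_lit 40, nat_lit 41, nat_lit 82, nat_lit 164, nat_lit 205]),(nat_lit 2,nat_lit 33620,[nat_lit 2, nat_lit 4, nat_lit 5, nat_lit 10, nat_lit 20, nat_lit 41, nat_lit 82, nat_lit 164, nat_lit 205, nat_lit 410, nat_lit 820],mk [nat_lit 2, nat_lit 4, nat_lit 5, nat_lit 10, nat_lit 20, nat_lit 41, nat_lit 82, nat_lit 164, nat_lit 205, nat_lit 410, nat_lit 820]),(nat_lit 4,nat_lit 16810,[nat_lit 2, nat_lit 5, nat_lit 10, nat_lit 41,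 nat_lit 82, nat_lit 205, nat_lit 410, nat_lit 1681, nat_lit 3362, nat_lit 8405, nat_lit 16810],mk [nat_lit 2, nat_lit 5, nat_lit 10, nat_lit 41, nat_lit 82, nat_lit 205, nat_lit 410, nat_lit 1681, nat_lit 3362, nat_lit 8405, nat_lit 16810]),(nat_lit 5,nat_lit 13448,[nat_lit 2, nat_lit 4, nat_lit 8, nat_lit 41, nat_lit 82, nat_lit 164, nat_lit 328, nat_lit 1681, nat_lit 3362, nat_lit 6724, nat_lit 13448],mk [nat_lit 2, nat_lit 4, nat_lit 8, nat_lit 41, nat_lit 82, nat_lit 164, nat_lit 328, nat_lit 1681, nat_lit 3362, nat_lit 6724, nat_lit 13448]),(nat_lit 8,nat_lit 8405,[nat_lit 5, nat_lit 41, nat_lit 205, nat_lit 1681, nat_lit 8405],mk [nat_lit 5, nat_lit 41, nat_lit 205, nat_lit 1681, nat_lit 8405])]⟩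
def t78125 : TE := ⟨nat_lit 78125,nat_lit 5,nat_lit 5,[],[nat_lit 5, nat_lit 25, nat_lit 125, nat_lit 625, nat_lit 3125, nat_lit 15625],mk [nat_lit 5, nat_lit 25, nat_lit 125, nat_lit 625, nat_lit 3125, nat_lit 15625],mk [],[(nat_lit 1,nat_lit 62500,[nat_lit 2, nat_lit 4, nat_lit 5, nat_lit 10, nat_lit 20, nat_lit 25, nat_lit 50, nat_lit 100, nat_lit 125, nat_lit 250, nat_lit 500],mk [nat_lit 2, nat_lit 4, nat_lit 5, nat_lit 10, nat_lit 20, nat_lit 25, nat_lit 50, nat_lit 100, nat_lit 125, nat_lit 250, nat_lit 500]),(nat_lit 2,nat_lit 31250,[nat_lit 2, nat_lit 5, nat_lit 10, nat_lit 25, nat_lit 50, nat_lit 125, nat_lit 250, nat_lit 625, nat_lit 1250, nat_lit 3125, nat_lit 6250],mk [nat_lit 2, nat_lit 5, nat_lit 10, nat_lit 25, nat_lit 50, nat_lit 125, nat_lit 250, nat_lit 625, nat_lit 1250, nat_lit 3125, nat_lit 6250]),(nat_lit 4,nat_lit 15625,[nat_lit 5, nat_lit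 25, nat_lit 125, nat_lit 625, nat_lit 3125, nat_lit 15625],mk [nat_lit 5, nat_lit 25, nat_lit 125, nat_lit 625, nat_lit 3125, nat_lit 15625]),(nat_lit 5,nat_lit 12500,[nat_lit 2, nat_lit 4, nat_lit 5, nat_lit 10, nat_lit 20, nat_lit 25, nat_lit 50, nat_lit 100, nat_lit 125, nat_lit 250, nat_lit 500],mk [nat_lit 2, nat_lit 4, nat_lit 5, nat_lit 10, nat_lit 20, nat_lit 25, nat_lit 50, nat_lit 100, nat_lit 125, nat_lit 250, nat_lit 500])]⟩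
def t79507 : TE := ⟨nat_lit 79507,nat_lit 43,nat_lit 43,[],[nat_lit 43, nat_lit 1849],mk [nat_lit 43, nat_lit 1849],mk [],[(nat_lit 1,nat_lit 77658,[nat_lit 2, nat_lit 3, nat_lit 6, nat_lit 7, nat_lit 14, nat_lit 21, nat_lit 42, nat_lit 43, nat_lit 86, nat_lit 129, nat_lit 258],mk [nat_lit 2, nat_lit 3, nat_lit 6, nat_lit 7, nat_lit 14, nat_lit 21, nat_lit 42, nat_lit 43, nat_lit 86, nat_lit 129, nat_lit 258]),(nat_lit 2,nat_lit 38829,[nat_lit 3, nat_lit 7, nat_lit 21, nat_lit 43, nat_lit 129, nat_lit 301, nat_lit 903, nat_lit 1849, nat_lit 5547, nat_lit 12943, nat_lit 38829],mk [nat_lit 3, nat_lit 7, nat_lit 21, nat_lit 43, nat_lit 129, nat_lit 301, nat_lit 903, nat_lit 1849, nat_lit 5547, nat_lit 12943, nat_lit 38829]),(nat_lit 3,nat_lit 25886,[nat_lit 2, nat_lit 7, nat_lit 14, nat_lit 43, nat_lit 86, nat_lit 301, nat_lit 602, nat_lit 1849, nat_lit 3698, nat_lit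 12943, nat_lit 25886],mk [nat_lit 2, nat_lit 7, nat_lit 14, nat_lit 43, nat_lit 86, nat_lit 301, nat_lit 602, nat_lit 1849, nat_lit 3698, nat_lit 12943, nat_lit 25886]),(nat_lit 6,nat_lit 12943,[nat_lit 7, nat_lit 43, nat_lit 301, nat_lit 1849, nat_lit 12943],mk [nat_lit 7, nat_lit 43, nat_lit 301, nat_lit 1849, nat_lit 12943]),(nat_lit 7,nat_lit 11094,[nat_lit 2, nat_lit 3, nat_lit 6, nat_lit 43, nat_lit 86, nat_lit 129, nat_lit 258, nat_lit 1849, nat_lit 3698, nat_lit 5547, nat_lit 11094],mk [nat_lit 2, nat_lit 3, nat_lit 6, nat_lit 43, nat_lit 86, nat_lit 129, nat_lit 258, nat_lit 1849, nat_lit 3698, nat_lit 5547, nat_lit 11094])]⟩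
def t83521 : TE := ⟨nat_lit 83521,nat_lit 17,nat_lit 17,[],[nat_lit 17, nat_lit 289, nat_lit 4913],mk [nat_lit 17, nat_lit 289, nat_lit 4913],mk [],[(nat_lit 1,nat_lit 78608,[nat_lit 2, nat_lit 4, nat_lit 8, nat_lit 16, nat_lit 17, nat_lit 34, nat_lit 68, nat_lit 136, nat_lit 272, nat_lit 289, nat_lit 578],mk [nat_lit 2, nat_lit 4, nat_lit 8, nat_lit 16, nat_lit 17, nat_lit 34, nat_lit 68, nat_lit 136, nat_lit 272, nat_lit 289, nat_lit 578]),(nat_lit 2,nat_lit 39304,[nat_lit 2, nat_lit 4, nat_lit 8, nat_lit 17, nat_lit 34, nat_lit 68, nat_lit 136, nat_lit 289, nat_lit 578, nat_lit 1156, nat_lit 2312],mk [nat_lit 2, nat_lit 4, nat_lit 8, nat_lit 17, nat_lit 34, nat_lit 68, nat_lit 136, nat_lit 289, nat_lit 578, nat_lit 1156, nat_lit 2312]),(nat_lit 4,nat_lit 19652,[nat_lit 2, nat_lit 4, nat_lit 17, nat_lit 34, nat_lit 68, nat_lit 289, nat_lit 578, nat_lit 1156,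 nat_lit 4913, nat_lit 9826, nat_lit 19652],mk [nat_lit 2, nat_lit 4, nat_lit 17, nat_lit 34, nat_lit 68, nat_lit 289, nat_lit 578, nat_lit 1156, nat_lit 4913, nat_lit 9826, nat_lit 19652]),(nat_lit 8,nat_lit 9826,[nat_lit 2, nat_lit 17, nat_lit 34, nat_lit 289, nat_lit 578, nat_lit 4913, nat_lit 9826],mk [nat_lit 2, nat_lit 17, nat_lit 34, nat_lit 289, nat_lit 578, nat_lit 4913, nat_lit 9826])]⟩
def t117649 : TE := ⟨nat_lit 117649,nat_lit 7,nat_lit 7,[],[nat_lit 7, nat_lit 49, nat_lit 343, nat_lit 2401, nat_lit 16807],mk [nat_lit 7, nat_lit 49, nat_lit 343, nat_lit 2401, nat_lit 16807],mk [],[(nat_lit 1,nat_lit 100842,[nat_lit 2, nat_lit 3, nat_lit 6, nat_lit 7, nat_lit 14, nat_lit 21, nat_lit 42, nat_lit 49, nat_lit 98, nat_lit 147, nat_lit 294],mk [nat_lit 2, nat_lit 3, nat_lit 6, nat_lit 7, nat_lit 14, nat_lit 21, nat_lit 42, nat_lit 49, nat_lit 98, nat_lit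 147, nat_lit 294]),(nat_lit 2,nat_lit 50421,[nat_lit 3, nat_lit 7, nat_lit 21, nat_lit 49, nat_lit 147, nat_lit 343, nat_lit 1029, nat_lit 2401, nat_lit 7203, nat_lit 16807, nat_lit 50421],mk [nat_lit 3, nat_lit 7, nat_lit 21, nat_lit 49, nat_lit 147, nat_lit 343, nat_lit 1029, nat_lit 2401, nat_lit 7203, nat_lit 16807, nat_lit 50421]),(nat_lit 3,nat_lit 33614,[nat_lit 2, nat_lit 7, nat_lit 14, nat_lit 49, nat_lit 98, nat_lit 343, nat_lit 686, nat_lit 2401, nat_lit 4802, nat_lit 16807, nat_lit 33614],mk [nat_lit 2, nat_lit 7, nat_lit 14, nat_lit 49, nat_lit 98, nat_lit 343, nat_lit 686, nat_lit 2401, nat_lit 4802, nat_lit 16807, nat_lit 33614]),(nat_lit 6,nat_lit 16807,[nat_lit 7, nat_lit 49, nat_lit 343, nat_lit 2401, nat_lit 16807],mk [nat_lit 7, nat_lit 49, nat_lit 343, nat_lit 2401, nat_lit 16807]),(nat_lit 7,nat_lit 14406,[nat_lit 2, nat_lit 3, nat_lit 6,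 nat_lit 7, nat_lit 14, nat_lit 21, nat_lit 42, nat_lit 49, nat_lit 98, nat_lit 147, nat_lit 294],mk [nat_lit 2, nat_lit 3, nat_lit 6, nat_lit 7, nat_lit 14, nat_lit 21, nat_lit 42, nat_lit 49, nat_lit 98, nat_lit 147, nat_lit 294])]⟩
def t130321 : TE := ⟨nat_lit 130321,nat_lit 19,nat_lit 19,[],[nat_lit 19, nat_lit 361, nat_lit 6859],mk [nat_lit 19, nat_lit 361, nat_lit 6859],mk [],[(nat_lit 1,nat_lit 123462,[nat_lit 2, nat_lit 3, nat_lit 6, nat_lit 9, nat_lit 18, nat_lit 19, nat_lit 38, nat_lit 57, nat_lit 114, nat_lit 171, nat_lit 342],mk [nat_lit 2, nat_lit 3, nat_lit 6, nat_lit 9, nat_lit 18, nat_lit 19, nat_lit 38, nat_lit 57, nat_lit 114, nat_lit 171, nat_lit 342]),(nat_lit 2,nat_lit 61731,[nat_lit 3, nat_lit 9, nat_lit 19, nat_lit 57, nat_lit 171, nat_lit 361, nat_lit 1083, nat_lit 3249, nat_lit 6859, nat_lit 20577, nat_lit 61731],mk [nat_lit 3, nat_lit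 9, nat_lit 19, nat_lit 57, nat_lit 171, nat_lit 361, nat_lit 1083, nat_lit 3249, nat_lit 6859, nat_lit 20577, nat_lit 61731]),(nat_lit 3,nat_lit 41154,[nat_lit 2, nat_lit 3, nat_lit 6, nat_lit 19, nat_lit 38, nat_lit 57, nat_lit 114, nat_lit 361, nat_lit 722, nat_lit 1083, nat_lit 2166],mk [nat_lit 2, nat_lit 3, nat_lit 6, nat_lit 19, nat_lit 38, nat_lit 57, nat_lit 114, nat_lit 361, nat_lit 722, nat_lit 1083, nat_lit 2166]),(nat_lit 6,nat_lit 20577,[nat_lit 3, nat_lit 19, nat_lit 57, nat_lit 361, nat_lit 1083, nat_lit 6859, nat_lit 20577],mk [nat_lit 3, nat_lit 19, nat_lit 57, nat_lit 361, nat_lit 1083, nat_lit 6859, nat_lit 20577]),(nat_lit 9,nat_lit 13718,[nat_lit 2, nat_lit 19, nat_lit 38, nat_lit 361, nat_lit 722, nat_lit 6859, nat_lit 13718],mk [nat_lit 2, nat_lit 19, nat_lit 38, nat_lit 361, nat_lit 722, nat_lit 6859, nat_lit 13718])]⟩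
def t161051 : TE := ⟨nat_lit 161051,nat_lit 11,nat_lit 11,[],[nat_lit 11, nat_lit 121, nat_lit 1331, nat_lit 14641],mk [nat_lit 11, nat_lit 121, nat_lit 1331, nat_lit 14641],mk [],[(nat_lit 1,nat_lit 146410,[nat_lit 2, nat_lit 5, nat_lit 10, nat_lit 11, nat_lit 22, nat_lit 55, nat_lit 110, nat_lit 121, nat_lit 242, nat_lit 605, nat_lit 1210],mk [nat_lit 2, nat_lit 5, nat_lit 10, nat_lit 11, nat_lit 22, nat_lit 55, nat_lit 110, nat_lit 121, nat_lit 242, nat_lit 605, nat_lit 1210]),(nat_lit 2,nat_lit 73205,[nat_lit 5, nat_lit 11, nat_lit 55, nat_lit 121, nat_lit 605, nat_lit 1331, nat_lit 6655, nat_lit 14641, nat_lit 73205],mk [nat_lit 5, nat_lit 11, nat_lit 55, nat_lit 121, nat_lit 605, nat_lit 1331, nat_lit 6655, nat_lit 14641, nat_lit 73205]),(nat_lit 5,nat_lit 29282,[nat_lit 2, nat_lit 11, nat_lit 22, nat_lit 121, nat_lit 242, nat_lit 1331, nat_lit 2662, nat_lit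 14641, nat_lit 29282],mk [nat_lit 2, nat_lit 11, nat_lit 22, nat_lit 121, nat_lit 242, nat_lit 1331, nat_lit 2662, nat_lit 14641, nat_lit 29282])]⟩
def t237169 : TE := ⟨nat_lit 237169,nat_lit 487,nat_lit 487,[],[nat_lit 487],mk [nat_lit 487],mk [],[(nat_lit 1,nat_lit 236682,[nat_lit 2, nat_lit 3, nat_lit 6, nat_lit 9, nat_lit 18, nat_lit 27, nat_lit 54, nat_lit 81, nat_lit 162, nat_lit 243, nat_lit 486],mk [nat_lit 2, nat_lit 3, nat_lit 6, nat_lit 9, nat_lit 18, nat_lit 27, nat_lit 54, nat_lit 81, nat_lit 162, nat_lit 243, nat_lit 486]),(nat_lit 2,nat_lit 118341,[nat_lit 3, nat_lit 9, nat_lit 27, nat_lit 81, nat_lit 243, nat_lit 487, nat_lit 1461, nat_lit 4383, nat_lit 13149, nat_lit 39447, nat_lit 118341],mk [nat_lit 3, nat_lit 9, nat_lit 27, nat_lit 81, nat_lit 243, nat_lit 487, nat_lit 1461, nat_lit 4383, nat_lit 13149, nat_lit 39447, nat_lit 118341]),(nat_lit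 3,nat_lit 78894,[nat_lit 2, nat_lit 3, nat_lit 6, nat_lit 9, nat_lit 18, nat_lit 27, nat_lit 54, nat_lit 81, nat_lit 162, nat_lit 487, nat_lit 974],mk [nat_lit 2, nat_lit 3, nat_lit 6, nat_lit 9, nat_lit 18, nat_lit 27, nat_lit 54, nat_lit 81, nat_lit 162, nat_lit 487, nat_lit 974]),(nat_lit 6,nat_lit 39447,[nat_lit 3, nat_lit 9, nat_lit 27, nat_lit 81, nat_lit 487, nat_lit 1461, nat_lit 4383, nat_lit 13149, nat_lit 39447],mk [nat_lit 3, nat_lit 9, nat_lit 27, nat_lit 81, nat_lit 487, nat_lit 1461, nat_lit 4383, nat_lit 13149, nat_lit 39447]),(nat_lit 9,nat_lit 26298,[nat_lit 2, nat_lit 3, nat_lit 6, nat_lit 9, nat_lit 18, nat_lit 27, nat_lit 54, nat_lit 487, nat_lit 974, nat_lit 1461, nat_lit 2922],mk [nat_lit 2, nat_lit 3, nat_lit 6, nat_lit 9, nat_lit 18, nat_lit 27, nat_lit 54, nat_lit 487, nat_lit 974, nat_lit 1461, nat_lit 2922])]⟩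
def t371293 : TE := ⟨nat_lit 371293,nat_lit 13,nat_lit 13,[],[nat_lit 13, nat_lit 169, nat_lit 2197, nat_lit 28561],mk [nat_lit 13, nat_lit 169, nat_lit 2197, nat_lit 28561],mk [],[(nat_lit 1,nat_lit 342732,[nat_lit 2, nat_lit 3, nat_lit 4, nat_lit 6, nat_lit 12, nat_lit 13, nat_lit 26, nat_lit 39, nat_lit 52, nat_lit 78, nat_lit 156],mk [nat_lit 2, nat_lit 3, nat_lit 4, nat_lit 6, nat_lit 12, nat_lit 13, nat_lit 26, nat_lit 39, nat_lit 52, nat_lit 78, nat_lit 156]),(nat_lit 2,nat_lit 171366,[nat_lit 2, nat_lit 3, nat_lit 6, nat_lit 13, nat_lit 26, nat_lit 39, nat_lit 78, nat_lit 169, nat_lit 338, nat_lit 507, nat_lit 1014],mk [nat_lit 2, nat_lit 3, nat_lit 6, nat_lit 13, nat_lit 26, nat_lit 39, nat_lit 78, nat_lit 169, nat_lit 338, nat_lit 507, nat_lit 1014]),(nat_lit 3,nat_lit 114244,[nat_lit 2, nat_lit 4, nat_lit 13, nat_lit 26, nat_lit 52, nat_lit 169, nat_lit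 338, nat_lit 676, nat_lit 2197, nat_lit 4394, nat_lit 8788],mk [nat_lit 2, nat_lit 4, nat_lit 13, nat_lit 26, nat_lit 52, nat_lit 169, nat_lit 338, nat_lit 676, nat_lit 2197, nat_lit 4394, nat_lit 8788]),(nat_lit 4,nat_lit 85683,[nat_lit 3, nat_lit 13, nat_lit 39, nat_lit 169, nat_lit 507, nat_lit 2197, nat_lit 6591, nat_lit 28561, nat_lit 85683],mk [nat_lit 3, nat_lit 13, nat_lit 39, nat_lit 169, nat_lit 507, nat_lit 2197, nat_lit 6591, nat_lit 28561, nat_lit 85683]),(nat_lit 6,nat_lit 57122,[nat_lit 2, nat_lit 13, nat_lit 26, nat_lit 169, nat_lit 338, nat_lit 2197, nat_lit 4394, nat_lit 28561, nat_lit 57122],mk [nat_lit 2, nat_lit 13, nat_lit 26, nat_lit 169, nat_lit 338, nat_lit 2197, nat_lit 4394, nat_lit 28561, nat_lit 57122])]⟩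
def t1419857 : TE := ⟨nat_lit 1419857,nat_lit 17,nat_lit 17,[],[nat_lit 17, nat_lit 289, nat_lit 4913, nat_lit 83521],mk [nat_lit 17, nat_lit 289, nat_lit 4913, nat_lit 83521],mk [],[(nat_lit 1,nat_lit 1336336,[nat_lit 2, nat_lit 4, nat_lit 8, nat_lit 16, nat_lit 17, nat_lit 34, nat_lit 68, nat_lit 136, nat_lit 272, nat_lit 289, nat_lit 578],mk [nat_lit 2, nat_lit 4, nat_lit 8, nat_lit 16, nat_lit 17, nat_lit 34, nat_lit 68, nat_lit 136, nat_lit 272, nat_lit 289, nat_lit 578]),(nat_lit 2,nat_lit 668168,[nat_lit 2, nat_lit 4, nat_lit 8, nat_lit 17, nat_lit 34, nat_lit 68, nat_lit 136, nat_lit 289, nat_lit 578, nat_lit 1156, nat_lit 2312],mk [nat_lit 2, nat_lit 4, nat_lit 8, nat_lit 17, nat_lit 34, nat_lit 68, nat_lit 136, nat_lit 289, nat_lit 578, nat_lit 1156, nat_lit 2312]),(nat_lit 4,nat_lit 334084,[nat_lit 2, nat_lit 4, nat_lit 17, nat_lit 34, nat_lit 68,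 nat_lit 289, nat_lit 578, nat_lit 1156, nat_lit 4913, nat_lit 9826, nat_lit 19652],mk [nat_lit 2, nat_lit 4, nat_lit 17, nat_lit 34, nat_lit 68, nat_lit 289, nat_lit 578, nat_lit 1156, nat_lit 4913, nat_lit 9826, nat_lit 19652]),(nat_lit 8,nat_lit 167042,[nat_lit 2, nat_lit 17, nat_lit 34, nat_lit 289, nat_lit 578, nat_lit 4913, nat_lit 9826, nat_lit 83521, nat_lit 167042],mk [nat_lit 2, nat_lit 17, nat_lit 34, nat_lit 289, nat_lit 578, nat_lit 4913, nat_lit 9826, nat_lit 83521, nat_lit 167042])]⟩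
def t2476099 : TE := ⟨nat_lit 2476099,nat_lit 19,nat_lit 19,[],[nat_lit 19, nat_lit 361, nat_lit 6859, nat_lit 130321],mk [nat_lit 19, nat_lit 361, nat_lit 6859, nat_lit 130321],mk [],[(nat_lit 1,nat_lit 2345778,[nat_lit 2, nat_lit 3, nat_lit 6, nat_lit 9, nat_lit 18, nat_lit 19, nat_lit 38, nat_lit 57, nat_lit 114, nat_lit 171, nat_lit 342],mk [nat_lit 2, nat_lit 3, nat_lit 6, nat_lit 9, nat_lit 18, nat_lit 19, nat_lit 38, nat_lit 57, nat_lit 114, nat_lit 171, nat_lit 342]),(nat_lit 2,nat_lit 1172889,[nat_lit 3, nat_lit 9, nat_lit 19, nat_lit 57, nat_lit 171, nat_lit 361, nat_lit 1083, nat_lit 3249, nat_lit 6859, nat_lit 20577, nat_lit 61731],mk [nat_lit 3, nat_lit 9, nat_lit 19, nat_lit 57, nat_lit 171, nat_lit 361, nat_lit 1083, nat_lit 3249, nat_lit 6859, nat_lit 20577, nat_lit 61731]),(nat_lit 3,nat_lit 781926,[nat_lit 2, nat_lit 3, nat_lit 6, nat_lit 19,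 nat_lit 38, nat_lit 57, nat_lit 114, nat_lit 361, nat_lit 722, nat_lit 1083, nat_lit 2166],mk [nat_lit 2, nat_lit 3, nat_lit 6, nat_lit 19, nat_lit 38, nat_lit 57, nat_lit 114, nat_lit 361, nat_lit 722, nat_lit 1083, nat_lit 2166]),(nat_lit 6,nat_lit 390963,[nat_lit 3, nat_lit 19, nat_lit 57, nat_lit 361, nat_lit 1083, nat_lit 6859, nat_lit 20577, nat_lit 130321, nat_lit 390963],mk [nat_lit 3, nat_lit 19, nat_lit 57, nat_lit 361, nat_lit 1083, nat_lit 6859, nat_lit 20577, nat_lit 130321, nat_lit 390963]),(nat_lit 9,nat_lit 260642,[nat_lit 2, nat_lit 19, nat_lit 38, nat_lit 361, nat_lit 722, nat_lit 6859, nat_lit 13718, nat_lit 130321, nat_lit 260642],mk [nat_lit 2, nat_lit 19, nat_lit 38, nat_lit 361, nat_lit 722, nat_lit 6859, nat_lit 13718, nat_lit 130321, nat_lit 260642])]⟩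
def t4330747 : TE := ⟨nat_lit 4330747,nat_lit 163,nat_lit 163,[],[nat_lit 163, nat_lit 26569],mk [nat_lit 163, nat_lit 26569],mk [],[(nat_lit 1,nat_lit 4304178,[nat_lit 2, nat_lit 3, nat_lit 6, nat_lit 9, nat_lit 18, nat_lit 27, nat_lit 54, nat_lit 81, nat_lit 162, nat_lit 163, nat_lit 326],mk [nat_lit 2, nat_lit 3, nat_lit 6, nat_lit 9, nat_lit 18, nat_lit 27, nat_lit 54, nat_lit 81, nat_lit 162, nat_lit 163, nat_lit 326]),(nat_lit 2,nat_lit 2152089,[nat_lit 3, nat_lit 9, nat_lit 27, nat_lit 81, nat_lit 163, nat_lit 489, nat_lit 1467, nat_lit 4401, nat_lit 13203, nat_lit 26569, nat_lit 79707],mk [nat_lit 3, nat_lit 9, nat_lit 27, nat_lit 81, nat_lit 163, nat_lit 489, nat_lit 1467, nat_lit 4401, nat_lit 13203, nat_lit 26569, nat_lit 79707]),(nat_lit 3,nat_lit 1434726,[nat_lit 2, nat_lit 3, nat_lit 6, nat_lit 9, nat_lit 18, nat_lit 27, nat_lit 54, nat_lit 163,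 nat_lit 326, nat_lit 489, nat_lit 978],mk [nat_lit 2, nat_lit 3, nat_lit 6, nat_lit 9, nat_lit 18, nat_lit 27, nat_lit 54, nat_lit 163, nat_lit 326, nat_lit 489, nat_lit 978]),(nat_lit 6,nat_lit 717363,[nat_lit 3, nat_lit 9, nat_lit 27, nat_lit 163, nat_lit 489, nat_lit 1467, nat_lit 4401, nat_lit 26569, nat_lit 79707, nat_lit 239121, nat_lit 717363],mk [nat_lit 3, nat_lit 9, nat_lit 27, nat_lit 163, nat_lit 489, nat_lit 1467, nat_lit 4401, nat_lit 26569, nat_lit 79707, nat_lit 239121, nat_lit 717363]),(nat_lit 9,nat_lit 478242,[nat_lit 2, nat_lit 3, nat_lit 6, nat_lit 9, nat_lit 18, nat_lit 163, nat_lit 326, nat_lit 489, nat_lit 978, nat_lit 1467, nat_lit 2934],mk [nat_lit 2, nat_lit 3, nat_lit 6, nat_lit 9, nat_lit 18, nat_lit 163, nat_lit 326, nat_lit 489, nat_lit 978, nat_lit 1467, nat_lit 2934])]⟩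
def t15813251 : TE := ⟨nat_lit 15813251,nat_lit 251,nat_lit 251,[],[nat_lit 251, nat_lit 63001],mk [nat_lit 251, nat_lit 63001],mk [],[(nat_lit 1,nat_lit 15750250,[nat_lit 2, nat_lit 5, nat_lit 10, nat_lit 25, nat_lit 50, nat_lit 125, nat_lit 250, nat_lit 251, nat_lit 502, nat_lit 1255, nat_lit 2510],mk [nat_lit 2, nat_lit 5, nat_lit 10, nat_lit 25, nat_lit 50, nat_lit 125, nat_lit 250, nat_lit 251, nat_lit 502, nat_lit 1255, nat_lit 2510]),(nat_lit 2,nat_lit 7875125,[nat_lit 5, nat_lit 25, nat_lit 125, nat_lit 251, nat_lit 1255, nat_lit 6275, nat_lit 31375, nat_lit 63001, nat_lit 315005, nat_lit 1575025, nat_lit 7875125],mk [nat_lit 5, nat_lit 25, nat_lit 125, nat_lit 251, nat_lit 1255, nat_lit 6275, nat_lit 31375, nat_lit 63001, nat_lit 315005, nat_lit 1575025, nat_lit 7875125]),(nat_lit 5,nat_lit 3150050,[nat_lit 2, nat_lit 5, nat_lit 10, nat_lit 25, nat_lit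 50, nat_lit 251, nat_lit 502, nat_lit 1255, nat_lit 2510, nat_lit 6275, nat_lit 12550],mk [nat_lit 2, nat_lit 5, nat_lit 10, nat_lit 25, nat_lit 50, nat_lit 251, nat_lit 502, nat_lit 1255, nat_lit 2510, nat_lit 6275, nat_lit 12550])]⟩
def OL : List ℕ := [nat_lit 2, nat_lit 3, nat_lit 4, nat_lit 5, nat_lit 6, nat_lit 7, nat_lit 8, nat_lit 9, nat_lit 10, nat_lit 11, nat_lit 12, nat_lit 13, nat_lit 14, nat_lit 15, nat_lit 16, nat_lit 17, nat_lit 18, nat_lit 19, nat_lit 20, nat_lit 21, nat_lit 22, nat_lit 23, nat_lit 24, nat_lit 25, nat_lit 26, nat_lit 27, nat_lit 28, nat_lit 29, nat_lit 30, nat_lit 31, nat_lit 32, nat_lit 33, nat_lit 34, nat_lit 35, nat_lit 36, nat_lit 37, nat_lit 38, nat_lit 39, nat_lit 40, nat_lit 41, nat_lit 42, nat_lit 43, nat_lit 44, nat_lit 45, nat_lit 46, nat_lit 47, nat_lit 48, nat_lit 49, nat_lit 50, nat_lit 51, nat_lit 52, nat_lit 53,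 nat_lit 54, nat_lit 55, nat_lit 56, nat_lit 57, nat_lit 58, nat_lit 59, nat_lit 61, nat_lit 62, nat_lit 63, nat_lit 64, nat_lit 65, nat_lit 67, nat_lit 68, nat_lit 69, nat_lit 71, nat_lit 73, nat_lit 74, nat_lit 75, nat_lit 76, nat_lit 77, nat_lit 78, nat_lit 79, nat_lit 80, nat_lit 81, nat_lit 82, nat_lit 83, nat_lit 85, nat_lit 86, nat_lit 87, nat_lit 88, nat_lit 89, nat_lit 91, nat_lit 92, nat_lit 93, nat_lit 95, nat_lit 97, nat_lit 98, nat_lit 99, nat_lit 100, nat_lit 101, nat_lit 103, nat_lit 104, nat_lit 106, nat_lit 109, nat_lit 110, nat_lit 111, nat_lit 114, nat_lit 115, nat_lit 117, nat_lit 119, nat_lit 121, nat_lit 122, nat_lit 123, nat_lit 124, nat_lit 125, nat_lit 127, nat_lit 128, nat_lit 129, nat_lit 131, nat_lit 133, nat_lit 135, nat_lit 136, nat_lit 137, nat_lit 143, nat_lit 147, nat_lit 151, nat_lit 153, nat_lit 155, nat_lit 158, nat_lit 159,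 nat_lit 162, nat_lit 163, nat_lit 164, nat_lit 169, nat_lit 171, nat_lit 175, nat_lit 187, nat_lit 189, nat_lit 193, nat_lit 194, nat_lit 197, nat_lit 202, nat_lit 203, nat_lit 205, nat_lit 218, nat_lit 221, nat_lit 237, nat_lit 242, nat_lit 243, nat_lit 245, nat_lit 247, nat_lit 250, nat_lit 251, nat_lit 253, nat_lit 256, nat_lit 257, nat_lit 259, nat_lit 272, nat_lit 275, nat_lit 289, nat_lit 301, nat_lit 305, nat_lit 325, nat_lit 326, nat_lit 327, nat_lit 333, nat_lit 338, nat_lit 341, nat_lit 343, nat_lit 361, nat_lit 363, nat_lit 375, nat_lit 425, nat_lit 451, nat_lit 487, nat_lit 489, nat_lit 502, nat_lit 503, nat_lit 505, nat_lit 507, nat_lit 512, nat_lit 513, nat_lit 529, nat_lit 578, nat_lit 605, nat_lit 625, nat_lit 637, nat_lit 686, nat_lit 689, nat_lit 703, nat_lit 722, nat_lit 729, nat_lit 753, nat_lit 841, nat_lit 845, nat_lit 867, nat_lit 961,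 nat_lit 974, nat_lit 1004, nat_lit 1027, nat_lit 1029, nat_lit 1083, nat_lit 1183, nat_lit 1255, nat_lit 1331, nat_lit 1369, nat_lit 1445, nat_lit 1459, nat_lit 1461, nat_lit 1467, nat_lit 1681, nat_lit 1849, nat_lit 2187, nat_lit 2197, nat_lit 2401, nat_lit 2663, nat_lit 2809, nat_lit 3125, nat_lit 3721, nat_lit 4913, nat_lit 6241, nat_lit 6275, nat_lit 6561, nat_lit 6859, nat_lit 9409, nat_lit 10201, nat_lit 11881, nat_lit 12167, nat_lit 14641, nat_lit 15625, nat_lit 16807, nat_lit 24389, nat_lit 26569, nat_lit 28561, nat_lit 29791, nat_lit 50653, nat_lit 63001, nat_lit 68921, nat_lit 78125, nat_lit 79507, nat_lit 83521, nat_lit 117649, nat_lit 130321, nat_lit 161051, nat_lit 237169, nat_lit 371293, nat_lit 1419857, nat_lit 2476099, nat_lit 4330747, nat_lit 15813251]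
def l0 : List TE := []
def l1 : List TE := [t2, t3, t5, t7, t11, t13, t17, t19, t23, t29, t31, t37, t41, t43, t47, t53, t59, t61, t67, t71, t73, t79, t83, t89, t97, t101, t103, t109, t127, t131, t137, t151, t163, t193, t197, t251, t257, t487, t503, t1459, t2663]
def l2 : List TE := [t2, t3, t4, t5, t7, t9, t11, t13, t17, t19, t23, t25, t29, t31, t37, t41, t43, t47, t49, t53, t59, t61, t67, t71, t73, t79, t83, t89, t97, t101, t103, t109, t121, t127, t131, t137, t151, t163, t169, t193, t197, t251, t257, t289, t361, t487, t503, t529, t841, t961, t1369, t1459, t1681, t1849, t2663, t2809, t3721, t6241, t9409, t10201, t11881, t26569, t63001, t237169]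
def l3 : List TE := [t2, t3, t4, t5, t6, t7, t8, t9, t10, t11, t13, t14, t15, t17, t19, t21, t22, t23, t25, t26, t27, t29, t31, t33, t34, t35, t37, t38, t39, t41, t43, t46, t47, t49, t51, t53, t55, t57, t58, t59, t61, t62, t65, t67, t69, t71, t73, t74, t77, t79, t82, t83, t85, t86, t87, t89, t91, t93, t95, t97, t101, t103, t106, t109, t111, t115, t119, t121, t122, t123, t125, t127, t129, t131, t133, t137, t143, t151, t155, t158, t159, t163, t169, t187, t193, t194, t197, t202, t203, t205, t218, t221, t237, t247, t251, t253, t257, t259, t289, t301, t305, t326, t327, t341, t343, t361, t451, t487, t489, t502, t503, t505, t529, t689, t703, t753, t841, t961, t974, t1027, t1255, t1331, t1369, t1459, t1461, t1681, t1849, t2197, t2663, t2809, t3721, t4913, t6241, t6859, t9409, t10201, t11881, t12167, t24389, t26569, t29791, t50653, t63001, t68921, t79507, t237169, t4330747,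 t15813251]
def l4 : List TE := [t2, t3, t4, t5, t6, t7, t8, t9, t10, t11, t13, t14, t15, t16, t17, t19, t21, t22, t23, t25, t26, t27, t29, t31, t33, t34, t35, t37, t38, t39, t41, t43, t46, t47, t49, t51, t53, t55, t57, t58, t59, t61, t62, t65, t67, t69, t71, t73, t74, t77, t79, t81, t82, t83, t85, t86, t87, t89, t91, t93, t95, t97, t101, t103, t106, t109, t111, t115, t119, t121, t122, t123, t125, t127, t129, t131, t133, t137, t143, t151, t155, t158, t159, t163, t169, t187, t193, t194, t197, t202, t203, t205, t218, t221, t237, t247, t251, t253, t257, t259, t289, t301, t305, t326, t327, t341, t343, t361, t451, t487, t489, t502, t503, t505, t529, t625, t689, t703, t753, t841, t961, t974, t1027, t1255, t1331, t1369, t1459, t1461, t1681, t1849, t2197, t2401, t2663, t2809, t3721, t4913, t6241, t6859, t9409, t10201, t11881, t12167, t14641, t24389, t26569, t28561, t29791,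 t50653, t63001, t68921, t79507, t83521, t130321, t237169, t4330747, t15813251]
def l5 : List TE := [t2, t3, t4, t5, t6, t7, t8, t9, t10, t11, t12, t13, t14, t15, t16, t17, t18, t19, t20, t21, t22, t23, t25, t26, t27, t28, t29, t31, t32, t33, t34, t35, t37, t38, t39, t41, t43, t44, t45, t46, t47, t49, t50, t51, t52, t53, t55, t57, t58, t59, t61, t62, t63, t65, t67, t68, t69, t71, t73, t74, t75, t76, t77, t79, t81, t82, t83, t85, t86, t87, t89, t91, t92, t93, t95, t97, t98, t99, t101, t103, t106, t109, t111, t115, t117, t119, t121, t122, t123, t124, t125, t127, t129, t131, t133, t137, t143, t147, t151, t153, t155, t158, t159, t163, t164, t169, t171, t175, t187, t193, t194, t197, t202, t203, t205, t218, t221, t237, t242, t243, t245, t247, t251, t253, t257, t259, t275, t289, t301, t305, t325, t326, t327, t333, t338, t341, t343, t361, t363, t425, t451, t487, t489,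 t502, t503, t505, t507, t529, t578, t605, t625, t637, t689, t703, t722, t753, t841, t845, t867, t961, t974, t1004, t1027, t1083, t1183, t1255, t1331, t1369, t1445, t1459, t1461, t1467, t1681, t1849, t2197, t2401, t2663, t2809, t3125, t3721, t4913, t6241, t6275, t6859, t9409, t10201, t11881, t12167, t14641, t16807, t24389, t26569, t28561, t29791, t50653, t63001, t68921, t79507, t83521, t130321, t161051, t237169, t371293, t1419857, t2476099, t4330747, t15813251]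
def l6 : List TE := [t2, t3, t4, t5, t6, t7, t8, t9, t10, t11, t12, t13, t14, t15, t16, t17, t18, t19, t20, t21, t22, t23, t25, t26, t27, t28, t29, t31, t32, t33, t34, t35, t37, t38, t39, t41, t43, t44, t45, t46, t47, t49, t50, t51, t52, t53, t55, t57, t58, t59, t61, t62, t63, t64, t65, t67, t68, t69, t71, t73, t74, t75, t76, t77, t79, t81, t82, t83, t85, t86, t87, t89, t91, t92, t93, t95, t97, t98, t99, t101, t103, t106, t109, t111, t115, t117, t119, t121, t122, t123, t124, t125, t127, t129, t131, t133, t137, t143, t147, t151, t153, t155, t158, t159, t163, t164, t169, t171, t175, t187, t193, t194, t197, t202, t203, t205, t218, t221, t237, t242, t243, t245, t247, t251, t253, t257, t259, t275, t289, t301, t305, t325, t326, t327, t333, t338, t341, t343, t361, t363, t425, t451, t487, t489, t502, t503, t505, t507, t529, t578, t605, t625, t637, t689, t703, t722, t729,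 t753, t841, t845, t867, t961, t974, t1004, t1027, t1083, t1183, t1255, t1331, t1369, t1445, t1459, t1461, t1467, t1681, t1849, t2197, t2401, t2663, t2809, t3125, t3721, t4913, t6241, t6275, t6859, t9409, t10201, t11881, t12167, t14641, t15625, t16807, t24389, t26569, t28561, t29791, t50653, t63001, t68921, t79507, t83521, t117649, t130321, t161051, t237169, t371293, t1419857, t2476099, t4330747, t15813251]
def l7 : List TE := [t2, t3, t4, t5, t6, t7, t8, t9, t10, t11, t12, t13, t14, t15, t16, t17, t18, t19, t20, t21, t22, t23, t24, t25, t26, t27, t28, t29, t30, t31, t32, t33, t34, t35, t37, t38, t39, t40, t41, t42, t43, t44, t45, t46, t47, t49, t50, t51, t52, t53, t54, t55, t56, t57, t58, t59, t61, t62, t63, t64, t65, t67, t68, t69, t71, t73, t74, t75, t76, t77, t78, t79, t81, t82, t83, t85, t86, t87, t88, t89, t91, t92, t93, t95, t97, t98, t99, t101, t103, t104,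 t106, t109, t110, t111, t114, t115, t117, t119, t121, t122, t123, t124, t125, t127, t128, t129, t131, t133, t135, t136, t137, t143, t147, t151, t153, t155, t158, t159, t163, t164, t169, t171, t175, t187, t189, t193, t194, t197, t202, t203, t205, t218, t221, t237, t242, t243, t245, t247, t250, t251, t253, t257, t259, t275, t289, t301, t305, t325, t326, t327, t333, t338, t341, t343, t361, t363, t375, t425, t451, t487, t489, t502, t503, t505, t507, t513, t529, t578, t605, t625, t637, t686, t689, t703, t722, t729, t753, t841, t845, t867, t961, t974, t1004, t1027, t1029, t1083, t1183, t1255, t1331, t1369, t1445, t1459, t1461, t1467, t1681, t1849, t2187, t2197, t2401, t2663, t2809, t3125, t3721, t4913, t6241, t6275, t6859, t9409, t10201, t11881, t12167, t14641, t15625, t16807, t24389, t26569, t28561, t29791, t50653, t63001, t68921, t78125, t79507, t83521, t117649,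 t130321, t161051, t237169, t371293, t1419857, t2476099, t4330747, t15813251]
def l8 : List TE := [t2, t3, t4, t5, t6, t7, t8, t9, t10, t11, t12, t13, t14, t15, t16, t17, t18, t19, t20, t21, t22, t23, t24, t25, t26, t27, t28, t29, t30, t31, t32, t33, t34, t35, t36, t37, t38, t39, t40, t41, t42, t43, t44, t45, t46, t47, t49, t50, t51, t52, t53, t54, t55, t56, t57, t58, t59, t61, t62, t63, t64, t65, t67, t68, t69, t71, t73, t74, t75, t76, t77, t78, t79, t81, t82, t83, t85, t86, t87, t88, t89, t91, t92, t93, t95, t97, t98, t99, t100, t101, t103, t104, t106, t109, t110, t111, t114, t115, t117, t119, t121, t122, t123, t124, t125, t127, t128, t129, t131, t133, t135, t136, t137, t143, t147, t151, t153, t155, t158, t159, t163, t164, t169, t171, t175, t187, t189, t193, t194, t197, t202, t203, t205, t218, t221, t237, t242, t243, t245, t247, t250, t251, t253, t256, t257,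 t259, t275, t289, t301, t305, t325, t326, t327, t333, t338, t341, t343, t361, t363, t375, t425, t451, t487, t489, t502, t503, t505, t507, t513, t529, t578, t605, t625, t637, t686, t689, t703, t722, t729, t753, t841, t845, t867, t961, t974, t1004, t1027, t1029, t1083, t1183, t1255, t1331, t1369, t1445, t1459, t1461, t1467, t1681, t1849, t2187, t2197, t2401, t2663, t2809, t3125, t3721, t4913, t6241, t6275, t6561, t6859, t9409, t10201, t11881, t12167, t14641, t15625, t16807, t24389, t26569, t28561, t29791, t50653, t63001, t68921, t78125, t79507, t83521, t117649, t130321, t161051, t237169, t371293, t1419857, t2476099, t4330747, t15813251]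
def l9 : List TE := [t2, t3, t4, t5, t6, t7, t8, t9, t10, t11, t12, t13, t14, t15, t16, t17, t18, t19, t20, t21, t22, t23, t24, t25, t26, t27, t28, t29, t30, t31, t32, t33, t34, t35, t36, t37, t38, t39, t40, t41, t42, t43, t44, t45, t46, t47, t48, t49, t50, t51, t52, t53, t54, t55, t56, t57, t58, t59, t61, t62, t63, t64, t65, t67, t68, t69, t71, t73, t74, t75, t76, t77, t78, t79, t80, t81, t82, t83, t85, t86, t87, t88, t89, t91, t92, t93, t95, t97, t98, t99, t100, t101, t103, t104, t106, t109, t110, t111, t114, t115, t117, t119, t121, t122, t123, t124, t125, t127, t128, t129, t131, t133, t135, t136, t137, t143, t147, t151, t153, t155, t158, t159, t162, t163, t164, t169, t171, t175, t187, t189, t193, t194, t197, t202, t203, t205, t218, t221, t237, t242, t243, t245, t247, t250, t251, t253, t256, t257, t259, t272, t275, t289, t301, t305, t325, t326, t327, t333,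 t338, t341, t343, t361, t363, t375, t425, t451, t487, t489, t502, t503, t505, t507, t512, t513, t529, t578, t605, t625, t637, t686, t689, t703, t722, t729, t753, t841, t845, t867, t961, t974, t1004, t1027, t1029, t1083, t1183, t1255, t1331, t1369, t1445, t1459, t1461, t1467, t1681, t1849, t2187, t2197, t2401, t2663, t2809, t3125, t3721, t4913, t6241, t6275, t6561, t6859, t9409, t10201, t11881, t12167, t14641, t15625, t16807, t24389, t26569, t28561, t29791, t50653, t63001, t68921, t78125, t79507, t83521, t117649, t130321, t161051, t237169, t371293, t1419857, t2476099, t4330747, t15813251]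
def tabsL : List (List TE) := [l0, l1, l2, l3, l4, l5, l6, l7, l8, l9]
def tabs : ℕ → List TE := nthT tabsL
def full : List TE := [t2, t3, t4, t5, t6, t7, t8, t9, t10, t11, t12, t13, t14, t15, t16, t17, t18, t19, t20, t21, t22, t23, t24, t25, t26, t27, t28, t29, t30, t31, t32, t33, t34, t35, t36, t37, t38, t39, t40, t41, t42, t43, t44, t45, t46, t47, t48, t49, t50, t51, t52, t53, t54, t55, t56, t57, t58, t59, t61, t62, t63, t64, t65, t67, t68, t69, t71, t73, t74, t75, t76, t77, t78, t79, t80, t81, t82, t83, t85, t86, t87, t88, t89, t91, t92, t93, t95, t97, t98, t99, t100, t101, t103, t104, t106, t109, t110, t111, t114, t115, t117, t119, t121, t122, t123, t124, t125, t127, t128, t129, t131, t133, t135, t136, t137, t143, t147, t151, t153, t155, t158, t159, t162, t163, t164, t169, t171, t175, t187, t189, t193, t194, t197, t202, t203, t205, t218, t221, t237, t242,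 t243, t245, t247, t250, t251, t253, t256, t257, t259, t272, t275, t289, t301, t305, t325, t326, t327, t333, t338, t341, t343, t361, t363, t375, t425, t451, t487, t489, t502, t503, t505, t507, t512, t513, t529, t578, t605, t625, t637, t686, t689, t703, t722, t729, t753, t841, t845, t867, t961, t974, t1004, t1027, t1029, t1083, t1183, t1255, t1331, t1369, t1445, t1459, t1461, t1467, t1681, t1849, t2187, t2197, t2401, t2663, t2809, t3125, t3721, t4913, t6241, t6275, t6561, t6859, t9409, t10201, t11881, t12167, t14641, t15625, t16807, t24389, t26569, t28561, t29791, t50653, t63001, t68921, t78125, t79507, t83521, t117649, t130321, t161051, t237169, t371293, t1419857, t2476099, t4330747, t15813251]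

theorem h1 : ∀ t ∈ full, TC 9 t := by decide +kernel
theorem h2 : ∀ j ∈ List.range (9 + 1), tabs j = full.filter fun t => t.dv.length < j := by
  intro j hj
  have : j < 10 := List.mem_range.1 hj
  interval_cases j <;> exact Eq.refl _
theorem h3 : (full.map fun t => t.o) = OL := by decide +kernel
theorem h4 : OL.Pairwise (· ≤ ·) := by decide +kernel
theorem tab : TabOK 9 tabs OL := h3 ▸ tabOK_of h1 h2 (h3 ▸ h4)
theorem ph1 : p1 OL 11 [] 9 1 = true := by decide +kernel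
theorem ord {g : ℕ} {L : List En} (A : Ax 9 g L) : ∀ y ∈ L, y.1 ∈ OL := ord_mem A ph1


end
end Cfsg.Agent.KC.T10
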