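import Cfsg.Agent.Lib.KC.Tab

set_option autoImplicit false
set_option maxRecDepth 100000

namespace Cfsg.Agent.KC.T9
noncomputable section

def t2 : TE := ⟨nat_lit 2,nat_lit 2,nat_lit 2,[],[],mk [],mk [],[(nat_lit 1,nat_lit 1,[],mk [])]⟩
def t3 : TE := ⟨nat_lit 3,nat_lit 3,nat_lit 3,[],[],mk [],mk [],[(nat_lit 1,nat_lit 2,[nat_lit 2],mk [nat_lit 2]),(nat_lit 2,nat_lit 1,[],mk [])]⟩
def t4 : TE := ⟨nat_lit 4,nat_lit 2,nat_lit 2,[],[nat_lit 2],mk [nat_lit 2],mk [],[(nat_lit 1,nat_lit 2,[],mk []),(nat_lit 2,nat_lit 1,[],mk [])]⟩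
def t5 : TE := ⟨nat_lit 5,nat_lit 5,nat_lit 5,[],[],mk [],mk [],[(nat_lit 1,nat_lit 4,[nat_lit 2, nat_lit 4],mk [nat_lit 2, nat_lit 4]),(nat_lit 2,nat_lit 2,[nat_lit 2],mk [nat_lit 2]),(nat_lit 4,nat_lit 1,[],mk [])]⟩
def t6 : TE := ⟨nat_lit 6,nat_lit 0,nat_lit 2,[nat_lit 3],[nat_lit 2, nat_lit 3],mk [nat_lit 2, nat_lit 3],mk [nat_lit 3, nat_lit 2],[(nat_lit 1,nat_lit 2,[],mk []),(nat_lit 2,nat_lit 1,[],mk [])]⟩
def t7 : TE := ⟨nat_lit 7,nat_lit 7,nat_lit 7,[],[],mk [],mk [],[(nat_lit 1,nat_lit 6,[nat_lit 2, nat_lit 3, nat_lit 6],mk [nat_lit 2, nat_lit 3, nat_lit 6]),(nat_lit 2,nat_lit 3,[nat_lit 3],mk [nat_lit 3]),(nat_lit 3,nat_lit 2,[nat_lit 2],mk [nat_lit 2]),(nat_lit 6,nat_lit 1,[],mk [])]⟩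
def t8 : TE := ⟨nat_lit 8,nat_lit 2,nat_lit 2,[],[nat_lit 2, nat_lit 4],mk [nat_lit 2, nat_lit 4],mk [],[(nat_lit 1,nat_lit 4,[],mk []),(nat_lit 2,nat_lit 2,[],mk []),(nat_lit 4,nat_lit 1,[],mk [])]⟩
def t9 : TE := ⟨nat_lit 9,nat_lit 3,nat_lit 3,[],[nat_lit 3],mk [nat_lit 3],mk [],[(nat_lit 1,nat_lit 6,[nat_lit 2, nat_lit 3, nat_lit 6],mk [nat_lit 2, nat_lit 3, nat_lit 6]),(nat_lit 2,nat_lit 3,[nat_lit 3],mk [nat_lit 3]),(nat_lit 3,nat_lit 2,[nat_lit 2],mk [nat_lit 2]),(nat_lit 6,nat_lit 1,[],mk [])]⟩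
def t10 : TE := ⟨nat_lit 10,nat_lit 0,nat_lit 2,[nat_lit 5],[nat_lit 2, nat_lit 5],mk [nat_lit 2, nat_lit 5],mk [nat_lit 5, nat_lit 2],[(nat_lit 1,nat_lit 4,[],mk []),(nat_lit 2,nat_lit 2,[],mk []),(nat_lit 4,nat_lit 1,[],mk [])]⟩
def t11 : TE := ⟨nat_lit 11,nat_lit 11,nat_lit 11,[],[],mk [],mk [],[(nat_lit 1,nat_lit 10,[nat_lit 2, nat_lit 5, nat_lit 10],mk [nat_lit 2, nat_lit 5, nat_lit 10]),(nat_lit 2,nat_lit 5,[nat_lit 5],mk [nat_lit 5]),(nat_lit 5,nat_lit 2,[nat_lit 2],mk [nat_lit 2])]⟩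
def t12 : TE := ⟨nat_lit 12,nat_lit 0,nat_lit 2,[nat_lit 3],[nat_lit 2, nat_lit 3, nat_lit 4, nat_lit 6],mk [nat_lit 2, nat_lit 3, nat_lit 4, nat_lit 6],mk [nat_lit 4],[(nat_lit 1,nat_lit 4,[],mk []),(nat_lit 2,nat_lit 2,[],mk []),(nat_lit 4,nat_lit 1,[],mk [])]⟩
def t13 : TE := ⟨nat_lit 13,nat_lit 13,nat_lit 13,[],[],mk [],mk [],[(nat_lit 1,nat_lit 12,[nat_lit 2, nat_lit 3, nat_lit 4, nat_lit 6, nat_lit 12],mk [nat_lit 2, nat_lit 3, nat_lit 4, nat_lit 6, nat_lit 12]),(nat_lit 2,nat_lit 6,[nat_lit 2, nat_lit 3, nat_lit 6],mk [nat_lit 2, nat_lit 3, nat_lit 6]),(nat_lit 3,nat_lit 4,[nat_lit 2, nat_lit 4],mk [nat_lit 2, nat_lit 4]),(nat_lit 4,nat_lit 3,[nat_lit 3],mk [nat_lit 3]),(nat_lit 6,nat_lit 2,[nat_lit 2],mk [nat_lit 2])]⟩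
def t14 : TE := ⟨nat_lit 14,nat_lit 0,nat_lit 2,[nat_lit 7],[nat_lit 2, nat_lit 7],mk [nat_lit 2, nat_lit 7],mk [nat_lit 7, nat_lit 2],[(nat_lit 1,nat_lit 6,[],mk []),(nat_lit 2,nat_lit 3,[],mk []),(nat_lit 3,nat_lit 2,[],mk []),(nat_lit 6,nat_lit 1,[],mk [])]⟩
def t15 : TE := ⟨nat_lit 15,nat_lit 0,nat_lit 3,[nat_lit 5],[nat_lit 3, nat_lit 5],mk [nat_lit 3, nat_lit 5],mk [nat_lit 5, nat_lit 3],[(nat_lit 1,nat_lit 8,[],mk []),(nat_lit 2,nat_lit 4,[],mk []),(nat_lit 4,nat_lit 2,[],mk []),(nat_lit 8,nat_lit 1,[],mk [])]⟩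
def t16 : TE := ⟨nat_lit 16,nat_lit 2,nat_lit 2,[],[nat_lit 2, nat_lit 4, nat_lit 8],mk [nat_lit 2, nat_lit 4, nat_lit 8],mk [],[(nat_lit 1,nat_lit 8,[],mk []),(nat_lit 2,nat_lit 4,[],mk []),(nat_lit 4,nat_lit 2,[],mk []),(nat_lit 8,nat_lit 1,[],mk [])]⟩
def t17 : TE := ⟨nat_lit 17,nat_lit 17,nat_lit 17,[],[],mk [],mk [],[(nat_lit 1,nat_lit 16,[nat_lit 2, nat_lit 4, nat_lit 8, nat_lit 16],mk [nat_lit 2, nat_lit 4, nat_lit 8, nat_lit 16]),(nat_lit 2,nat_lit 8,[nat_lit 2, nat_lit 4, nat_lit 8],mk [nat_lit 2, nat_lit 4, nat_lit 8]),(nat_lit 4,nat_lit 4,[nat_lit 2, nat_lit 4],mk [nat_lit 2, nat_lit 4]),(nat_lit 8,nat_lit 2,[nat_lit 2],mk [nat_lit 2])]⟩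
def t18 : TE := ⟨nat_lit 18,nat_lit 0,nat_lit 2,[nat_lit 3],[nat_lit 2, nat_lit 3, nat_lit 6, nat_lit 9],mk [nat_lit 2, nat_lit 3, nat_lit 6, nat_lit 9],mk [nat_lit 9],[(nat_lit 1,nat_lit 6,[],mk []),(nat_lit 2,nat_lit 3,[],mk []),(nat_lit 3,nat_lit 2,[],mk []),(nat_lit 6,nat_lit 1,[],mk [])]⟩
def t19 : TE := ⟨nat_lit 19,nat_lit 19,nat_lit 19,[],[],mk [],mk [],[(nat_lit 1,nat_lit 18,[nat_lit 2, nat_lit 3, nat_lit 6, nat_lit 9, nat_lit 18],mk [nat_lit 2, nat_lit 3, nat_lit 6, nat_lit 9, nat_lit 18]),(nat_lit 2,nat_lit 9,[nat_lit 3, nat_lit 9],mk [nat_lit 3, nat_lit 9]),(nat_lit 3,nat_lit 6,[nat_lit 2, nat_lit 3, nat_lit 6],mk [nat_lit 2, nat_lit 3, nat_lit 6]),(nat_lit 6,nat_lit 3,[nat_lit 3],mk [nat_lit 3])]⟩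
def t20 : TE := ⟨nat_lit 20,nat_lit 0,nat_lit 2,[nat_lit 5],[nat_lit 2, nat_lit 4, nat_lit 5, nat_lit 10],mk [nat_lit 2, nat_lit 4, nat_lit 5, nat_lit 10],mk [nat_lit 4],[(nat_lit 1,nat_lit 8,[],mk []),(nat_lit 2,nat_lit 4,[],mk []),(nat_lit 4,nat_lit 2,[],mk []),(nat_lit 8,nat_lit 1,[],mk [])]⟩
def t21 : TE := ⟨nat_lit 21,nat_lit 0,nat_lit 3,[nat_lit 7],[nat_lit 3, nat_lit 7],mk [nat_lit 3, nat_lit 7],mk [nat_lit 7, nat_lit 3],[(nat_lit 1,nat_lit 12,[],mk []),(nat_lit 2,nat_lit 6,[],mk []),(nat_lit 3,nat_lit 4,[],mk []),(nat_lit 4,nat_lit 3,[],mk []),(nat_lit 6,nat_lit 2,[],mk [])]⟩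
def t22 : TE := ⟨nat_lit 22,nat_lit 0,nat_lit 2,[nat_lit 11],[nat_lit 2, nat_lit 11],mk [nat_lit 2, nat_lit 11],mk [nat_lit 11, nat_lit 2],[(nat_lit 1,nat_lit 10,[],mk []),(nat_lit 2,nat_lit 5,[],mk []),(nat_lit 5,nat_lit 2,[],mk [])]⟩
def t23 : TE := ⟨nat_lit 23,nat_lit 23,nat_lit 23,[],[],mk [],mk [],[(nat_lit 1,nat_lit 22,[nat_lit 2, nat_lit 11, nat_lit 22],mk [nat_lit 2, nat_lit 11, nat_lit 22]),(nat_lit 2,nat_lit 11,[nat_lit 11],mk [nat_lit 11])]⟩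
def t24 : TE := ⟨nat_lit 24,nat_lit 0,nat_lit 2,[nat_lit 3],[nat_lit 2, nat_lit 3, nat_lit 4, nat_lit 6, nat_lit 8, nat_lit 12],mk [nat_lit 2, nat_lit 3, nat_lit 4, nat_lit 6, nat_lit 8, nat_lit 12],mk [nat_lit 8],[(nat_lit 1,nat_lit 8,[],mk []),(nat_lit 2,nat_lit 4,[],mk []),(nat_lit 4,nat_lit 2,[],mk []),(nat_lit 8,nat_lit 1,[],mk [])]⟩
def t25 : TE := ⟨nat_lit 25,nat_lit 5,nat_lit 5,[],[nat_lit 5],mk [nat_lit 5],mk [],[(nat_lit 1,nat_lit 20,[nat_lit 2, nat_lit 4, nat_lit 5, nat_lit 10, nat_lit 20],mk [nat_lit 2, nat_lit 4, nat_lit 5, nat_lit 10, nat_lit 20]),(nat_lit 2,nat_lit 10,[nat_lit 2, nat_lit 5, nat_lit 10],mk [nat_lit 2, nat_lit 5, nat_lit 10]),(nat_lit 4,nat_lit 5,[nat_lit 5],mk [nat_lit 5]),(nat_lit 5,nat_lit 4,[nat_lit 2, nat_lit 4],mk [nat_lit 2, nat_lit 4])]⟩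
def t26 : TE := ⟨nat_lit 26,nat_lit 0,nat_lit 2,[nat_lit 13],[nat_lit 2, nat_lit 13],mk [nat_lit 2, nat_lit 13],mk [nat_lit 13, nat_lit 2],[(nat_lit 1,nat_lit 12,[],mk []),(nat_lit 2,nat_lit 6,[],mk []),(nat_lit 3,nat_lit 4,[],mk []),(nat_lit 4,nat_lit 3,[],mk []),(nat_lit 6,nat_lit 2,[],mk [])]⟩
def t27 : TE := ⟨nat_lit 27,nat_lit 3,nat_lit 3,[],[nat_lit 3, nat_lit 9],mk [nat_lit 3, nat_lit 9],mk [],[(nat_lit 1,nat_lit 18,[nat_lit 2, nat_lit 3, nat_lit 6, nat_lit 9, nat_lit 18],mk [nat_lit 2, nat_lit 3, nat_lit 6, nat_lit 9, nat_lit 18]),(nat_lit 2,nat_lit 9,[nat_lit 3, nat_lit 9],mk [nat_lit 3, nat_lit 9]),(nat_lit 3,nat_lit 6,[nat_lit 2, nat_lit 3, nat_lit 6],mk [nat_lit 2, nat_lit 3, nat_lit 6]),(nat_lit 6,nat_lit 3,[nat_lit 3],mk [nat_lit 3])]⟩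
def t28 : TE := ⟨nat_lit 28,nat_lit 0,nat_lit 2,[nat_lit 7],[nat_lit 2, nat_lit 4, nat_lit 7, nat_lit 14],mk [nat_lit 2, nat_lit 4, nat_lit 7, nat_lit 14],mk [nat_lit 4],[(nat_lit 1,nat_lit 12,[],mk []),(nat_lit 2,nat_lit 6,[],mk []),(nat_lit 3,nat_lit 4,[],mk []),(nat_lit 4,nat_lit 3,[],mk []),(nat_lit 6,nat_lit 2,[],mk [])]⟩
def t29 : TE := ⟨nat_lit 29,nat_lit 29,nat_lit 29,[],[],mk [],mk [],[(nat_lit 1,nat_lit 28,[nat_lit 2, nat_lit 4, nat_lit 7, nat_lit 14, nat_lit 28],mk [nat_lit 2, nat_lit 4, nat_lit 7, nat_lit 14, nat_lit 28]),(nat_lit 2,nat_lit 14,[nat_lit 2, nat_lit 7, nat_lit 14],mk [nat_lit 2, nat_lit 7, nat_lit 14]),(nat_lit 4,nat_lit 7,[nat_lit 7],mk [nat_lit 7]),(nat_lit 7,nat_lit 4,[nat_lit 2, nat_lit 4],mk [nat_lit 2, nat_lit 4])]⟩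
def t30 : TE := ⟨nat_lit 30,nat_lit 0,nat_lit 2,[nat_lit 5, nat_lit 3],[nat_lit 2, nat_lit 3, nat_lit 5, nat_lit 6, nat_lit 10, nat_lit 15],mk [nat_lit 2, nat_lit 3, nat_lit 5, nat_lit 6, nat_lit 10, nat_lit 15],mk [nat_lit 15, nat_lit 10, nat_lit 6],[(nat_lit 1,nat_lit 8,[],mk []),(nat_lit 2,nat_lit 4,[],mk []),(nat_lit 4,nat_lit 2,[],mk []),(nat_lit 8,nat_lit 1,[],mk [])]⟩
def t31 : TE := ⟨nat_lit 31,nat_lit 31,nat_lit 31,[],[],mk [],mk [],[(nat_lit 1,nat_lit 30,[nat_lit 2, nat_lit 3, nat_lit 5, nat_lit 6, nat_lit 10, nat_lit 15, nat_lit 30],mk [nat_lit 2, nat_lit 3, nat_lit 5, nat_lit 6, nat_lit 10, nat_lit 15, nat_lit 30]),(nat_lit 2,nat_lit 15,[nat_lit 3, nat_lit 5, nat_lit 15],mk [nat_lit 3, nat_lit 5, nat_lit 15]),(nat_lit 3,nat_lit 10,[nat_lit 2, nat_lit 5, nat_lit 10],mk [nat_lit 2, nat_lit 5, nat_lit 10]),(nat_lit 5,nat_lit 6,[nat_lit 2,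 nat_lit 3, nat_lit 6],mk [nat_lit 2, nat_lit 3, nat_lit 6]),(nat_lit 6,nat_lit 5,[nat_lit 5],mk [nat_lit 5])]⟩
def t32 : TE := ⟨nat_lit 32,nat_lit 2,nat_lit 2,[],[nat_lit 2, nat_lit 4, nat_lit 8, nat_lit 16],mk [nat_lit 2, nat_lit 4, nat_lit 8, nat_lit 16],mk [],[(nat_lit 1,nat_lit 16,[],mk []),(nat_lit 2,nat_lit 8,[],mk []),(nat_lit 4,nat_lit 4,[],mk []),(nat_lit 8,nat_lit 2,[],mk [])]⟩
def t33 : TE := ⟨nat_lit 33,nat_lit 0,nat_lit 3,[nat_lit 11],[nat_lit 3, nat_lit 11],mk [nat_lit 3, nat_lit 11],mk [nat_lit 11, nat_lit 3],[(nat_lit 1,nat_lit 20,[],mk []),(nat_lit 2,nat_lit 10,[],mk []),(nat_lit 4,nat_lit 5,[],mk []),(nat_lit 5,nat_lit 4,[],mk [])]⟩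
def t34 : TE := ⟨nat_lit 34,nat_lit 0,nat_lit 2,[nat_lit 17],[nat_lit 2, nat_lit 17],mk [nat_lit 2, nat_lit 17],mk [nat_lit 17, nat_lit 2],[(nat_lit 1,nat_lit 16,[],mk []),(nat_lit 2,nat_lit 8,[],mk []),(nat_lit 4,nat_lit 4,[],mk []),(nat_lit 8,nat_lit 2,[],mk [])]⟩
def t35 : TE := ⟨nat_lit 35,nat_lit 0,nat_lit 5,[nat_lit 7],[nat_lit 5, nat_lit 7],mk [nat_lit 5, nat_lit 7],mk [nat_lit 7, nat_lit 5],[(nat_lit 1,nat_lit 24,[],mk []),(nat_lit 2,nat_lit 12,[],mk []),(nat_lit 3,nat_lit 8,[],mk []),(nat_lit 4,nat_lit 6,[],mk []),(nat_lit 6,nat_lit 4,[],mk []),(nat_lit 8,nat_lit 3,[],mk [])]⟩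
def t36 : TE := ⟨nat_lit 36,nat_lit 0,nat_lit 2,[nat_lit 3],[nat_lit 2, nat_lit 3, nat_lit 4, nat_lit 6, nat_lit 9, nat_lit 12, nat_lit 18],mk [nat_lit 2, nat_lit 3, nat_lit 4, nat_lit 6, nat_lit 9, nat_lit 12, nat_lit 18],mk [],[(nat_lit 1,nat_lit 12,[],mk []),(nat_lit 2,nat_lit 6,[],mk []),(nat_lit 3,nat_lit 4,[],mk []),(nat_lit 4,nat_lit 3,[],mk []),(nat_lit 6,nat_lit 2,[],mk [])]⟩
def t37 : TE := ⟨nat_lit 37,nat_lit 37,nat_lit 37,[],[],mk [],mk [],[(nat_lit 1,nat_lit 36,[nat_lit 2, nat_lit 3, nat_lit 4, nat_lit 6, nat_lit 9, nat_lit 12, nat_lit 18, nat_lit 36],mk [nat_lit 2, nat_lit 3, nat_lit 4, nat_lit 6, nat_lit 9, nat_lit 12, nat_lit 18, nat_lit 36]),(nat_lit 2,nat_lit 18,[nat_lit 2, nat_lit 3, nat_lit 6, nat_lit 9, nat_lit 18],mk [nat_lit 2, nat_lit 3, nat_lit 6, nat_lit 9, nat_lit 18]),(nat_lit 3,nat_lit 12,[nat_lit 2, nat_lit 3, nat_lit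 4, nat_lit 6, nat_lit 12],mk [nat_lit 2, nat_lit 3, nat_lit 4, nat_lit 6, nat_lit 12]),(nat_lit 4,nat_lit 9,[nat_lit 3, nat_lit 9],mk [nat_lit 3, nat_lit 9]),(nat_lit 6,nat_lit 6,[nat_lit 2, nat_lit 3, nat_lit 6],mk [nat_lit 2, nat_lit 3, nat_lit 6])]⟩
def t38 : TE := ⟨nat_lit 38,nat_lit 0,nat_lit 2,[nat_lit 19],[nat_lit 2, nat_lit 19],mk [nat_lit 2, nat_lit 19],mk [nat_lit 19, nat_lit 2],[(nat_lit 1,nat_lit 18,[],mk []),(nat_lit 2,nat_lit 9,[],mk []),(nat_lit 3,nat_lit 6,[],mk []),(nat_lit 6,nat_lit 3,[],mk [])]⟩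
def t39 : TE := ⟨nat_lit 39,nat_lit 0,nat_lit 3,[nat_lit 13],[nat_lit 3, nat_lit 13],mk [nat_lit 3, nat_lit 13],mk [nat_lit 13, nat_lit 3],[(nat_lit 1,nat_lit 24,[],mk []),(nat_lit 2,nat_lit 12,[],mk []),(nat_lit 3,nat_lit 8,[],mk []),(nat_lit 4,nat_lit 6,[],mk []),(nat_lit 6,nat_lit 4,[],mk []),(nat_lit 8,nat_lit 3,[],mk [])]⟩
def t40 : TE := ⟨nat_lit 40,nat_lit 0,nat_lit 2,[nat_lit 5],[nat_lit 2, nat_lit 4, nat_lit 5, nat_lit 8, nat_lit 10, nat_lit 20],mk [nat_lit 2, nat_lit 4, nat_lit 5, nat_lit 8, nat_lit 10, nat_lit 20],mk [nat_lit 8],[(nat_lit 1,nat_lit 16,[],mk []),(nat_lit 2,nat_lit 8,[],mk []),(nat_lit 4,nat_lit 4,[],mk []),(nat_lit 8,nat_lit 2,[],mk [])]⟩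
def t41 : TE := ⟨nat_lit 41,nat_lit 41,nat_lit 41,[],[],mk [],mk [],[(nat_lit 1,nat_lit 40,[nat_lit 2, nat_lit 4, nat_lit 5, nat_lit 8, nat_lit 10, nat_lit 20, nat_lit 40],mk [nat_lit 2, nat_lit 4, nat_lit 5, nat_lit 8, nat_lit 10, nat_lit 20, nat_lit 40]),(nat_lit 2,nat_lit 20,[nat_lit 2, nat_lit 4, nat_lit 5, nat_lit 10, nat_lit 20],mk [nat_lit 2, nat_lit 4, nat_lit 5, nat_lit 10, nat_lit 20]),(nat_lit 4,nat_lit 10,[nat_lit 2, nat_lit 5, nat_lit 10],mk [nat_lit 2, nat_lit 5, nat_lit 10]),(nat_lit 5,nat_lit 8,[nat_lit 2, nat_lit 4, nat_lit 8],mk [nat_lit 2, nat_lit 4, nat_lit 8]),(nat_lit 8,nat_lit 5,[nat_lit 5],mk [nat_lit 5])]⟩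
def t42 : TE := ⟨nat_lit 42,nat_lit 0,nat_lit 2,[nat_lit 7, nat_lit 3],[nat_lit 2, nat_lit 3, nat_lit 6, nat_lit 7, nat_lit 14, nat_lit 21],mk [nat_lit 2, nat_lit 3, nat_lit 6, nat_lit 7, nat_lit 14, nat_lit 21],mk [nat_lit 21, nat_lit 14, nat_lit 6],[(nat_lit 1,nat_lit 12,[],mk []),(nat_lit 2,nat_lit 6,[],mk []),(nat_lit 3,nat_lit 4,[],mk []),(nat_lit 4,nat_lit 3,[],mk []),(nat_lit 6,nat_lit 2,[],mk [])]⟩
def t43 : TE := ⟨nat_lit 43,nat_lit 43,nat_lit 43,[],[],mk [],mk [],[(nat_lit 1,nat_lit 42,[nat_lit 2, nat_lit 3, nat_lit 6, nat_lit 7, nat_lit 14, nat_lit 21, nat_lit 42],mk [nat_lit 2, nat_lit 3, nat_lit 6, nat_lit 7, nat_lit 14, nat_lit 21, nat_lit 42]),(nat_lit 2,nat_lit 21,[nat_lit 3, nat_lit 7, nat_lit 21],mk [nat_lit 3, nat_lit 7, nat_lit 21]),(nat_lit 3,nat_lit 14,[nat_lit 2, nat_lit 7, nat_lit 14],mk [nat_lit 2, nat_lit 7, nat_lit 14]),(nat_lit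 6,nat_lit 7,[nat_lit 7],mk [nat_lit 7]),(nat_lit 7,nat_lit 6,[nat_lit 2, nat_lit 3, nat_lit 6],mk [nat_lit 2, nat_lit 3, nat_lit 6])]⟩
def t44 : TE := ⟨nat_lit 44,nat_lit 0,nat_lit 2,[nat_lit 11],[nat_lit 2, nat_lit 4, nat_lit 11, nat_lit 22],mk [nat_lit 2, nat_lit 4, nat_lit 11, nat_lit 22],mk [nat_lit 4],[(nat_lit 1,nat_lit 20,[],mk []),(nat_lit 2,nat_lit 10,[],mk []),(nat_lit 4,nat_lit 5,[],mk []),(nat_lit 5,nat_lit 4,[],mk [])]⟩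
def t45 : TE := ⟨nat_lit 45,nat_lit 0,nat_lit 3,[nat_lit 5],[nat_lit 3, nat_lit 5, nat_lit 9, nat_lit 15],mk [nat_lit 3, nat_lit 5, nat_lit 9, nat_lit 15],mk [nat_lit 9],[(nat_lit 1,nat_lit 24,[],mk []),(nat_lit 2,nat_lit 12,[],mk []),(nat_lit 3,nat_lit 8,[],mk []),(nat_lit 4,nat_lit 6,[],mk []),(nat_lit 6,nat_lit 4,[],mk []),(nat_lit 8,nat_lit 3,[],mk [])]⟩
def t46 : TE := ⟨nat_lit 46,nat_lit 0,nat_lit 2,[nat_lit 23],[nat_lit 2, nat_lit 23],mk [nat_lit 2, nat_lit 23],mk [nat_lit 23, nat_lit 2],[(nat_lit 1,nat_lit 22,[],mk []),(nat_lit 2,nat_lit 11,[],mk [])]⟩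
def t49 : TE := ⟨nat_lit 49,nat_lit 7,nat_lit 7,[],[nat_lit 7],mk [nat_lit 7],mk [],[(nat_lit 1,nat_lit 42,[nat_lit 2, nat_lit 3, nat_lit 6, nat_lit 7, nat_lit 14, nat_lit 21, nat_lit 42],mk [nat_lit 2, nat_lit 3, nat_lit 6, nat_lit 7, nat_lit 14, nat_lit 21, nat_lit 42]),(nat_lit 2,nat_lit 21,[nat_lit 3, nat_lit 7, nat_lit 21],mk [nat_lit 3, nat_lit 7, nat_lit 21]),(nat_lit 3,nat_lit 14,[nat_lit 2, nat_lit 7, nat_lit 14],mk [nat_lit 2, nat_lit 7, nat_lit 14]),(nat_lit 6,nat_lit 7,[nat_lit 7],mk [nat_lit 7]),(nat_lit 7,nat_lit 6,[nat_lit 2, nat_lit 3, nat_lit 6],mk [nat_lit 2, nat_lit 3, nat_lit 6])]⟩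
def t50 : TE := ⟨nat_lit 50,nat_lit 0,nat_lit 2,[nat_lit 5],[nat_lit 2, nat_lit 5, nat_lit 10, nat_lit 25],mk [nat_lit 2, nat_lit 5, nat_lit 10, nat_lit 25],mk [nat_lit 25],[(nat_lit 1,nat_lit 20,[],mk []),(nat_lit 2,nat_lit 10,[],mk []),(nat_lit 4,nat_lit 5,[],mk []),(nat_lit 5,nat_lit 4,[],mk [])]⟩
def t51 : TE := ⟨nat_lit 51,nat_lit 0,nat_lit 3,[nat_lit 17],[nat_lit 3, nat_lit 17],mk [nat_lit 3, nat_lit 17],mk [nat_lit 17, nat_lit 3],[(nat_lit 1,nat_lit 32,[],mk []),(nat_lit 2,nat_lit 16,[],mk []),(nat_lit 4,nat_lit 8,[],mk []),(nat_lit 8,nat_lit 4,[],mk [])]⟩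
def t52 : TE := ⟨nat_lit 52,nat_lit 0,nat_lit 2,[nat_lit 13],[nat_lit 2, nat_lit 4, nat_lit 13, nat_lit 26],mk [nat_lit 2, nat_lit 4, nat_lit 13, nat_lit 26],mk [nat_lit 4],[(nat_lit 1,nat_lit 24,[],mk []),(nat_lit 2,nat_lit 12,[],mk []),(nat_lit 3,nat_lit 8,[],mk []),(nat_lit 4,nat_lit 6,[],mk []),(nat_lit 6,nat_lit 4,[],mk []),(nat_lit 8,nat_lit 3,[],mk [])]⟩
def t53 : TE := ⟨nat_lit 53,nat_lit 53,nat_lit 53,[],[],mk [],mk [],[(nat_lit 1,nat_lit 52,[nat_lit 2, nat_lit 4, nat_lit 13, nat_lit 26, nat_lit 52],mk [nat_lit 2, nat_lit 4, nat_lit 13, nat_lit 26, nat_lit 52]),(nat_lit 2,nat_lit 26,[nat_lit 2, nat_lit 13, nat_lit 26],mk [nat_lit 2, nat_lit 13, nat_lit 26]),(nat_lit 4,nat_lit 13,[nat_lit 13],mk [nat_lit 13])]⟩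
def t54 : TE := ⟨nat_lit 54,nat_lit 0,nat_lit 2,[nat_lit 3],[nat_lit 2, nat_lit 3, nat_lit 6, nat_lit 9, nat_lit 18, nat_lit 27],mk [nat_lit 2, nat_lit 3, nat_lit 6, nat_lit 9, nat_lit 18, nat_lit 27],mk [nat_lit 27],[(nat_lit 1,nat_lit 18,[],mk []),(nat_lit 2,nat_lit 9,[],mk []),(nat_lit 3,nat_lit 6,[],mk []),(nat_lit 6,nat_lit 3,[],mk [])]⟩
def t55 : TE := ⟨nat_lit 55,nat_lit 0,nat_lit 5,[nat_lit 11],[nat_lit 5, nat_lit 11],mk [nat_lit 5, nat_lit 11],mk [nat_lit 11, nat_lit 5],[(nat_lit 1,nat_lit 40,[],mk []),(nat_lit 2,nat_lit 20,[],mk []),(nat_lit 4,nat_lit 10,[],mk []),(nat_lit 5,nat_lit 8,[],mk []),(nat_lit 8,nat_lit 5,[],mk [])]⟩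
def t57 : TE := ⟨nat_lit 57,nat_lit 0,nat_lit 3,[nat_lit 19],[nat_lit 3, nat_lit 19],mk [nat_lit 3, nat_lit 19],mk [nat_lit 19, nat_lit 3],[(nat_lit 1,nat_lit 36,[],mk []),(nat_lit 2,nat_lit 18,[],mk []),(nat_lit 3,nat_lit 12,[],mk []),(nat_lit 4,nat_lit 9,[],mk []),(nat_lit 6,nat_lit 6,[],mk [])]⟩
def t58 : TE := ⟨nat_lit 58,nat_lit 0,nat_lit 2,[nat_lit 29],[nat_lit 2, nat_lit 29],mk [nat_lit 2, nat_lit 29],mk [nat_lit 29, nat_lit 2],[(nat_lit 1,nat_lit 28,[],mk []),(nat_lit 2,nat_lit 14,[],mk []),(nat_lit 4,nat_lit 7,[],mk []),(nat_lit 7,nat_lit 4,[],mk [])]⟩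
def t61 : TE := ⟨nat_lit 61,nat_lit 61,nat_lit 61,[],[],mk [],mk [],[(nat_lit 1,nat_lit 60,[nat_lit 2, nat_lit 3, nat_lit 4, nat_lit 5, nat_lit 6, nat_lit 10, nat_lit 12, nat_lit 15, nat_lit 20, nat_lit 30],mk [nat_lit 2, nat_lit 3, nat_lit 4, nat_lit 5, nat_lit 6, nat_lit 10, nat_lit 12, nat_lit 15, nat_lit 20, nat_lit 30]),(nat_lit 2,nat_lit 30,[nat_lit 2, nat_lit 3, nat_lit 5, nat_lit 6, nat_lit 10, nat_lit 15, nat_lit 30],mk [nat_lit 2, nat_lit 3, nat_lit 5, nat_lit 6, nat_lit 10, nat_lit 15, nat_lit 30]),(nat_lit 3,nat_lit 20,[nat_lit 2, nat_lit 4, nat_lit 5, nat_lit 10, nat_lit 20],mk [nat_lit 2, nat_lit 4, nat_lit 5, nat_lit 10, nat_lit 20]),(nat_lit 4,nat_lit 15,[nat_lit 3, nat_lit 5, nat_lit 15],mk [nat_lit 3, nat_lit 5, nat_lit 15]),(nat_lit 5,nat_lit 12,[nat_lit 2, nat_lit 3, nat_lit 4, nat_lit 6, nat_lit 12],mk [nat_lit 2, nat_lit 3, nat_lit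 4, nat_lit 6, nat_lit 12]),(nat_lit 6,nat_lit 10,[nat_lit 2, nat_lit 5, nat_lit 10],mk [nat_lit 2, nat_lit 5, nat_lit 10])]⟩
def t62 : TE := ⟨nat_lit 62,nat_lit 0,nat_lit 2,[nat_lit 31],[nat_lit 2, nat_lit 31],mk [nat_lit 2, nat_lit 31],mk [nat_lit 31, nat_lit 2],[(nat_lit 1,nat_lit 30,[],mk []),(nat_lit 2,nat_lit 15,[],mk []),(nat_lit 3,nat_lit 10,[],mk []),(nat_lit 5,nat_lit 6,[],mk []),(nat_lit 6,nat_lit 5,[],mk [])]⟩
def t63 : TE := ⟨nat_lit 63,nat_lit 0,nat_lit 3,[nat_lit 7],[nat_lit 3, nat_lit 7, nat_lit 9, nat_lit 21],mk [nat_lit 3, nat_lit 7, nat_lit 9, nat_lit 21],mk [nat_lit 9],[(nat_lit 1,nat_lit 36,[],mk []),(nat_lit 2,nat_lit 18,[],mk []),(nat_lit 3,nat_lit 12,[],mk []),(nat_lit 4,nat_lit 9,[],mk []),(nat_lit 6,nat_lit 6,[],mk [])]⟩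
def t64 : TE := ⟨nat_lit 64,nat_lit 2,nat_lit 2,[],[nat_lit 2, nat_lit 4, nat_lit 8, nat_lit 16, nat_lit 32],mk [nat_lit 2, nat_lit 4, nat_lit 8, nat_lit 16, nat_lit 32],mk [],[(nat_lit 1,nat_lit 32,[],mk []),(nat_lit 2,nat_lit 16,[],mk []),(nat_lit 4,nat_lit 8,[],mk []),(nat_lit 8,nat_lit 4,[],mk [])]⟩
def t65 : TE := ⟨nat_lit 65,nat_lit 0,nat_lit 5,[nat_lit 13],[nat_lit 5, nat_lit 13],mk [nat_lit 5, nat_lit 13],mk [nat_lit 13, nat_lit 5],[(nat_lit 1,nat_lit 48,[],mk []),(nat_lit 2,nat_lit 24,[],mk []),(nat_lit 3,nat_lit 16,[],mk []),(nat_lit 4,nat_lit 12,[],mk []),(nat_lit 6,nat_lit 8,[],mk []),(nat_lit 8,nat_lit 6,[],mk [])]⟩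
def t68 : TE := ⟨nat_lit 68,nat_lit 0,nat_lit 2,[nat_lit 17],[nat_lit 2, nat_lit 4, nat_lit 17, nat_lit 34],mk [nat_lit 2, nat_lit 4, nat_lit 17, nat_lit 34],mk [nat_lit 4],[(nat_lit 1,nat_lit 32,[],mk []),(nat_lit 2,nat_lit 16,[],mk []),(nat_lit 4,nat_lit 8,[],mk []),(nat_lit 8,nat_lit 4,[],mk [])]⟩
def t74 : TE := ⟨nat_lit 74,nat_lit 0,nat_lit 2,[nat_lit 37],[nat_lit 2, nat_lit 37],mk [nat_lit 2, nat_lit 37],mk [nat_lit 37, nat_lit 2],[(nat_lit 1,nat_lit 36,[],mk []),(nat_lit 2,nat_lit 18,[],mk []),(nat_lit 3,nat_lit 12,[],mk []),(nat_lit 4,nat_lit 9,[],mk []),(nat_lit 6,nat_lit 6,[],mk [])]⟩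
def t75 : TE := ⟨nat_lit 75,nat_lit 0,nat_lit 3,[nat_lit 5],[nat_lit 3, nat_lit 5, nat_lit 15, nat_lit 25],mk [nat_lit 3, nat_lit 5, nat_lit 15, nat_lit 25],mk [nat_lit 25],[(nat_lit 1,nat_lit 40,[],mk []),(nat_lit 2,nat_lit 20,[],mk []),(nat_lit 4,nat_lit 10,[],mk []),(nat_lit 5,nat_lit 8,[],mk []),(nat_lit 8,nat_lit 5,[],mk [])]⟩
def t76 : TE := ⟨nat_lit 76,nat_lit 0,nat_lit 2,[nat_lit 19],[nat_lit 2, nat_lit 4, nat_lit 19, nat_lit 38],mk [nat_lit 2, nat_lit 4, nat_lit 19, nat_lit 38],mk [nat_lit 4],[(nat_lit 1,nat_lit 36,[],mk []),(nat_lit 2,nat_lit 18,[],mk []),(nat_lit 3,nat_lit 12,[],mk []),(nat_lit 4,nat_lit 9,[],mk []),(nat_lit 6,nat_lit 6,[],mk [])]⟩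
def t78 : TE := ⟨nat_lit 78,nat_lit 0,nat_lit 2,[nat_lit 13, nat_lit 3],[nat_lit 2, nat_lit 3, nat_lit 6, nat_lit 13, nat_lit 26, nat_lit 39],mk [nat_lit 2, nat_lit 3, nat_lit 6, nat_lit 13, nat_lit 26, nat_lit 39],mk [nat_lit 39, nat_lit 26, nat_lit 6],[(nat_lit 1,nat_lit 24,[],mk []),(nat_lit 2,nat_lit 12,[],mk []),(nat_lit 3,nat_lit 8,[],mk []),(nat_lit 4,nat_lit 6,[],mk []),(nat_lit 6,nat_lit 4,[],mk []),(nat_lit 8,nat_lit 3,[],mk [])]⟩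
def t79 : TE := ⟨nat_lit 79,nat_lit 79,nat_lit 79,[],[],mk [],mk [],[(nat_lit 1,nat_lit 78,[nat_lit 2, nat_lit 3, nat_lit 6, nat_lit 13, nat_lit 26, nat_lit 39, nat_lit 78],mk [nat_lit 2, nat_lit 3, nat_lit 6, nat_lit 13, nat_lit 26, nat_lit 39, nat_lit 78]),(nat_lit 2,nat_lit 39,[nat_lit 3, nat_lit 13, nat_lit 39],mk [nat_lit 3, nat_lit 13, nat_lit 39]),(nat_lit 3,nat_lit 26,[nat_lit 2, nat_lit 13, nat_lit 26],mk [nat_lit 2, nat_lit 13, nat_lit 26]),(nat_lit 6,nat_lit 13,[nat_lit 13],mk [nat_lit 13])]⟩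
def t81 : TE := ⟨nat_lit 81,nat_lit 3,nat_lit 3,[],[nat_lit 3, nat_lit 9, nat_lit 27],mk [nat_lit 3, nat_lit 9, nat_lit 27],mk [],[(nat_lit 1,nat_lit 54,[nat_lit 2, nat_lit 3, nat_lit 6, nat_lit 9, nat_lit 18, nat_lit 27, nat_lit 54],mk [nat_lit 2, nat_lit 3, nat_lit 6, nat_lit 9, nat_lit 18, nat_lit 27, nat_lit 54]),(nat_lit 2,nat_lit 27,[nat_lit 3, nat_lit 9, nat_lit 27],mk [nat_lit 3, nat_lit 9, nat_lit 27]),(nat_lit 3,nat_lit 18,[nat_lit 2, nat_lit 3, nat_lit 6, nat_lit 9, nat_lit 18],mk [nat_lit 2, nat_lit 3, nat_lit 6, nat_lit 9, nat_lit 18]),(nat_lit 6,nat_lit 9,[nat_lit 3, nat_lit 9],mk [nat_lit 3, nat_lit 9])]⟩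
def t82 : TE := ⟨nat_lit 82,nat_lit 0,nat_lit 2,[nat_lit 41],[nat_lit 2, nat_lit 41],mk [nat_lit 2, nat_lit 41],mk [nat_lit 41, nat_lit 2],[(nat_lit 1,nat_lit 40,[],mk []),(nat_lit 2,nat_lit 20,[],mk []),(nat_lit 4,nat_lit 10,[],mk []),(nat_lit 5,nat_lit 8,[],mk []),(nat_lit 8,nat_lit 5,[],mk [])]⟩
def t85 : TE := ⟨nat_lit 85,nat_lit 0,nat_lit 5,[nat_lit 17],[nat_lit 5, nat_lit 17],mk [nat_lit 5, nat_lit 17],mk [nat_lit 17, nat_lit 5],[(nat_lit 1,nat_lit 64,[],mk []),(nat_lit 2,nat_lit 32,[],mk []),(nat_lit 4,nat_lit 16,[],mk []),(nat_lit 8,nat_lit 8,[],mk [])]⟩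
def t86 : TE := ⟨nat_lit 86,nat_lit 0,nat_lit 2,[nat_lit 43],[nat_lit 2, nat_lit 43],mk [nat_lit 2, nat_lit 43],mk [nat_lit 43, nat_lit 2],[(nat_lit 1,nat_lit 42,[],mk []),(nat_lit 2,nat_lit 21,[],mk []),(nat_lit 3,nat_lit 14,[],mk []),(nat_lit 6,nat_lit 7,[],mk []),(nat_lit 7,nat_lit 6,[],mk [])]⟩
def t87 : TE := ⟨nat_lit 87,nat_lit 0,nat_lit 3,[nat_lit 29],[nat_lit 3, nat_lit 29],mk [nat_lit 3, nat_lit 29],mk [nat_lit 29, nat_lit 3],[(nat_lit 1,nat_lit 56,[],mk []),(nat_lit 2,nat_lit 28,[],mk []),(nat_lit 4,nat_lit 14,[],mk []),(nat_lit 7,nat_lit 8,[],mk []),(nat_lit 8,nat_lit 7,[],mk [])]⟩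
def t91 : TE := ⟨nat_lit 91,nat_lit 0,nat_lit 7,[nat_lit 13],[nat_lit 7, nat_lit 13],mk [nat_lit 7, nat_lit 13],mk [nat_lit 13, nat_lit 7],[(nat_lit 1,nat_lit 72,[],mk []),(nat_lit 2,nat_lit 36,[],mk []),(nat_lit 3,nat_lit 24,[],mk []),(nat_lit 4,nat_lit 18,[],mk []),(nat_lit 6,nat_lit 12,[],mk []),(nat_lit 8,nat_lit 9,[],mk [])]⟩
def t93 : TE := ⟨nat_lit 93,nat_lit 0,nat_lit 3,[nat_lit 31],[nat_lit 3, nat_lit 31],mk [nat_lit 3, nat_lit 31],mk [nat_lit 31, nat_lit 3],[(nat_lit 1,nat_lit 60,[],mk []),(nat_lit 2,nat_lit 30,[],mk []),(nat_lit 3,nat_lit 20,[],mk []),(nat_lit 4,nat_lit 15,[],mk []),(nat_lit 5,nat_lit 12,[],mk []),(nat_lit 6,nat_lit 10,[],mk [])]⟩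
def t95 : TE := ⟨nat_lit 95,nat_lit 0,nat_lit 5,[nat_lit 19],[nat_lit 5, nat_lit 19],mk [nat_lit 5, nat_lit 19],mk [nat_lit 19, nat_lit 5],[(nat_lit 1,nat_lit 72,[],mk []),(nat_lit 2,nat_lit 36,[],mk []),(nat_lit 3,nat_lit 24,[],mk []),(nat_lit 4,nat_lit 18,[],mk []),(nat_lit 6,nat_lit 12,[],mk []),(nat_lit 8,nat_lit 9,[],mk [])]⟩
def t97 : TE := ⟨nat_lit 97,nat_lit 97,nat_lit 97,[],[],mk [],mk [],[(nat_lit 1,nat_lit 96,[nat_lit 2, nat_lit 3, nat_lit 4, nat_lit 6, nat_lit 8, nat_lit 12, nat_lit 16, nat_lit 24, nat_lit 32, nat_lit 48],mk [nat_lit 2, nat_lit 3, nat_lit 4, nat_lit 6, nat_lit 8, nat_lit 12, nat_lit 16, nat_lit 24, nat_lit 32, nat_lit 48]),(nat_lit 2,nat_lit 48,[nat_lit 2, nat_lit 3, nat_lit 4, nat_lit 6, nat_lit 8, nat_lit 12, nat_lit 16, nat_lit 24, nat_lit 48],mk [nat_lit 2, nat_lit 3, nat_lit 4, nat_lit 6, nat_lit 8, nat_lit 12, nat_lit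 16, nat_lit 24, nat_lit 48]),(nat_lit 3,nat_lit 32,[nat_lit 2, nat_lit 4, nat_lit 8, nat_lit 16, nat_lit 32],mk [nat_lit 2, nat_lit 4, nat_lit 8, nat_lit 16, nat_lit 32]),(nat_lit 4,nat_lit 24,[nat_lit 2, nat_lit 3, nat_lit 4, nat_lit 6, nat_lit 8, nat_lit 12, nat_lit 24],mk [nat_lit 2, nat_lit 3, nat_lit 4, nat_lit 6, nat_lit 8, nat_lit 12, nat_lit 24]),(nat_lit 6,nat_lit 16,[nat_lit 2, nat_lit 4, nat_lit 8, nat_lit 16],mk [nat_lit 2, nat_lit 4, nat_lit 8, nat_lit 16]),(nat_lit 8,nat_lit 12,[nat_lit 2, nat_lit 3, nat_lit 4, nat_lit 6, nat_lit 12],mk [nat_lit 2, nat_lit 3, nat_lit 4, nat_lit 6, nat_lit 12])]⟩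
def t98 : TE := ⟨nat_lit 98,nat_lit 0,nat_lit 2,[nat_lit 7],[nat_lit 2, nat_lit 7, nat_lit 14, nat_lit 49],mk [nat_lit 2, nat_lit 7, nat_lit 14, nat_lit 49],mk [nat_lit 49],[(nat_lit 1,nat_lit 42,[],mk []),(nat_lit 2,nat_lit 21,[],mk []),(nat_lit 3,nat_lit 14,[],mk []),(nat_lit 6,nat_lit 7,[],mk []),(nat_lit 7,nat_lit 6,[],mk [])]⟩
def t100 : TE := ⟨nat_lit 100,nat_lit 0,nat_lit 2,[nat_lit 5],[nat_lit 2, nat_lit 4, nat_lit 5, nat_lit 10, nat_lit 20, nat_lit 25, nat_lit 50],mk [nat_lit 2, nat_lit 4, nat_lit 5, nat_lit 10, nat_lit 20, nat_lit 25, nat_lit 50],mk [],[(nat_lit 1,nat_lit 40,[],mk []),(nat_lit 2,nat_lit 20,[],mk []),(nat_lit 4,nat_lit 10,[],mk []),(nat_lit 5,nat_lit 8,[],mk []),(nat_lit 8,nat_lit 5,[],mk [])]⟩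
def t101 : TE := ⟨nat_lit 101,nat_lit 101,nat_lit 101,[],[],mk [],mk [],[(nat_lit 1,nat_lit 100,[nat_lit 2, nat_lit 4, nat_lit 5, nat_lit 10, nat_lit 20, nat_lit 25, nat_lit 50, nat_lit 100],mk [nat_lit 2, nat_lit 4, nat_lit 5, nat_lit 10, nat_lit 20, nat_lit 25, nat_lit 50, nat_lit 100]),(nat_lit 2,nat_lit 50,[nat_lit 2, nat_lit 5, nat_lit 10, nat_lit 25, nat_lit 50],mk [nat_lit 2, nat_lit 5, nat_lit 10, nat_lit 25, nat_lit 50]),(nat_lit 4,nat_lit 25,[nat_lit 5, nat_lit 25],mk [nat_lit 5, nat_lit 25]),(nat_lit 5,nat_lit 20,[nat_lit 2, nat_lit 4, nat_lit 5, nat_lit 10, nat_lit 20],mk [nat_lit 2, nat_lit 4, nat_lit 5, nat_lit 10, nat_lit 20])]⟩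
def t109 : TE := ⟨nat_lit 109,nat_lit 109,nat_lit 109,[],[],mk [],mk [],[(nat_lit 1,nat_lit 108,[nat_lit 2, nat_lit 3, nat_lit 4, nat_lit 6, nat_lit 9, nat_lit 12, nat_lit 18, nat_lit 27, nat_lit 36, nat_lit 54],mk [nat_lit 2, nat_lit 3, nat_lit 4, nat_lit 6, nat_lit 9, nat_lit 12, nat_lit 18, nat_lit 27, nat_lit 36, nat_lit 54]),(nat_lit 2,nat_lit 54,[nat_lit 2, nat_lit 3, nat_lit 6, nat_lit 9, nat_lit 18, nat_lit 27, nat_lit 54],mk [nat_lit 2, nat_lit 3, nat_lit 6, nat_lit 9, nat_lit 18, nat_lit 27, nat_lit 54]),(nat_lit 3,nat_lit 36,[nat_lit 2, nat_lit 3, nat_lit 4, nat_lit 6, nat_lit 9, nat_lit 12, nat_lit 18, nat_lit 36],mk [nat_lit 2, nat_lit 3, nat_lit 4, nat_lit 6, nat_lit 9, nat_lit 12, nat_lit 18, nat_lit 36]),(nat_lit 4,nat_lit 27,[nat_lit 3, nat_lit 9, nat_lit 27],mk [nat_lit 3, nat_lit 9, nat_lit 27]),(nat_lit 6,nat_lit 18,[nat_lit 2,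 nat_lit 3, nat_lit 6, nat_lit 9, nat_lit 18],mk [nat_lit 2, nat_lit 3, nat_lit 6, nat_lit 9, nat_lit 18])]⟩
def t110 : TE := ⟨nat_lit 110,nat_lit 0,nat_lit 2,[nat_lit 11, nat_lit 5],[nat_lit 2, nat_lit 5, nat_lit 10, nat_lit 11, nat_lit 22, nat_lit 55],mk [nat_lit 2, nat_lit 5, nat_lit 10, nat_lit 11, nat_lit 22, nat_lit 55],mk [nat_lit 55, nat_lit 22, nat_lit 10],[(nat_lit 1,nat_lit 40,[],mk []),(nat_lit 2,nat_lit 20,[],mk []),(nat_lit 4,nat_lit 10,[],mk []),(nat_lit 5,nat_lit 8,[],mk []),(nat_lit 8,nat_lit 5,[],mk [])]⟩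
def t111 : TE := ⟨nat_lit 111,nat_lit 0,nat_lit 3,[nat_lit 37],[nat_lit 3, nat_lit 37],mk [nat_lit 3, nat_lit 37],mk [nat_lit 37, nat_lit 3],[(nat_lit 1,nat_lit 72,[],mk []),(nat_lit 2,nat_lit 36,[],mk []),(nat_lit 3,nat_lit 24,[],mk []),(nat_lit 4,nat_lit 18,[],mk []),(nat_lit 6,nat_lit 12,[],mk []),(nat_lit 8,nat_lit 9,[],mk [])]⟩
def t115 : TE := ⟨nat_lit 115,nat_lit 0,nat_lit 5,[nat_lit 23],[nat_lit 5, nat_lit 23],mk [nat_lit 5, nat_lit 23],mk [nat_lit 23, nat_lit 5],[(nat_lit 1,nat_lit 88,[],mk []),(nat_lit 2,nat_lit 44,[],mk []),(nat_lit 4,nat_lit 22,[],mk []),(nat_lit 8,nat_lit 11,[],mk [])]⟩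
def t117 : TE := ⟨nat_lit 117,nat_lit 0,nat_lit 3,[nat_lit 13],[nat_lit 3, nat_lit 9, nat_lit 13, nat_lit 39],mk [nat_lit 3, nat_lit 9, nat_lit 13, nat_lit 39],mk [nat_lit 9],[(nat_lit 1,nat_lit 72,[],mk []),(nat_lit 2,nat_lit 36,[],mk []),(nat_lit 3,nat_lit 24,[],mk []),(nat_lit 4,nat_lit 18,[],mk []),(nat_lit 6,nat_lit 12,[],mk []),(nat_lit 8,nat_lit 9,[],mk [])]⟩
def t121 : TE := ⟨nat_lit 121,nat_lit 11,nat_lit 11,[],[nat_lit 11],mk [nat_lit 11],mk [],[(nat_lit 1,nat_lit 110,[nat_lit 2, nat_lit 5, nat_lit 10, nat_lit 11, nat_lit 22, nat_lit 55, nat_lit 110],mk [nat_lit 2, nat_lit 5, nat_lit 10, nat_lit 11, nat_lit 22, nat_lit 55, nat_lit 110]),(nat_lit 2,nat_lit 55,[nat_lit 5, nat_lit 11, nat_lit 55],mk [nat_lit 5, nat_lit 11, nat_lit 55]),(nat_lit 5,nat_lit 22,[nat_lit 2, nat_lit 11, nat_lit 22],mk [nat_lit 2, nat_lit 11, nat_lit 22])]⟩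
def t125 : TE := ⟨nat_lit 125,nat_lit 5,nat_lit 5,[],[nat_lit 5, nat_lit 25],mk [nat_lit 5, nat_lit 25],mk [],[(nat_lit 1,nat_lit 100,[nat_lit 2, nat_lit 4, nat_lit 5, nat_lit 10, nat_lit 20, nat_lit 25, nat_lit 50, nat_lit 100],mk [nat_lit 2, nat_lit 4, nat_lit 5, nat_lit 10, nat_lit 20, nat_lit 25, nat_lit 50, nat_lit 100]),(nat_lit 2,nat_lit 50,[nat_lit 2, nat_lit 5, nat_lit 10, nat_lit 25, nat_lit 50],mk [nat_lit 2, nat_lit 5, nat_lit 10, nat_lit 25, nat_lit 50]),(nat_lit 4,nat_lit 25,[nat_lit 5, nat_lit 25],mk [nat_lit 5, nat_lit 25]),(nat_lit 5,nat_lit 20,[nat_lit 2, nat_lit 4, nat_lit 5, nat_lit 10, nat_lit 20],mk [nat_lit 2, nat_lit 4, nat_lit 5, nat_lit 10, nat_lit 20])]⟩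
def t128 : TE := ⟨nat_lit 128,nat_lit 2,nat_lit 2,[],[nat_lit 2, nat_lit 4, nat_lit 8, nat_lit 16, nat_lit 32, nat_lit 64],mk [nat_lit 2, nat_lit 4, nat_lit 8, nat_lit 16, nat_lit 32, nat_lit 64],mk [],[(nat_lit 1,nat_lit 64,[],mk []),(nat_lit 2,nat_lit 32,[],mk []),(nat_lit 4,nat_lit 16,[],mk []),(nat_lit 8,nat_lit 8,[],mk [])]⟩
def t129 : TE := ⟨nat_lit 129,nat_lit 0,nat_lit 3,[nat_lit 43],[nat_lit 3, nat_lit 43],mk [nat_lit 3, nat_lit 43],mk [nat_lit 43, nat_lit 3],[(nat_lit 1,nat_lit 84,[],mk []),(nat_lit 2,nat_lit 42,[],mk []),(nat_lit 3,nat_lit 28,[],mk []),(nat_lit 4,nat_lit 21,[],mk []),(nat_lit 6,nat_lit 14,[],mk []),(nat_lit 7,nat_lit 12,[],mk [])]⟩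
def t133 : TE := ⟨nat_lit 133,nat_lit 0,nat_lit 7,[nat_lit 19],[nat_lit 7, nat_lit 19],mk [nat_lit 7, nat_lit 19],mk [nat_lit 19, nat_lit 7],[(nat_lit 1,nat_lit 108,[],mk []),(nat_lit 2,nat_lit 54,[],mk []),(nat_lit 3,nat_lit 36,[],mk []),(nat_lit 4,nat_lit 27,[],mk []),(nat_lit 6,nat_lit 18,[],mk [])]⟩
def t136 : TE := ⟨nat_lit 136,nat_lit 0,nat_lit 2,[nat_lit 17],[nat_lit 2, nat_lit 4, nat_lit 8, nat_lit 17, nat_lit 34, nat_lit 68],mk [nat_lit 2, nat_lit 4, nat_lit 8, nat_lit 17, nat_lit 34, nat_lit 68],mk [nat_lit 8],[(nat_lit 1,nat_lit 64,[],mk []),(nat_lit 2,nat_lit 32,[],mk []),(nat_lit 4,nat_lit 16,[],mk []),(nat_lit 8,nat_lit 8,[],mk [])]⟩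
def t147 : TE := ⟨nat_lit 147,nat_lit 0,nat_lit 3,[nat_lit 7],[nat_lit 3, nat_lit 7, nat_lit 21, nat_lit 49],mk [nat_lit 3, nat_lit 7, nat_lit 21, nat_lit 49],mk [nat_lit 49],[(nat_lit 1,nat_lit 84,[],mk []),(nat_lit 2,nat_lit 42,[],mk []),(nat_lit 3,nat_lit 28,[],mk []),(nat_lit 4,nat_lit 21,[],mk []),(nat_lit 6,nat_lit 14,[],mk []),(nat_lit 7,nat_lit 12,[],mk [])]⟩
def t155 : TE := ⟨nat_lit 155,nat_lit 0,nat_lit 5,[nat_lit 31],[nat_lit 5, nat_lit 31],mk [nat_lit 5, nat_lit 31],mk [nat_lit 31, nat_lit 5],[(nat_lit 1,nat_lit 120,[],mk []),(nat_lit 2,nat_lit 60,[],mk []),(nat_lit 3,nat_lit 40,[],mk []),(nat_lit 4,nat_lit 30,[],mk []),(nat_lit 5,nat_lit 24,[],mk []),(nat_lit 6,nat_lit 20,[],mk []),(nat_lit 8,nat_lit 15,[],mk [])]⟩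
def t163 : TE := ⟨nat_lit 163,nat_lit 163,nat_lit 163,[],[],mk [],mk [],[(nat_lit 1,nat_lit 162,[nat_lit 2, nat_lit 3, nat_lit 6, nat_lit 9, nat_lit 18, nat_lit 27, nat_lit 54, nat_lit 81, nat_lit 162],mk [nat_lit 2, nat_lit 3, nat_lit 6, nat_lit 9, nat_lit 18, nat_lit 27, nat_lit 54, nat_lit 81, nat_lit 162]),(nat_lit 2,nat_lit 81,[nat_lit 3, nat_lit 9, nat_lit 27, nat_lit 81],mk [nat_lit 3, nat_lit 9, nat_lit 27, nat_lit 81]),(nat_lit 3,nat_lit 54,[nat_lit 2, nat_lit 3, nat_lit 6, nat_lit 9, nat_lit 18, nat_lit 27, nat_lit 54],mk [nat_lit 2, nat_lit 3, nat_lit 6, nat_lit 9, nat_lit 18, nat_lit 27, nat_lit 54]),(nat_lit 6,nat_lit 27,[nat_lit 3, nat_lit 9, nat_lit 27],mk [nat_lit 3, nat_lit 9, nat_lit 27])]⟩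
def t169 : TE := ⟨nat_lit 169,nat_lit 13,nat_lit 13,[],[nat_lit 13],mk [nat_lit 13],mk [],[(nat_lit 1,nat_lit 156,[nat_lit 2, nat_lit 3, nat_lit 4, nat_lit 6, nat_lit 12, nat_lit 13, nat_lit 26, nat_lit 39, nat_lit 52, nat_lit 78],mk [nat_lit 2, nat_lit 3, nat_lit 4, nat_lit 6, nat_lit 12, nat_lit 13, nat_lit 26, nat_lit 39, nat_lit 52, nat_lit 78]),(nat_lit 2,nat_lit 78,[nat_lit 2, nat_lit 3, nat_lit 6, nat_lit 13, nat_lit 26, nat_lit 39, nat_lit 78],mk [nat_lit 2, nat_lit 3, nat_lit 6, nat_lit 13, nat_lit 26, nat_lit 39, nat_lit 78]),(nat_lit 3,nat_lit 52,[nat_lit 2, nat_lit 4, nat_lit 13, nat_lit 26, nat_lit 52],mk [nat_lit 2, nat_lit 4, nat_lit 13, nat_lit 26, nat_lit 52]),(nat_lit 4,nat_lit 39,[nat_lit 3, nat_lit 13, nat_lit 39],mk [nat_lit 3, nat_lit 13, nat_lit 39]),(nat_lit 6,nat_lit 26,[nat_lit 2, nat_lit 13, nat_lit 26],mk [nat_lit 2, nat_lit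 13, nat_lit 26])]⟩
def t171 : TE := ⟨nat_lit 171,nat_lit 0,nat_lit 3,[nat_lit 19],[nat_lit 3, nat_lit 9, nat_lit 19, nat_lit 57],mk [nat_lit 3, nat_lit 9, nat_lit 19, nat_lit 57],mk [nat_lit 9],[(nat_lit 1,nat_lit 108,[],mk []),(nat_lit 2,nat_lit 54,[],mk []),(nat_lit 3,nat_lit 36,[],mk []),(nat_lit 4,nat_lit 27,[],mk []),(nat_lit 6,nat_lit 18,[],mk [])]⟩
def t203 : TE := ⟨nat_lit 203,nat_lit 0,nat_lit 7,[nat_lit 29],[nat_lit 7, nat_lit 29],mk [nat_lit 7, nat_lit 29],mk [nat_lit 29, nat_lit 7],[(nat_lit 1,nat_lit 168,[],mk []),(nat_lit 2,nat_lit 84,[],mk []),(nat_lit 3,nat_lit 56,[],mk []),(nat_lit 4,nat_lit 42,[],mk []),(nat_lit 6,nat_lit 28,[],mk []),(nat_lit 7,nat_lit 24,[],mk []),(nat_lit 8,nat_lit 21,[],mk [])]⟩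
def t205 : TE := ⟨nat_lit 205,nat_lit 0,nat_lit 5,[nat_lit 41],[nat_lit 5, nat_lit 41],mk [nat_lit 5, nat_lit 41],mk [nat_lit 41, nat_lit 5],[(nat_lit 1,nat_lit 160,[],mk []),(nat_lit 2,nat_lit 80,[],mk []),(nat_lit 4,nat_lit 40,[],mk []),(nat_lit 5,nat_lit 32,[],mk []),(nat_lit 8,nat_lit 20,[],mk [])]⟩
def t242 : TE := ⟨nat_lit 242,nat_lit 0,nat_lit 2,[nat_lit 11],[nat_lit 2, nat_lit 11, nat_lit 22, nat_lit 121],mk [nat_lit 2, nat_lit 11, nat_lit 22, nat_lit 121],mk [nat_lit 121],[(nat_lit 1,nat_lit 110,[],mk []),(nat_lit 2,nat_lit 55,[],mk []),(nat_lit 5,nat_lit 22,[],mk [])]⟩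
def t243 : TE := ⟨nat_lit 243,nat_lit 3,nat_lit 3,[],[nat_lit 3, nat_lit 9, nat_lit 27, nat_lit 81],mk [nat_lit 3, nat_lit 9, nat_lit 27, nat_lit 81],mk [],[(nat_lit 1,nat_lit 162,[nat_lit 2, nat_lit 3, nat_lit 6, nat_lit 9, nat_lit 18, nat_lit 27, nat_lit 54, nat_lit 81, nat_lit 162],mk [nat_lit 2, nat_lit 3, nat_lit 6, nat_lit 9, nat_lit 18, nat_lit 27, nat_lit 54, nat_lit 81, nat_lit 162]),(nat_lit 2,nat_lit 81,[nat_lit 3, nat_lit 9, nat_lit 27, nat_lit 81],mk [nat_lit 3, nat_lit 9, nat_lit 27, nat_lit 81]),(nat_lit 3,nat_lit 54,[nat_lit 2, nat_lit 3, nat_lit 6, nat_lit 9, nat_lit 18, nat_lit 27, nat_lit 54],mk [nat_lit 2, nat_lit 3, nat_lit 6, nat_lit 9, nat_lit 18, nat_lit 27, nat_lit 54]),(nat_lit 6,nat_lit 27,[nat_lit 3, nat_lit 9, nat_lit 27],mk [nat_lit 3, nat_lit 9, nat_lit 27])]⟩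
def t250 : TE := ⟨nat_lit 250,nat_lit 0,nat_lit 2,[nat_lit 5],[nat_lit 2, nat_lit 5, nat_lit 10, nat_lit 25, nat_lit 50, nat_lit 125],mk [nat_lit 2, nat_lit 5, nat_lit 10, nat_lit 25, nat_lit 50, nat_lit 125],mk [nat_lit 125],[(nat_lit 1,nat_lit 100,[],mk []),(nat_lit 2,nat_lit 50,[],mk []),(nat_lit 4,nat_lit 25,[],mk []),(nat_lit 5,nat_lit 20,[],mk [])]⟩
def t251 : TE := ⟨nat_lit 251,nat_lit 251,nat_lit 251,[],[],mk [],mk [],[(nat_lit 1,nat_lit 250,[nat_lit 2, nat_lit 5, nat_lit 10, nat_lit 25, nat_lit 50, nat_lit 125, nat_lit 250],mk [nat_lit 2, nat_lit 5, nat_lit 10, nat_lit 25, nat_lit 50, nat_lit 125, nat_lit 250]),(nat_lit 2,nat_lit 125,[nat_lit 5, nat_lit 25, nat_lit 125],mk [nat_lit 5, nat_lit 25, nat_lit 125]),(nat_lit 5,nat_lit 50,[nat_lit 2, nat_lit 5, nat_lit 10, nat_lit 25, nat_lit 50],mk [nat_lit 2, nat_lit 5, nat_lit 10, nat_lit 25,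 nat_lit 50])]⟩
def t253 : TE := ⟨nat_lit 253,nat_lit 0,nat_lit 11,[nat_lit 23],[nat_lit 11, nat_lit 23],mk [nat_lit 11, nat_lit 23],mk [nat_lit 23, nat_lit 11],[(nat_lit 1,nat_lit 220,[],mk []),(nat_lit 2,nat_lit 110,[],mk []),(nat_lit 4,nat_lit 55,[],mk []),(nat_lit 5,nat_lit 44,[],mk [])]⟩
def t256 : TE := ⟨nat_lit 256,nat_lit 2,nat_lit 2,[],[nat_lit 2, nat_lit 4, nat_lit 8, nat_lit 16, nat_lit 32, nat_lit 64, nat_lit 128],mk [nat_lit 2, nat_lit 4, nat_lit 8, nat_lit 16, nat_lit 32, nat_lit 64, nat_lit 128],mk [],[(nat_lit 1,nat_lit 128,[],mk []),(nat_lit 2,nat_lit 64,[],mk []),(nat_lit 4,nat_lit 32,[],mk []),(nat_lit 8,nat_lit 16,[],mk [])]⟩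
def t275 : TE := ⟨nat_lit 275,nat_lit 0,nat_lit 5,[nat_lit 11],[nat_lit 5, nat_lit 11, nat_lit 25, nat_lit 55],mk [nat_lit 5, nat_lit 11, nat_lit 25, nat_lit 55],mk [nat_lit 25],[(nat_lit 1,nat_lit 200,[],mk []),(nat_lit 2,nat_lit 100,[],mk []),(nat_lit 4,nat_lit 50,[],mk []),(nat_lit 5,nat_lit 40,[],mk []),(nat_lit 8,nat_lit 25,[],mk [])]⟩
def t289 : TE := ⟨nat_lit 289,nat_lit 17,nat_lit 17,[],[nat_lit 17],mk [nat_lit 17],mk [],[(nat_lit 1,nat_lit 272,[nat_lit 2, nat_lit 4, nat_lit 8, nat_lit 16, nat_lit 17, nat_lit 34, nat_lit 68, nat_lit 136, nat_lit 272],mk [nat_lit 2, nat_lit 4, nat_lit 8, nat_lit 16, nat_lit 17, nat_lit 34, nat_lit 68, nat_lit 136, nat_lit 272]),(nat_lit 2,nat_lit 136,[nat_lit 2, nat_lit 4, nat_lit 8, nat_lit 17, nat_lit 34, nat_lit 68, nat_lit 136],mk [nat_lit 2, nat_lit 4, nat_lit 8, nat_lit 17, nat_lit 34, nat_lit 68, nat_lit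 136]),(nat_lit 4,nat_lit 68,[nat_lit 2, nat_lit 4, nat_lit 17, nat_lit 34, nat_lit 68],mk [nat_lit 2, nat_lit 4, nat_lit 17, nat_lit 34, nat_lit 68]),(nat_lit 8,nat_lit 34,[nat_lit 2, nat_lit 17, nat_lit 34],mk [nat_lit 2, nat_lit 17, nat_lit 34])]⟩
def t301 : TE := ⟨nat_lit 301,nat_lit 0,nat_lit 7,[nat_lit 43],[nat_lit 7, nat_lit 43],mk [nat_lit 7, nat_lit 43],mk [nat_lit 43, nat_lit 7],[(nat_lit 1,nat_lit 252,[],mk []),(nat_lit 2,nat_lit 126,[],mk []),(nat_lit 3,nat_lit 84,[],mk []),(nat_lit 4,nat_lit 63,[],mk []),(nat_lit 6,nat_lit 42,[],mk []),(nat_lit 7,nat_lit 36,[],mk [])]⟩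
def t326 : TE := ⟨nat_lit 326,nat_lit 0,nat_lit 2,[nat_lit 163],[nat_lit 2, nat_lit 163],mk [nat_lit 2, nat_lit 163],mk [nat_lit 163, nat_lit 2],[(nat_lit 1,nat_lit 162,[],mk []),(nat_lit 2,nat_lit 81,[],mk []),(nat_lit 3,nat_lit 54,[],mk []),(nat_lit 6,nat_lit 27,[],mk [])]⟩
def t338 : TE := ⟨nat_lit 338,nat_lit 0,nat_lit 2,[nat_lit 13],[nat_lit 2, nat_lit 13, nat_lit 26, nat_lit 169],mk [nat_lit 2, nat_lit 13, nat_lit 26, nat_lit 169],mk [nat_lit 169],[(nat_lit 1,nat_lit 156,[],mk []),(nat_lit 2,nat_lit 78,[],mk []),(nat_lit 3,nat_lit 52,[],mk []),(nat_lit 4,nat_lit 39,[],mk []),(nat_lit 6,nat_lit 26,[],mk [])]⟩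
def t343 : TE := ⟨nat_lit 343,nat_lit 7,nat_lit 7,[],[nat_lit 7, nat_lit 49],mk [nat_lit 7, nat_lit 49],mk [],[(nat_lit 1,nat_lit 294,[nat_lit 2, nat_lit 3, nat_lit 6, nat_lit 7, nat_lit 14, nat_lit 21, nat_lit 42, nat_lit 49, nat_lit 98, nat_lit 147],mk [nat_lit 2, nat_lit 3, nat_lit 6, nat_lit 7, nat_lit 14, nat_lit 21, nat_lit 42, nat_lit 49, nat_lit 98, nat_lit 147]),(nat_lit 2,nat_lit 147,[nat_lit 3, nat_lit 7, nat_lit 21, nat_lit 49, nat_lit 147],mk [nat_lit 3, nat_lit 7, nat_lit 21, nat_lit 49, nat_lit 147]),(nat_lit 3,nat_lit 98,[nat_lit 2, nat_lit 7, nat_lit 14, nat_lit 49, nat_lit 98],mk [nat_lit 2, nat_lit 7, nat_lit 14, nat_lit 49, nat_lit 98]),(nat_lit 6,nat_lit 49,[nat_lit 7, nat_lit 49],mk [nat_lit 7, nat_lit 49]),(nat_lit 7,nat_lit 42,[nat_lit 2, nat_lit 3, nat_lit 6, nat_lit 7, nat_lit 14, nat_lit 21, nat_lit 42],mk [nat_lit 2, nat_lit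 3, nat_lit 6, nat_lit 7, nat_lit 14, nat_lit 21, nat_lit 42])]⟩
def t361 : TE := ⟨nat_lit 361,nat_lit 19,nat_lit 19,[],[nat_lit 19],mk [nat_lit 19],mk [],[(nat_lit 1,nat_lit 342,[nat_lit 2, nat_lit 3, nat_lit 6, nat_lit 9, nat_lit 18, nat_lit 19, nat_lit 38, nat_lit 57, nat_lit 114, nat_lit 171],mk [nat_lit 2, nat_lit 3, nat_lit 6, nat_lit 9, nat_lit 18, nat_lit 19, nat_lit 38, nat_lit 57, nat_lit 114, nat_lit 171]),(nat_lit 2,nat_lit 171,[nat_lit 3, nat_lit 9, nat_lit 19, nat_lit 57, nat_lit 171],mk [nat_lit 3, nat_lit 9, nat_lit 19, nat_lit 57, nat_lit 171]),(nat_lit 3,nat_lit 114,[nat_lit 2, nat_lit 3, nat_lit 6, nat_lit 19, nat_lit 38, nat_lit 57, nat_lit 114],mk [nat_lit 2, nat_lit 3, nat_lit 6, nat_lit 19, nat_lit 38, nat_lit 57, nat_lit 114]),(nat_lit 6,nat_lit 57,[nat_lit 3, nat_lit 19, nat_lit 57],mk [nat_lit 3, nat_lit 19, nat_lit 57])]⟩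
def t487 : TE := ⟨nat_lit 487,nat_lit 487,nat_lit 487,[],[],mk [],mk [],[(nat_lit 1,nat_lit 486,[nat_lit 2, nat_lit 3, nat_lit 6, nat_lit 9, nat_lit 18, nat_lit 27, nat_lit 54, nat_lit 81, nat_lit 162, nat_lit 243],mk [nat_lit 2, nat_lit 3, nat_lit 6, nat_lit 9, nat_lit 18, nat_lit 27, nat_lit 54, nat_lit 81, nat_lit 162, nat_lit 243]),(nat_lit 2,nat_lit 243,[nat_lit 3, nat_lit 9, nat_lit 27, nat_lit 81, nat_lit 243],mk [nat_lit 3, nat_lit 9, nat_lit 27, nat_lit 81, nat_lit 243]),(nat_lit 3,nat_lit 162,[nat_lit 2, nat_lit 3, nat_lit 6, nat_lit 9, nat_lit 18, nat_lit 27, nat_lit 54, nat_lit 81, nat_lit 162],mk [nat_lit 2, nat_lit 3, nat_lit 6, nat_lit 9, nat_lit 18, nat_lit 27, nat_lit 54, nat_lit 81, nat_lit 162]),(nat_lit 6,nat_lit 81,[nat_lit 3, nat_lit 9, nat_lit 27, nat_lit 81],mk [nat_lit 3, nat_lit 9, nat_lit 27, nat_lit 81])]⟩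
def t489 : TE := ⟨nat_lit 489,nat_lit 0,nat_lit 3,[nat_lit 163],[nat_lit 3, nat_lit 163],mk [nat_lit 3, nat_lit 163],mk [nat_lit 163, nat_lit 3],[(nat_lit 1,nat_lit 324,[],mk []),(nat_lit 2,nat_lit 162,[],mk []),(nat_lit 3,nat_lit 108,[],mk []),(nat_lit 4,nat_lit 81,[],mk []),(nat_lit 6,nat_lit 54,[],mk [])]⟩
def t502 : TE := ⟨nat_lit 502,nat_lit 0,nat_lit 2,[nat_lit 251],[nat_lit 2, nat_lit 251],mk [nat_lit 2, nat_lit 251],mk [nat_lit 251, nat_lit 2],[(nat_lit 1,nat_lit 250,[],mk []),(nat_lit 2,nat_lit 125,[],mk []),(nat_lit 5,nat_lit 50,[],mk [])]⟩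
def t507 : TE := ⟨nat_lit 507,nat_lit 0,nat_lit 3,[nat_lit 13],[nat_lit 3, nat_lit 13, nat_lit 39, nat_lit 169],mk [nat_lit 3, nat_lit 13, nat_lit 39, nat_lit 169],mk [nat_lit 169],[(nat_lit 1,nat_lit 312,[],mk []),(nat_lit 2,nat_lit 156,[],mk []),(nat_lit 3,nat_lit 104,[],mk []),(nat_lit 4,nat_lit 78,[],mk []),(nat_lit 6,nat_lit 52,[],mk []),(nat_lit 8,nat_lit 39,[],mk [])]⟩
def t529 : TE := ⟨nat_lit 529,nat_lit 23,nat_lit 23,[],[nat_lit 23],mk [nat_lit 23],mk [],[(nat_lit 1,nat_lit 506,[nat_lit 2, nat_lit 11, nat_lit 22, nat_lit 23, nat_lit 46, nat_lit 253, nat_lit 506],mk [nat_lit 2, nat_lit 11, nat_lit 22, nat_lit 23, nat_lit 46, nat_lit 253, nat_lit 506]),(nat_lit 2,nat_lit 253,[nat_lit 11, nat_lit 23, nat_lit 253],mk [nat_lit 11, nat_lit 23, nat_lit 253])]⟩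
def t578 : TE := ⟨nat_lit 578,nat_lit 0,nat_lit 2,[nat_lit 17],[nat_lit 2, nat_lit 17, nat_lit 34, nat_lit 289],mk [nat_lit 2, nat_lit 17, nat_lit 34, nat_lit 289],mk [nat_lit 289],[(nat_lit 1,nat_lit 272,[],mk []),(nat_lit 2,nat_lit 136,[],mk []),(nat_lit 4,nat_lit 68,[],mk []),(nat_lit 8,nat_lit 34,[],mk [])]⟩
def t605 : TE := ⟨nat_lit 605,nat_lit 0,nat_lit 5,[nat_lit 11],[nat_lit 5, nat_lit 11, nat_lit 55, nat_lit 121],mk [nat_lit 5, nat_lit 11, nat_lit 55, nat_lit 121],mk [nat_lit 121],[(nat_lit 1,nat_lit 440,[],mk []),(nat_lit 2,nat_lit 220,[],mk []),(nat_lit 4,nat_lit 110,[],mk []),(nat_lit 5,nat_lit 88,[],mk []),(nat_lit 8,nat_lit 55,[],mk [])]⟩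
def t625 : TE := ⟨nat_lit 625,nat_lit 5,nat_lit 5,[],[nat_lit 5, nat_lit 25, nat_lit 125],mk [nat_lit 5, nat_lit 25, nat_lit 125],mk [],[(nat_lit 1,nat_lit 500,[nat_lit 2, nat_lit 4, nat_lit 5, nat_lit 10, nat_lit 20, nat_lit 25, nat_lit 50, nat_lit 100, nat_lit 125, nat_lit 250],mk [nat_lit 2, nat_lit 4, nat_lit 5, nat_lit 10, nat_lit 20, nat_lit 25, nat_lit 50, nat_lit 100, nat_lit 125, nat_lit 250]),(nat_lit 2,nat_lit 250,[nat_lit 2, nat_lit 5, nat_lit 10, nat_lit 25, nat_lit 50, nat_lit 125, nat_lit 250],mk [nat_lit 2, nat_lit 5, nat_lit 10, nat_lit 25, nat_lit 50, nat_lit 125, nat_lit 250]),(nat_lit 4,nat_lit 125,[nat_lit 5, nat_lit 25, nat_lit 125],mk [nat_lit 5, nat_lit 25, nat_lit 125]),(nat_lit 5,nat_lit 100,[nat_lit 2, nat_lit 4, nat_lit 5, nat_lit 10, nat_lit 20, nat_lit 25, nat_lit 50, nat_lit 100],mk [nat_lit 2, nat_lit 4, nat_lit 5,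 nat_lit 10, nat_lit 20, nat_lit 25, nat_lit 50, nat_lit 100])]⟩
def t722 : TE := ⟨nat_lit 722,nat_lit 0,nat_lit 2,[nat_lit 19],[nat_lit 2, nat_lit 19, nat_lit 38, nat_lit 361],mk [nat_lit 2, nat_lit 19, nat_lit 38, nat_lit 361],mk [nat_lit 361],[(nat_lit 1,nat_lit 342,[],mk []),(nat_lit 2,nat_lit 171,[],mk []),(nat_lit 3,nat_lit 114,[],mk []),(nat_lit 6,nat_lit 57,[],mk [])]⟩
def t729 : TE := ⟨nat_lit 729,nat_lit 3,nat_lit 3,[],[nat_lit 3, nat_lit 9, nat_lit 27, nat_lit 81, nat_lit 243],mk [nat_lit 3, nat_lit 9, nat_lit 27, nat_lit 81, nat_lit 243],mk [],[(nat_lit 1,nat_lit 486,[nat_lit 2, nat_lit 3, nat_lit 6, nat_lit 9, nat_lit 18, nat_lit 27, nat_lit 54, nat_lit 81, nat_lit 162, nat_lit 243],mk [nat_lit 2, nat_lit 3, nat_lit 6, nat_lit 9, nat_lit 18, nat_lit 27, nat_lit 54, nat_lit 81, nat_lit 162, nat_lit 243]),(nat_lit 2,nat_lit 243,[nat_lit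 3, nat_lit 9, nat_lit 27, nat_lit 81, nat_lit 243],mk [nat_lit 3, nat_lit 9, nat_lit 27, nat_lit 81, nat_lit 243]),(nat_lit 3,nat_lit 162,[nat_lit 2, nat_lit 3, nat_lit 6, nat_lit 9, nat_lit 18, nat_lit 27, nat_lit 54, nat_lit 81, nat_lit 162],mk [nat_lit 2, nat_lit 3, nat_lit 6, nat_lit 9, nat_lit 18, nat_lit 27, nat_lit 54, nat_lit 81, nat_lit 162]),(nat_lit 6,nat_lit 81,[nat_lit 3, nat_lit 9, nat_lit 27, nat_lit 81],mk [nat_lit 3, nat_lit 9, nat_lit 27, nat_lit 81])]⟩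
def t841 : TE := ⟨nat_lit 841,nat_lit 29,nat_lit 29,[],[nat_lit 29],mk [nat_lit 29],mk [],[(nat_lit 1,nat_lit 812,[nat_lit 2, nat_lit 4, nat_lit 7, nat_lit 14, nat_lit 28, nat_lit 29, nat_lit 58, nat_lit 116, nat_lit 203, nat_lit 406],mk [nat_lit 2, nat_lit 4, nat_lit 7, nat_lit 14, nat_lit 28, nat_lit 29, nat_lit 58, nat_lit 116, nat_lit 203, nat_lit 406]),(nat_lit 2,nat_lit 406,[nat_lit 2, nat_lit 7, nat_lit 14, nat_lit 29, nat_lit 58, nat_lit 203, nat_lit 406],mk [nat_lit 2, nat_lit 7, nat_lit 14, nat_lit 29, nat_lit 58, nat_lit 203, nat_lit 406]),(nat_lit 4,nat_lit 203,[nat_lit 7, nat_lit 29, nat_lit 203],mk [nat_lit 7, nat_lit 29, nat_lit 203]),(nat_lit 7,nat_lit 116,[nat_lit 2, nat_lit 4, nat_lit 29, nat_lit 58, nat_lit 116],mk [nat_lit 2, nat_lit 4, nat_lit 29, nat_lit 58, nat_lit 116])]⟩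
def t961 : TE := ⟨nat_lit 961,nat_lit 31,nat_lit 31,[],[nat_lit 31],mk [nat_lit 31],mk [],[(nat_lit 1,nat_lit 930,[nat_lit 2, nat_lit 3, nat_lit 5, nat_lit 6, nat_lit 10, nat_lit 15, nat_lit 30, nat_lit 31, nat_lit 62, nat_lit 93],mk [nat_lit 2, nat_lit 3, nat_lit 5, nat_lit 6, nat_lit 10, nat_lit 15, nat_lit 30, nat_lit 31, nat_lit 62, nat_lit 93]),(nat_lit 2,nat_lit 465,[nat_lit 3, nat_lit 5, nat_lit 15, nat_lit 31, nat_lit 93, nat_lit 155, nat_lit 465],mk [nat_lit 3, nat_lit 5, nat_lit 15, nat_lit 31, nat_lit 93, nat_lit 155, nat_lit 465]),(nat_lit 3,nat_lit 310,[nat_lit 2, nat_lit 5, nat_lit 10, nat_lit 31, nat_lit 62, nat_lit 155, nat_lit 310],mk [nat_lit 2, nat_lit 5, nat_lit 10, nat_lit 31, nat_lit 62, nat_lit 155, nat_lit 310]),(nat_lit 5,nat_lit 186,[nat_lit 2, nat_lit 3, nat_lit 6, nat_lit 31, nat_lit 62, nat_lit 93, nat_lit 186],mk [nat_lit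 2, nat_lit 3, nat_lit 6, nat_lit 31, nat_lit 62, nat_lit 93, nat_lit 186]),(nat_lit 6,nat_lit 155,[nat_lit 5, nat_lit 31, nat_lit 155],mk [nat_lit 5, nat_lit 31, nat_lit 155])]⟩
def t1083 : TE := ⟨nat_lit 1083,nat_lit 0,nat_lit 3,[nat_lit 19],[nat_lit 3, nat_lit 19, nat_lit 57, nat_lit 361],mk [nat_lit 3, nat_lit 19, nat_lit 57, nat_lit 361],mk [nat_lit 361],[(nat_lit 1,nat_lit 684,[],mk []),(nat_lit 2,nat_lit 342,[],mk []),(nat_lit 3,nat_lit 228,[],mk []),(nat_lit 4,nat_lit 171,[],mk []),(nat_lit 6,nat_lit 114,[],mk [])]⟩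
def t1255 : TE := ⟨nat_lit 1255,nat_lit 0,nat_lit 5,[nat_lit 251],[nat_lit 5, nat_lit 251],mk [nat_lit 5, nat_lit 251],mk [nat_lit 251, nat_lit 5],[(nat_lit 1,nat_lit 1000,[],mk []),(nat_lit 2,nat_lit 500,[],mk []),(nat_lit 4,nat_lit 250,[],mk []),(nat_lit 5,nat_lit 200,[],mk []),(nat_lit 8,nat_lit 125,[],mk [])]⟩
def t1331 : TE := ⟨nat_lit 1331,nat_lit 11,nat_lit 11,[],[nat_lit 11, nat_lit 121],mk [nat_lit 11, nat_lit 121],mk [],[(nat_lit 1,nat_lit 1210,[nat_lit 2, nat_lit 5, nat_lit 10, nat_lit 11, nat_lit 22, nat_lit 55, nat_lit 110, nat_lit 121, nat_lit 242, nat_lit 605],mk [nat_lit 2, nat_lit 5, nat_lit 10, nat_lit 11, nat_lit 22, nat_lit 55, nat_lit 110, nat_lit 121, nat_lit 242, nat_lit 605]),(nat_lit 2,nat_lit 605,[nat_lit 5, nat_lit 11, nat_lit 55, nat_lit 121, nat_lit 605],mk [nat_lit 5, nat_lit 11, nat_lit 55, nat_lit 121, nat_lit 605]),(nat_lit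 5,nat_lit 242,[nat_lit 2, nat_lit 11, nat_lit 22, nat_lit 121, nat_lit 242],mk [nat_lit 2, nat_lit 11, nat_lit 22, nat_lit 121, nat_lit 242])]⟩
def t1369 : TE := ⟨nat_lit 1369,nat_lit 37,nat_lit 37,[],[nat_lit 37],mk [nat_lit 37],mk [],[(nat_lit 1,nat_lit 1332,[nat_lit 2, nat_lit 3, nat_lit 4, nat_lit 6, nat_lit 9, nat_lit 12, nat_lit 18, nat_lit 36, nat_lit 37, nat_lit 74],mk [nat_lit 2, nat_lit 3, nat_lit 4, nat_lit 6, nat_lit 9, nat_lit 12, nat_lit 18, nat_lit 36, nat_lit 37, nat_lit 74]),(nat_lit 2,nat_lit 666,[nat_lit 2, nat_lit 3, nat_lit 6, nat_lit 9, nat_lit 18, nat_lit 37, nat_lit 74, nat_lit 111, nat_lit 222, nat_lit 333],mk [nat_lit 2, nat_lit 3, nat_lit 6, nat_lit 9, nat_lit 18, nat_lit 37, nat_lit 74, nat_lit 111, nat_lit 222, nat_lit 333]),(nat_lit 3,nat_lit 444,[nat_lit 2, nat_lit 3, nat_lit 4, nat_lit 6, nat_lit 12, nat_lit 37, nat_lit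 74, nat_lit 111, nat_lit 148, nat_lit 222],mk [nat_lit 2, nat_lit 3, nat_lit 4, nat_lit 6, nat_lit 12, nat_lit 37, nat_lit 74, nat_lit 111, nat_lit 148, nat_lit 222]),(nat_lit 4,nat_lit 333,[nat_lit 3, nat_lit 9, nat_lit 37, nat_lit 111, nat_lit 333],mk [nat_lit 3, nat_lit 9, nat_lit 37, nat_lit 111, nat_lit 333]),(nat_lit 6,nat_lit 222,[nat_lit 2, nat_lit 3, nat_lit 6, nat_lit 37, nat_lit 74, nat_lit 111, nat_lit 222],mk [nat_lit 2, nat_lit 3, nat_lit 6, nat_lit 37, nat_lit 74, nat_lit 111, nat_lit 222])]⟩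
def t1681 : TE := ⟨nat_lit 1681,nat_lit 41,nat_lit 41,[],[nat_lit 41],mk [nat_lit 41],mk [],[(nat_lit 1,nat_lit 1640,[nat_lit 2, nat_lit 4, nat_lit 5, nat_lit 8, nat_lit 10, nat_lit 20, nat_lit 40, nat_lit 41, nat_lit 82, nat_lit 164],mk [nat_lit 2, nat_lit 4, nat_lit 5, nat_lit 8, nat_lit 10, nat_lit 20, nat_lit 40, nat_lit 41, nat_lit 82, nat_lit 164]),(nat_lit 2,nat_lit 820,[nat_lit 2, nat_lit 4, nat_lit 5, nat_lit 10, nat_lit 20, nat_lit 41, nat_lit 82, nat_lit 164, nat_lit 205, nat_lit 410],mk [nat_lit 2, nat_lit 4, nat_lit 5, nat_lit 10, nat_lit 20, nat_lit 41, nat_lit 82, nat_lit 164, nat_lit 205, nat_lit 410]),(nat_lit 4,nat_lit 410,[nat_lit 2, nat_lit 5, nat_lit 10, nat_lit 41, nat_lit 82, nat_lit 205, nat_lit 410],mk [nat_lit 2, nat_lit 5, nat_lit 10, nat_lit 41, nat_lit 82, nat_lit 205, nat_lit 410]),(nat_lit 5,nat_lit 328,[nat_lit 2, nat_lit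 4, nat_lit 8, nat_lit 41, nat_lit 82, nat_lit 164, nat_lit 328],mk [nat_lit 2, nat_lit 4, nat_lit 8, nat_lit 41, nat_lit 82, nat_lit 164, nat_lit 328]),(nat_lit 8,nat_lit 205,[nat_lit 5, nat_lit 41, nat_lit 205],mk [nat_lit 5, nat_lit 41, nat_lit 205])]⟩
def t1849 : TE := ⟨nat_lit 1849,nat_lit 43,nat_lit 43,[],[nat_lit 43],mk [nat_lit 43],mk [],[(nat_lit 1,nat_lit 1806,[nat_lit 2, nat_lit 3, nat_lit 6, nat_lit 7, nat_lit 14, nat_lit 21, nat_lit 42, nat_lit 43, nat_lit 86, nat_lit 129],mk [nat_lit 2, nat_lit 3, nat_lit 6, nat_lit 7, nat_lit 14, nat_lit 21, nat_lit 42, nat_lit 43, nat_lit 86, nat_lit 129]),(nat_lit 2,nat_lit 903,[nat_lit 3, nat_lit 7, nat_lit 21, nat_lit 43, nat_lit 129, nat_lit 301, nat_lit 903],mk [nat_lit 3, nat_lit 7, nat_lit 21, nat_lit 43, nat_lit 129, nat_lit 301, nat_lit 903]),(nat_lit 3,nat_lit 602,[nat_lit 2, nat_lit 7, nat_lit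 14, nat_lit 43, nat_lit 86, nat_lit 301, nat_lit 602],mk [nat_lit 2, nat_lit 7, nat_lit 14, nat_lit 43, nat_lit 86, nat_lit 301, nat_lit 602]),(nat_lit 6,nat_lit 301,[nat_lit 7, nat_lit 43, nat_lit 301],mk [nat_lit 7, nat_lit 43, nat_lit 301]),(nat_lit 7,nat_lit 258,[nat_lit 2, nat_lit 3, nat_lit 6, nat_lit 43, nat_lit 86, nat_lit 129, nat_lit 258],mk [nat_lit 2, nat_lit 3, nat_lit 6, nat_lit 43, nat_lit 86, nat_lit 129, nat_lit 258])]⟩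
def t2187 : TE := ⟨nat_lit 2187,nat_lit 3,nat_lit 3,[],[nat_lit 3, nat_lit 9, nat_lit 27, nat_lit 81, nat_lit 243, nat_lit 729],mk [nat_lit 3, nat_lit 9, nat_lit 27, nat_lit 81, nat_lit 243, nat_lit 729],mk [],[(nat_lit 1,nat_lit 1458,[nat_lit 2, nat_lit 3, nat_lit 6, nat_lit 9, nat_lit 18, nat_lit 27, nat_lit 54, nat_lit 81, nat_lit 162, nat_lit 243],mk [nat_lit 2, nat_lit 3, nat_lit 6, nat_lit 9, nat_lit 18, nat_lit 27, nat_lit 54, nat_lit 81, nat_lit 162, nat_lit 243]),(nat_lit 2,nat_lit 729,[nat_lit 3, nat_lit 9, nat_lit 27, nat_lit 81, nat_lit 243, nat_lit 729],mk [nat_lit 3, nat_lit 9, nat_lit 27, nat_lit 81, nat_lit 243, nat_lit 729]),(nat_lit 3,nat_lit 486,[nat_lit 2, nat_lit 3, nat_lit 6, nat_lit 9, nat_lit 18, nat_lit 27, nat_lit 54, nat_lit 81, nat_lit 162, nat_lit 243],mk [nat_lit 2, nat_lit 3, nat_lit 6, nat_lit 9, nat_lit 18, nat_lit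 27, nat_lit 54, nat_lit 81, nat_lit 162, nat_lit 243]),(nat_lit 6,nat_lit 243,[nat_lit 3, nat_lit 9, nat_lit 27, nat_lit 81, nat_lit 243],mk [nat_lit 3, nat_lit 9, nat_lit 27, nat_lit 81, nat_lit 243])]⟩
def t2197 : TE := ⟨nat_lit 2197,nat_lit 13,nat_lit 13,[],[nat_lit 13, nat_lit 169],mk [nat_lit 13, nat_lit 169],mk [],[(nat_lit 1,nat_lit 2028,[nat_lit 2, nat_lit 3, nat_lit 4, nat_lit 6, nat_lit 12, nat_lit 13, nat_lit 26, nat_lit 39, nat_lit 52, nat_lit 78],mk [nat_lit 2, nat_lit 3, nat_lit 4, nat_lit 6, nat_lit 12, nat_lit 13, nat_lit 26, nat_lit 39, nat_lit 52, nat_lit 78]),(nat_lit 2,nat_lit 1014,[nat_lit 2, nat_lit 3, nat_lit 6, nat_lit 13, nat_lit 26, nat_lit 39, nat_lit 78, nat_lit 169, nat_lit 338, nat_lit 507],mk [nat_lit 2, nat_lit 3, nat_lit 6, nat_lit 13, nat_lit 26, nat_lit 39, nat_lit 78, nat_lit 169, nat_lit 338, nat_lit 507]),(nat_lit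 3,nat_lit 676,[nat_lit 2, nat_lit 4, nat_lit 13, nat_lit 26, nat_lit 52, nat_lit 169, nat_lit 338, nat_lit 676],mk [nat_lit 2, nat_lit 4, nat_lit 13, nat_lit 26, nat_lit 52, nat_lit 169, nat_lit 338, nat_lit 676]),(nat_lit 4,nat_lit 507,[nat_lit 3, nat_lit 13, nat_lit 39, nat_lit 169, nat_lit 507],mk [nat_lit 3, nat_lit 13, nat_lit 39, nat_lit 169, nat_lit 507]),(nat_lit 6,nat_lit 338,[nat_lit 2, nat_lit 13, nat_lit 26, nat_lit 169, nat_lit 338],mk [nat_lit 2, nat_lit 13, nat_lit 26, nat_lit 169, nat_lit 338])]⟩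
def t2401 : TE := ⟨nat_lit 2401,nat_lit 7,nat_lit 7,[],[nat_lit 7, nat_lit 49, nat_lit 343],mk [nat_lit 7, nat_lit 49, nat_lit 343],mk [],[(nat_lit 1,nat_lit 2058,[nat_lit 2, nat_lit 3, nat_lit 6, nat_lit 7, nat_lit 14, nat_lit 21, nat_lit 42, nat_lit 49, nat_lit 98, nat_lit 147],mk [nat_lit 2, nat_lit 3, nat_lit 6, nat_lit 7, nat_lit 14, nat_lit 21, nat_lit 42, nat_lit 49, nat_lit 98, nat_lit 147]),(nat_lit 2,nat_lit 1029,[nat_lit 3, nat_lit 7, nat_lit 21, nat_lit 49, nat_lit 147, nat_lit 343, nat_lit 1029],mk [nat_lit 3, nat_lit 7, nat_lit 21, nat_lit 49, nat_lit 147, nat_lit 343, nat_lit 1029]),(nat_lit 3,nat_lit 686,[nat_lit 2, nat_lit 7, nat_lit 14, nat_lit 49, nat_lit 98, nat_lit 343, nat_lit 686],mk [nat_lit 2, nat_lit 7, nat_lit 14, nat_lit 49, nat_lit 98, nat_lit 343, nat_lit 686]),(nat_lit 6,nat_lit 343,[nat_lit 7, nat_lit 49, nat_lit 343],mk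 [nat_lit 7, nat_lit 49, nat_lit 343]),(nat_lit 7,nat_lit 294,[nat_lit 2, nat_lit 3, nat_lit 6, nat_lit 7, nat_lit 14, nat_lit 21, nat_lit 42, nat_lit 49, nat_lit 98, nat_lit 147],mk [nat_lit 2, nat_lit 3, nat_lit 6, nat_lit 7, nat_lit 14, nat_lit 21, nat_lit 42, nat_lit 49, nat_lit 98, nat_lit 147])]⟩
def t3125 : TE := ⟨nat_lit 3125,nat_lit 5,nat_lit 5,[],[nat_lit 5, nat_lit 25, nat_lit 125, nat_lit 625],mk [nat_lit 5, nat_lit 25, nat_lit 125, nat_lit 625],mk [],[(nat_lit 1,nat_lit 2500,[nat_lit 2, nat_lit 4, nat_lit 5, nat_lit 10, nat_lit 20, nat_lit 25, nat_lit 50, nat_lit 100, nat_lit 125, nat_lit 250],mk [nat_lit 2, nat_lit 4, nat_lit 5, nat_lit 10, nat_lit 20, nat_lit 25, nat_lit 50, nat_lit 100, nat_lit 125, nat_lit 250]),(nat_lit 2,nat_lit 1250,[nat_lit 2, nat_lit 5, nat_lit 10, nat_lit 25, nat_lit 50, nat_lit 125, nat_lit 250, nat_lit 625,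 nat_lit 1250],mk [nat_lit 2, nat_lit 5, nat_lit 10, nat_lit 25, nat_lit 50, nat_lit 125, nat_lit 250, nat_lit 625, nat_lit 1250]),(nat_lit 4,nat_lit 625,[nat_lit 5, nat_lit 25, nat_lit 125, nat_lit 625],mk [nat_lit 5, nat_lit 25, nat_lit 125, nat_lit 625]),(nat_lit 5,nat_lit 500,[nat_lit 2, nat_lit 4, nat_lit 5, nat_lit 10, nat_lit 20, nat_lit 25, nat_lit 50, nat_lit 100, nat_lit 125, nat_lit 250],mk [nat_lit 2, nat_lit 4, nat_lit 5, nat_lit 10, nat_lit 20, nat_lit 25, nat_lit 50, nat_lit 100, nat_lit 125, nat_lit 250])]⟩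
def t4913 : TE := ⟨nat_lit 4913,nat_lit 17,nat_lit 17,[],[nat_lit 17, nat_lit 289],mk [nat_lit 17, nat_lit 289],mk [],[(nat_lit 1,nat_lit 4624,[nat_lit 2, nat_lit 4, nat_lit 8, nat_lit 16, nat_lit 17, nat_lit 34, nat_lit 68, nat_lit 136, nat_lit 272, nat_lit 289],mk [nat_lit 2, nat_lit 4, nat_lit 8, nat_lit 16, nat_lit 17, nat_lit 34, nat_lit 68, nat_lit 136, nat_lit 272, nat_lit 289]),(nat_lit 2,nat_lit 2312,[nat_lit 2, nat_lit 4, nat_lit 8, nat_lit 17, nat_lit 34, nat_lit 68, nat_lit 136, nat_lit 289, nat_lit 578, nat_lit 1156],mk [nat_lit 2, nat_lit 4, nat_lit 8, nat_lit 17, nat_lit 34, nat_lit 68, nat_lit 136, nat_lit 289, nat_lit 578, nat_lit 1156]),(nat_lit 4,nat_lit 1156,[nat_lit 2, nat_lit 4, nat_lit 17, nat_lit 34, nat_lit 68, nat_lit 289, nat_lit 578, nat_lit 1156],mk [nat_lit 2, nat_lit 4, nat_lit 17, nat_lit 34, nat_lit 68, nat_lit 289,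 nat_lit 578, nat_lit 1156]),(nat_lit 8,nat_lit 578,[nat_lit 2, nat_lit 17, nat_lit 34, nat_lit 289, nat_lit 578],mk [nat_lit 2, nat_lit 17, nat_lit 34, nat_lit 289, nat_lit 578])]⟩
def t6859 : TE := ⟨nat_lit 6859,nat_lit 19,nat_lit 19,[],[nat_lit 19, nat_lit 361],mk [nat_lit 19, nat_lit 361],mk [],[(nat_lit 1,nat_lit 6498,[nat_lit 2, nat_lit 3, nat_lit 6, nat_lit 9, nat_lit 18, nat_lit 19, nat_lit 38, nat_lit 57, nat_lit 114, nat_lit 171],mk [nat_lit 2, nat_lit 3, nat_lit 6, nat_lit 9, nat_lit 18, nat_lit 19, nat_lit 38, nat_lit 57, nat_lit 114, nat_lit 171]),(nat_lit 2,nat_lit 3249,[nat_lit 3, nat_lit 9, nat_lit 19, nat_lit 57, nat_lit 171, nat_lit 361, nat_lit 1083, nat_lit 3249],mk [nat_lit 3, nat_lit 9, nat_lit 19, nat_lit 57, nat_lit 171, nat_lit 361, nat_lit 1083, nat_lit 3249]),(nat_lit 3,nat_lit 2166,[nat_lit 2, nat_lit 3, nat_lit 6, nat_lit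 19, nat_lit 38, nat_lit 57, nat_lit 114, nat_lit 361, nat_lit 722, nat_lit 1083],mk [nat_lit 2, nat_lit 3, nat_lit 6, nat_lit 19, nat_lit 38, nat_lit 57, nat_lit 114, nat_lit 361, nat_lit 722, nat_lit 1083]),(nat_lit 6,nat_lit 1083,[nat_lit 3, nat_lit 19, nat_lit 57, nat_lit 361, nat_lit 1083],mk [nat_lit 3, nat_lit 19, nat_lit 57, nat_lit 361, nat_lit 1083])]⟩
def t14641 : TE := ⟨nat_lit 14641,nat_lit 11,nat_lit 11,[],[nat_lit 11, nat_lit 121, nat_lit 1331],mk [nat_lit 11, nat_lit 121, nat_lit 1331],mk [],[(nat_lit 1,nat_lit 13310,[nat_lit 2, nat_lit 5, nat_lit 10, nat_lit 11, nat_lit 22, nat_lit 55, nat_lit 110, nat_lit 121, nat_lit 242, nat_lit 605],mk [nat_lit 2, nat_lit 5, nat_lit 10, nat_lit 11, nat_lit 22, nat_lit 55, nat_lit 110, nat_lit 121, nat_lit 242, nat_lit 605]),(nat_lit 2,nat_lit 6655,[nat_lit 5, nat_lit 11, nat_lit 55, nat_lit 121,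 nat_lit 605, nat_lit 1331, nat_lit 6655],mk [nat_lit 5, nat_lit 11, nat_lit 55, nat_lit 121, nat_lit 605, nat_lit 1331, nat_lit 6655]),(nat_lit 5,nat_lit 2662,[nat_lit 2, nat_lit 11, nat_lit 22, nat_lit 121, nat_lit 242, nat_lit 1331, nat_lit 2662],mk [nat_lit 2, nat_lit 11, nat_lit 22, nat_lit 121, nat_lit 242, nat_lit 1331, nat_lit 2662])]⟩
def t15625 : TE := ⟨nat_lit 15625,nat_lit 5,nat_lit 5,[],[nat_lit 5, nat_lit 25, nat_lit 125, nat_lit 625, nat_lit 3125],mk [nat_lit 5, nat_lit 25, nat_lit 125, nat_lit 625, nat_lit 3125],mk [],[(nat_lit 1,nat_lit 12500,[nat_lit 2, nat_lit 4, nat_lit 5, nat_lit 10, nat_lit 20, nat_lit 25, nat_lit 50, nat_lit 100, nat_lit 125, nat_lit 250],mk [nat_lit 2, nat_lit 4, nat_lit 5, nat_lit 10, nat_lit 20, nat_lit 25, nat_lit 50, nat_lit 100, nat_lit 125, nat_lit 250]),(nat_lit 2,nat_lit 6250,[nat_lit 2, nat_lit 5, nat_lit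 10, nat_lit 25, nat_lit 50, nat_lit 125, nat_lit 250, nat_lit 625, nat_lit 1250, nat_lit 3125],mk [nat_lit 2, nat_lit 5, nat_lit 10, nat_lit 25, nat_lit 50, nat_lit 125, nat_lit 250, nat_lit 625, nat_lit 1250, nat_lit 3125]),(nat_lit 4,nat_lit 3125,[nat_lit 5, nat_lit 25, nat_lit 125, nat_lit 625, nat_lit 3125],mk [nat_lit 5, nat_lit 25, nat_lit 125, nat_lit 625, nat_lit 3125]),(nat_lit 5,nat_lit 2500,[nat_lit 2, nat_lit 4, nat_lit 5, nat_lit 10, nat_lit 20, nat_lit 25, nat_lit 50, nat_lit 100, nat_lit 125, nat_lit 250],mk [nat_lit 2, nat_lit 4, nat_lit 5, nat_lit 10, nat_lit 20, nat_lit 25, nat_lit 50, nat_lit 100, nat_lit 125, nat_lit 250])]⟩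
def t16807 : TE := ⟨nat_lit 16807,nat_lit 7,nat_lit 7,[],[nat_lit 7, nat_lit 49, nat_lit 343, nat_lit 2401],mk [nat_lit 7, nat_lit 49, nat_lit 343, nat_lit 2401],mk [],[(nat_lit 1,nat_lit 14406,[nat_lit 2, nat_lit 3, nat_lit 6, nat_lit 7, nat_lit 14, nat_lit 21, nat_lit 42, nat_lit 49, nat_lit 98, nat_lit 147],mk [nat_lit 2, nat_lit 3, nat_lit 6, nat_lit 7, nat_lit 14, nat_lit 21, nat_lit 42, nat_lit 49, nat_lit 98, nat_lit 147]),(nat_lit 2,nat_lit 7203,[nat_lit 3, nat_lit 7, nat_lit 21, nat_lit 49, nat_lit 147, nat_lit 343, nat_lit 1029, nat_lit 2401, nat_lit 7203],mk [nat_lit 3, nat_lit 7, nat_lit 21, nat_lit 49, nat_lit 147, nat_lit 343, nat_lit 1029, nat_lit 2401, nat_lit 7203]),(nat_lit 3,nat_lit 4802,[nat_lit 2, nat_lit 7, nat_lit 14, nat_lit 49, nat_lit 98, nat_lit 343, nat_lit 686, nat_lit 2401, nat_lit 4802],mk [nat_lit 2, nat_lit 7, nat_lit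 14, nat_lit 49, nat_lit 98, nat_lit 343, nat_lit 686, nat_lit 2401, nat_lit 4802]),(nat_lit 6,nat_lit 2401,[nat_lit 7, nat_lit 49, nat_lit 343, nat_lit 2401],mk [nat_lit 7, nat_lit 49, nat_lit 343, nat_lit 2401]),(nat_lit 7,nat_lit 2058,[nat_lit 2, nat_lit 3, nat_lit 6, nat_lit 7, nat_lit 14, nat_lit 21, nat_lit 42, nat_lit 49, nat_lit 98, nat_lit 147],mk [nat_lit 2, nat_lit 3, nat_lit 6, nat_lit 7, nat_lit 14, nat_lit 21, nat_lit 42, nat_lit 49, nat_lit 98, nat_lit 147])]⟩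
def t26569 : TE := ⟨nat_lit 26569,nat_lit 163,nat_lit 163,[],[nat_lit 163],mk [nat_lit 163],mk [],[(nat_lit 1,nat_lit 26406,[nat_lit 2, nat_lit 3, nat_lit 6, nat_lit 9, nat_lit 18, nat_lit 27, nat_lit 54, nat_lit 81, nat_lit 162, nat_lit 163],mk [nat_lit 2, nat_lit 3, nat_lit 6, nat_lit 9, nat_lit 18, nat_lit 27, nat_lit 54, nat_lit 81, nat_lit 162, nat_lit 163]),(nat_lit 2,nat_lit 13203,[nat_lit 3, nat_lit 9, nat_lit 27, nat_lit 81, nat_lit 163, nat_lit 489, nat_lit 1467, nat_lit 4401, nat_lit 13203],mk [nat_lit 3, nat_lit 9, nat_lit 27, nat_lit 81, nat_lit 163, nat_lit 489, nat_lit 1467, nat_lit 4401, nat_lit 13203]),(nat_lit 3,nat_lit 8802,[nat_lit 2, nat_lit 3, nat_lit 6, nat_lit 9, nat_lit 18, nat_lit 27, nat_lit 54, nat_lit 163, nat_lit 326, nat_lit 489],mk [nat_lit 2, nat_lit 3, nat_lit 6, nat_lit 9, nat_lit 18, nat_lit 27, nat_lit 54, nat_lit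 163, nat_lit 326, nat_lit 489]),(nat_lit 6,nat_lit 4401,[nat_lit 3, nat_lit 9, nat_lit 27, nat_lit 163, nat_lit 489, nat_lit 1467, nat_lit 4401],mk [nat_lit 3, nat_lit 9, nat_lit 27, nat_lit 163, nat_lit 489, nat_lit 1467, nat_lit 4401])]⟩
def t28561 : TE := ⟨nat_lit 28561,nat_lit 13,nat_lit 13,[],[nat_lit 13, nat_lit 169, nat_lit 2197],mk [nat_lit 13, nat_lit 169, nat_lit 2197],mk [],[(nat_lit 1,nat_lit 26364,[nat_lit 2, nat_lit 3, nat_lit 4, nat_lit 6, nat_lit 12, nat_lit 13, nat_lit 26, nat_lit 39, nat_lit 52, nat_lit 78],mk [nat_lit 2, nat_lit 3, nat_lit 4, nat_lit 6, nat_lit 12, nat_lit 13, nat_lit 26, nat_lit 39, nat_lit 52, nat_lit 78]),(nat_lit 2,nat_lit 13182,[nat_lit 2, nat_lit 3, nat_lit 6, nat_lit 13, nat_lit 26, nat_lit 39, nat_lit 78, nat_lit 169, nat_lit 338, nat_lit 507],mk [nat_lit 2, nat_lit 3, nat_lit 6, nat_lit 13, nat_lit 26,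 nat_lit 39, nat_lit 78, nat_lit 169, nat_lit 338, nat_lit 507]),(nat_lit 3,nat_lit 8788,[nat_lit 2, nat_lit 4, nat_lit 13, nat_lit 26, nat_lit 52, nat_lit 169, nat_lit 338, nat_lit 676, nat_lit 2197, nat_lit 4394],mk [nat_lit 2, nat_lit 4, nat_lit 13, nat_lit 26, nat_lit 52, nat_lit 169, nat_lit 338, nat_lit 676, nat_lit 2197, nat_lit 4394]),(nat_lit 4,nat_lit 6591,[nat_lit 3, nat_lit 13, nat_lit 39, nat_lit 169, nat_lit 507, nat_lit 2197, nat_lit 6591],mk [nat_lit 3, nat_lit 13, nat_lit 39, nat_lit 169, nat_lit 507, nat_lit 2197, nat_lit 6591]),(nat_lit 6,nat_lit 4394,[nat_lit 2, nat_lit 13, nat_lit 26, nat_lit 169, nat_lit 338, nat_lit 2197, nat_lit 4394],mk [nat_lit 2, nat_lit 13, nat_lit 26, nat_lit 169, nat_lit 338, nat_lit 2197, nat_lit 4394])]⟩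
def t63001 : TE := ⟨nat_lit 63001,nat_lit 251,nat_lit 251,[],[nat_lit 251],mk [nat_lit 251],mk [],[(nat_lit 1,nat_lit 62750,[nat_lit 2, nat_lit 5, nat_lit 10, nat_lit 25, nat_lit 50, nat_lit 125, nat_lit 250, nat_lit 251, nat_lit 502, nat_lit 1255],mk [nat_lit 2, nat_lit 5, nat_lit 10, nat_lit 25, nat_lit 50, nat_lit 125, nat_lit 250, nat_lit 251, nat_lit 502, nat_lit 1255]),(nat_lit 2,nat_lit 31375,[nat_lit 5, nat_lit 25, nat_lit 125, nat_lit 251, nat_lit 1255, nat_lit 6275, nat_lit 31375],mk [nat_lit 5, nat_lit 25, nat_lit 125, nat_lit 251, nat_lit 1255, nat_lit 6275, nat_lit 31375]),(nat_lit 5,nat_lit 12550,[nat_lit 2, nat_lit 5, nat_lit 10, nat_lit 25, nat_lit 50, nat_lit 251, nat_lit 502, nat_lit 1255, nat_lit 2510, nat_lit 6275],mk [nat_lit 2, nat_lit 5, nat_lit 10, nat_lit 25, nat_lit 50, nat_lit 251, nat_lit 502, nat_lit 1255, nat_lit 2510,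 nat_lit 6275])]⟩
def t83521 : TE := ⟨nat_lit 83521,nat_lit 17,nat_lit 17,[],[nat_lit 17, nat_lit 289, nat_lit 4913],mk [nat_lit 17, nat_lit 289, nat_lit 4913],mk [],[(nat_lit 1,nat_lit 78608,[nat_lit 2, nat_lit 4, nat_lit 8, nat_lit 16, nat_lit 17, nat_lit 34, nat_lit 68, nat_lit 136, nat_lit 272, nat_lit 289],mk [nat_lit 2, nat_lit 4, nat_lit 8, nat_lit 16, nat_lit 17, nat_lit 34, nat_lit 68, nat_lit 136, nat_lit 272, nat_lit 289]),(nat_lit 2,nat_lit 39304,[nat_lit 2, nat_lit 4, nat_lit 8, nat_lit 17, nat_lit 34, nat_lit 68, nat_lit 136, nat_lit 289, nat_lit 578, nat_lit 1156],mk [nat_lit 2, nat_lit 4, nat_lit 8, nat_lit 17, nat_lit 34, nat_lit 68, nat_lit 136, nat_lit 289, nat_lit 578, nat_lit 1156]),(nat_lit 4,nat_lit 19652,[nat_lit 2, nat_lit 4, nat_lit 17, nat_lit 34, nat_lit 68, nat_lit 289, nat_lit 578, nat_lit 1156, nat_lit 4913, nat_lit 9826],mk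 [nat_lit 2, nat_lit 4, nat_lit 17, nat_lit 34, nat_lit 68, nat_lit 289, nat_lit 578, nat_lit 1156, nat_lit 4913, nat_lit 9826]),(nat_lit 8,nat_lit 9826,[nat_lit 2, nat_lit 17, nat_lit 34, nat_lit 289, nat_lit 578, nat_lit 4913, nat_lit 9826],mk [nat_lit 2, nat_lit 17, nat_lit 34, nat_lit 289, nat_lit 578, nat_lit 4913, nat_lit 9826])]⟩
def t130321 : TE := ⟨nat_lit 130321,nat_lit 19,nat_lit 19,[],[nat_lit 19, nat_lit 361, nat_lit 6859],mk [nat_lit 19, nat_lit 361, nat_lit 6859],mk [],[(nat_lit 1,nat_lit 123462,[nat_lit 2, nat_lit 3, nat_lit 6, nat_lit 9, nat_lit 18, nat_lit 19, nat_lit 38, nat_lit 57, nat_lit 114, nat_lit 171],mk [nat_lit 2, nat_lit 3, nat_lit 6, nat_lit 9, nat_lit 18, nat_lit 19, nat_lit 38, nat_lit 57, nat_lit 114, nat_lit 171]),(nat_lit 2,nat_lit 61731,[nat_lit 3, nat_lit 9, nat_lit 19, nat_lit 57, nat_lit 171, nat_lit 361, nat_lit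 1083, nat_lit 3249, nat_lit 6859, nat_lit 20577],mk [nat_lit 3, nat_lit 9, nat_lit 19, nat_lit 57, nat_lit 171, nat_lit 361, nat_lit 1083, nat_lit 3249, nat_lit 6859, nat_lit 20577]),(nat_lit 3,nat_lit 41154,[nat_lit 2, nat_lit 3, nat_lit 6, nat_lit 19, nat_lit 38, nat_lit 57, nat_lit 114, nat_lit 361, nat_lit 722, nat_lit 1083],mk [nat_lit 2, nat_lit 3, nat_lit 6, nat_lit 19, nat_lit 38, nat_lit 57, nat_lit 114, nat_lit 361, nat_lit 722, nat_lit 1083]),(nat_lit 6,nat_lit 20577,[nat_lit 3, nat_lit 19, nat_lit 57, nat_lit 361, nat_lit 1083, nat_lit 6859, nat_lit 20577],mk [nat_lit 3, nat_lit 19, nat_lit 57, nat_lit 361, nat_lit 1083, nat_lit 6859, nat_lit 20577])]⟩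
def OL : List ℕ := [nat_lit 2, nat_lit 3, nat_lit 4, nat_lit 5, nat_lit 6, nat_lit 7, nat_lit 8, nat_lit 9, nat_lit 10, nat_lit 11, nat_lit 12, nat_lit 13, nat_lit 14, nat_lit 15, nat_lit 16, nat_lit 17, nat_lit 18, nat_lit 19, nat_lit 20, nat_lit 21, nat_lit 22, nat_lit 23, nat_lit 24, nat_lit 25, nat_lit 26, nat_lit 27, nat_lit 28, nat_lit 29, nat_lit 30, nat_lit 31, nat_lit 32, nat_lit 33, nat_lit 34, nat_lit 35, nat_lit 36, nat_lit 37, nat_lit 38, nat_lit 39, nat_lit 40, nat_lit 41, nat_lit 42, nat_lit 43, nat_lit 44, nat_lit 45, nat_lit 46, nat_lit 49, nat_lit 50, nat_lit 51, nat_lit 52, nat_lit 53, nat_lit 54, nat_lit 55, nat_lit 57, nat_lit 58, nat_lit 61, nat_lit 62, nat_lit 63, nat_lit 64, nat_lit 65, nat_lit 68, nat_lit 74, nat_lit 75, nat_lit 76, nat_lit 78, nat_lit 79, nat_lit 81, nat_lit 82, nat_lit 85, nat_lit 86, nat_lit 87, nat_lit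 91, nat_lit 93, nat_lit 95, nat_lit 97, nat_lit 98, nat_lit 100, nat_lit 101, nat_lit 109, nat_lit 110, nat_lit 111, nat_lit 115, nat_lit 117, nat_lit 121, nat_lit 125, nat_lit 128, nat_lit 129, nat_lit 133, nat_lit 136, nat_lit 147, nat_lit 155, nat_lit 163, nat_lit 169, nat_lit 171, nat_lit 203, nat_lit 205, nat_lit 242, nat_lit 243, nat_lit 250, nat_lit 251, nat_lit 253, nat_lit 256, nat_lit 275, nat_lit 289, nat_lit 301, nat_lit 326, nat_lit 338, nat_lit 343, nat_lit 361, nat_lit 487, nat_lit 489, nat_lit 502, nat_lit 507, nat_lit 529, nat_lit 578, nat_lit 605, nat_lit 625, nat_lit 722, nat_lit 729, nat_lit 841, nat_lit 961, nat_lit 1083, nat_lit 1255, nat_lit 1331, nat_lit 1369, nat_lit 1681, nat_lit 1849, nat_lit 2187, nat_lit 2197, nat_lit 2401, nat_lit 3125, nat_lit 4913, nat_lit 6859, nat_lit 14641, nat_lit 15625, nat_lit 16807, nat_lit 26569,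 nat_lit 28561, nat_lit 63001, nat_lit 83521, nat_lit 130321]
def l0 : List TE := []
def l1 : List TE := [t2, t3, t5, t7, t11, t13, t17, t19, t23, t29, t31, t37, t41, t43, t53, t61, t79, t97, t101, t109, t163, t251, t487]
def l2 : List TE := [t2, t3, t4, t5, t7, t9, t11, t13, t17, t19, t23, t25, t29, t31, t37, t41, t43, t49, t53, t61, t79, t97, t101, t109, t121, t163, t169, t251, t289, t361, t487, t529, t841, t961, t1369, t1681, t1849, t26569, t63001]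
def l3 : List TE := [t2, t3, t4, t5, t6, t7, t8, t9, t10, t11, t13, t14, t15, t17, t19, t21, t22, t23, t25, t26, t27, t29, t31, t33, t34, t35, t37, t38, t39, t41, t43, t46, t49, t51, t53, t55, t57, t58, t61, t62, t65, t74, t79, t82, t85, t86, t87, t91, t93, t95, t97, t101, t109, t111, t115, t121, t125, t129, t133, t155, t163, t169, t203, t205, t251, t253, t289, t301, t326, t343, t361, t487, t489, t502, t529, t841, t961, t1255, t1331, t1369, t1681, t1849, t2197, t4913, t6859, t26569, t63001]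
def l4 : List TE := [t2, t3, t4, t5, t6, t7, t8, t9, t10, t11, t13, t14, t15, t16, t17, t19, t21, t22, t23, t25, t26, t27, t29, t31, t33, t34, t35, t37, t38, t39, t41, t43, t46, t49, t51, t53, t55, t57, t58, t61, t62, t65, t74, t79, t81, t82, t85, t86, t87, t91, t93, t95, t97, t101, t109, t111, t115, t121, t125, t129, t133, t155, t163, t169, t203, t205, t251, t253, t289, t301, t326, t343, t361, t487, t489, t502, t529, t625, t841, t961, t1255, t1331, t1369, t1681, t1849, t2197, t2401, t4913, t6859, t14641, t26569, t28561, t63001, t83521, t130321]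
def l5 : List TE := [t2, t3, t4, t5, t6, t7, t8, t9, t10, t11, t12, t13, t14, t15, t16, t17, t18, t19, t20, t21, t22, t23, t25, t26, t27, t28, t29, t31, t32, t33, t34, t35, t37, t38, t39, t41, t43, t44, t45, t46, t49, t50, t51, t52, t53, t55, t57, t58, t61, t62, t63, t65, t68, t74, t75, t76, t79, t81, t82, t85, t86, t87, t91, t93, t95, t97, t98, t101, t109, t111, t115, t117, t121, t125, t129, t133, t147, t155, t163, t169, t171, t203, t205, t242, t243, t251, t253, t275, t289, t301, t326, t338, t343, t361, t487, t489, t502, t507, t529, t578, t605, t625, t722, t841, t961, t1083, t1255, t1331, t1369, t1681, t1849, t2197, t2401, t3125, t4913, t6859, t14641, t16807, t26569, t28561, t63001, t83521, t130321]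
def l6 : List TE := [t2, t3, t4, t5, t6, t7, t8, t9, t10, t11, t12, t13, t14, t15, t16, t17, t18, t19, t20, t21, t22, t23, t25, t26, t27, t28, t29, t31, t32, t33, t34, t35, t37, t38, t39, t41, t43, t44, t45, t46, t49, t50, t51, t52, t53, t55, t57, t58, t61, t62, t63, t64, t65, t68, t74, t75, t76, t79, t81, t82, t85, t86, t87, t91, t93, t95, t97, t98, t101, t109, t111, t115, t117, t121, t125, t129, t133, t147, t155, t163, t169, t171, t203, t205, t242, t243, t251, t253, t275, t289, t301, t326, t338, t343, t361, t487, t489, t502, t507, t529, t578, t605, t625, t722, t729, t841, t961, t1083, t1255, t1331, t1369, t1681, t1849, t2197, t2401, t3125, t4913, t6859, t14641, t15625, t16807, t26569, t28561, t63001, t83521, t130321]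
def l7 : List TE := [t2, t3, t4, t5, t6, t7, t8, t9, t10, t11, t12, t13, t14, t15, t16, t17, t18, t19, t20, t21, t22, t23, t24, t25, t26, t27, t28, t29, t30, t31, t32, t33, t34, t35, t37, t38, t39, t40, t41, t42, t43, t44, t45, t46, t49, t50, t51, t52, t53, t54, t55, t57, t58, t61, t62, t63, t64, t65, t68, t74, t75, t76, t78, t79, t81, t82, t85, t86, t87, t91, t93, t95, t97, t98, t101, t109, t110, t111, t115, t117, t121, t125, t128, t129, t133, t136, t147, t155, t163, t169, t171, t203, t205, t242, t243, t250, t251, t253, t275, t289, t301, t326, t338, t343, t361, t487, t489, t502, t507, t529, t578, t605, t625, t722, t729, t841, t961, t1083, t1255, t1331, t1369, t1681, t1849, t2187, t2197, t2401, t3125, t4913, t6859, t14641, t15625, t16807, t26569, t28561, t63001, t83521, t130321]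
def l8 : List TE := [t2, t3, t4, t5, t6, t7, t8, t9, t10, t11, t12, t13, t14, t15, t16, t17, t18, t19, t20, t21, t22, t23, t24, t25, t26, t27, t28, t29, t30, t31, t32, t33, t34, t35, t36, t37, t38, t39, t40, t41, t42, t43, t44, t45, t46, t49, t50, t51, t52, t53, t54, t55, t57, t58, t61, t62, t63, t64, t65, t68, t74, t75, t76, t78, t79, t81, t82, t85, t86, t87, t91, t93, t95, t97, t98, t100, t101, t109, t110, t111, t115, t117, t121, t125, t128, t129, t133, t136, t147, t155, t163, t169, t171, t203, t205, t242, t243, t250, t251, t253, t256, t275, t289, t301, t326, t338, t343, t361, t487, t489, t502, t507, t529, t578, t605, t625, t722, t729, t841, t961, t1083, t1255, t1331, t1369, t1681, t1849, t2187, t2197, t2401, t3125, t4913, t6859, t14641, t15625, t16807, t26569, t28561, t63001, t83521, t130321]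
def tabsL : List (List TE) := [l0, l1, l2, l3, l4, l5, l6, l7, l8]
def tabs : ℕ → List TE := nthT tabsL
def full : List TE := [t2, t3, t4, t5, t6, t7, t8, t9, t10, t11, t12, t13, t14, t15, t16, t17, t18, t19, t20, t21, t22, t23, t24, t25, t26, t27, t28, t29, t30, t31, t32, t33, t34, t35, t36, t37, t38, t39, t40, t41, t42, t43, t44, t45, t46, t49, t50, t51, t52, t53, t54, t55, t57, t58, t61, t62, t63, t64, t65, t68, t74, t75, t76, t78, t79, t81, t82, t85, t86, t87, t91, t93, t95, t97, t98, t100, t101, t109, t110, t111, t115, t117, t121, t125, t128, t129, t133, t136, t147, t155, t163, t169, t171, t203, t205, t242, t243, t250, t251, t253, t256, t275, t289, t301, t326, t338, t343, t361, t487, t489, t502, t507, t529, t578, t605, t625, t722, t729, t841, t961, t1083, t1255, t1331, t1369, t1681, t1849, t2187, t2197, t2401, t3125, t4913, t6859, t14641, t15625,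 t16807, t26569, t28561, t63001, t83521, t130321]

theorem h1 : ∀ t ∈ full, TC 8 t := by decide +kernel
theorem h2 : ∀ j ∈ List.range (8 + 1), tabs j = full.filter fun t => t.dv.length < j := by
  intro j hj
  have : j < 9 := List.mem_range.1 hj
  interval_cases j <;> exact Eq.refl _
theorem h3 : (full.map fun t => t.o) = OL := by decide +kernel
theorem h4 : OL.Pairwise (· ≤ ·) := by decide +kernel
theorem tab : TabOK 8 tabs OL := h3 ▸ tabOK_of h1 h2 (h3 ▸ h4)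
theorem ph1 : p1 OL 10 [] 8 1 = true := by decide +kernel
theorem ord {g : ℕ} {L : List En} (A : Ax 8 g L) : ∀ y ∈ L, y.1 ∈ OL := ord_mem A ph1


end
end Cfsg.Agent.KC.T9
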