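import Cfsg.Agent.Lib.KC.Tab

set_option autoImplicit false
set_option maxRecDepth 100000

namespace Cfsg.Agent.KC.T11
noncomputable section

def t2 : TE := ⟨nat_lit 2,nat_lit 2,nat_lit 2,[],[],mk [],mk [],[(nat_lit 1,nat_lit 1,[],mk [])]⟩
def t3 : TE := ⟨nat_lit 3,nat_lit 3,nat_lit 3,[],[],mk [],mk [],[(nat_lit 1,nat_lit 2,[nat_lit 2],mk [nat_lit 2]),(nat_lit 2,nat_lit 1,[],mk [])]⟩
def t4 : TE := ⟨nat_lit 4,nat_lit 2,nat_lit 2,[],[nat_lit 2],mk [nat_lit 2],mk [],[(nat_lit 1,nat_lit 2,[],mk []),(nat_lit 2,nat_lit 1,[],mk [])]⟩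
def t5 : TE := ⟨nat_lit 5,nat_lit 5,nat_lit 5,[],[],mk [],mk [],[(nat_lit 1,nat_lit 4,[nat_lit 2, nat_lit 4],mk [nat_lit 2, nat_lit 4]),(nat_lit 2,nat_lit 2,[nat_lit 2],mk [nat_lit 2]),(nat_lit 4,nat_lit 1,[],mk [])]⟩
def t6 : TE := ⟨nat_lit 6,nat_lit 0,nat_lit 2,[nat_lit 3],[nat_lit 2, nat_lit 3],mk [nat_lit 2, nat_lit 3],mk [nat_lit 3, nat_lit 2],[(nat_lit 1,nat_lit 2,[],mk []),(nat_lit 2,nat_lit 1,[],mk [])]⟩
def t7 : TE := ⟨nat_lit 7,nat_lit 7,nat_lit 7,[],[],mk [],mk [],[(nat_lit 1,nat_lit 6,[nat_lit 2, nat_lit 3, nat_lit 6],mk [nat_lit 2, nat_lit 3, nat_lit 6]),(nat_lit 2,nat_lit 3,[nat_lit 3],mk [nat_lit 3]),(nat_lit 3,nat_lit 2,[nat_lit 2],mk [nat_lit 2]),(nat_lit 6,nat_lit 1,[],mk [])]⟩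
def t8 : TE := ⟨nat_lit 8,nat_lit 2,nat_lit 2,[],[nat_lit 2, nat_lit 4],mk [nat_lit 2, nat_lit 4],mk [],[(nat_lit 1,nat_lit 4,[],mk []),(nat_lit 2,nat_lit 2,[],mk []),(nat_lit 4,nat_lit 1,[],mk [])]⟩
def t9 : TE := ⟨nat_lit 9,nat_lit 3,nat_lit 3,[],[nat_lit 3],mk [nat_lit 3],mk [],[(nat_lit 1,nat_lit 6,[nat_lit 2, nat_lit 3, nat_lit 6],mk [nat_lit 2, nat_lit 3, nat_lit 6]),(nat_lit 2,nat_lit 3,[nat_lit 3],mk [nat_lit 3]),(nat_lit 3,nat_lit 2,[nat_lit 2],mk [nat_lit 2]),(nat_lit 6,nat_lit 1,[],mk [])]⟩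
def t10 : TE := ⟨nat_lit 10,nat_lit 0,nat_lit 2,[nat_lit 5],[nat_lit 2, nat_lit 5],mk [nat_lit 2, nat_lit 5],mk [nat_lit 5, nat_lit 2],[(nat_lit 1,nat_lit 4,[],mk []),(nat_lit 2,nat_lit 2,[],mk []),(nat_lit 4,nat_lit 1,[],mk [])]⟩
def t11 : TE := ⟨nat_lit 11,nat_lit 11,nat_lit 11,[],[],mk [],mk [],[(nat_lit 1,nat_lit 10,[nat_lit 2, nat_lit 5, nat_lit 10],mk [nat_lit 2, nat_lit 5, nat_lit 10]),(nat_lit 2,nat_lit 5,[nat_lit 5],mk [nat_lit 5]),(nat_lit 5,nat_lit 2,[nat_lit 2],mk [nat_lit 2]),(nat_lit 10,nat_lit 1,[],mk [])]⟩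
def t12 : TE := ⟨nat_lit 12,nat_lit 0,nat_lit 2,[nat_lit 3],[nat_lit 2, nat_lit 3, nat_lit 4, nat_lit 6],mk [nat_lit 2, nat_lit 3, nat_lit 4, nat_lit 6],mk [nat_lit 4],[(nat_lit 1,nat_lit 4,[],mk []),(nat_lit 2,nat_lit 2,[],mk []),(nat_lit 4,nat_lit 1,[],mk [])]⟩
def t13 : TE := ⟨nat_lit 13,nat_lit 13,nat_lit 13,[],[],mk [],mk [],[(nat_lit 1,nat_lit 12,[nat_lit 2, nat_lit 3, nat_lit 4, nat_lit 6, nat_lit 12],mk [nat_lit 2, nat_lit 3, nat_lit 4, nat_lit 6, nat_lit 12]),(nat_lit 2,nat_lit 6,[nat_lit 2, nat_lit 3, nat_lit 6],mk [nat_lit 2, nat_lit 3, nat_lit 6]),(nat_lit 3,nat_lit 4,[nat_lit 2, nat_lit 4],mk [nat_lit 2, nat_lit 4]),(nat_lit 4,nat_lit 3,[nat_lit 3],mk [nat_lit 3]),(nat_lit 6,nat_lit 2,[nat_lit 2],mk [nat_lit 2])]⟩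
def t14 : TE := ⟨nat_lit 14,nat_lit 0,nat_lit 2,[nat_lit 7],[nat_lit 2, nat_lit 7],mk [nat_lit 2, nat_lit 7],mk [nat_lit 7, nat_lit 2],[(nat_lit 1,nat_lit 6,[],mk []),(nat_lit 2,nat_lit 3,[],mk []),(nat_lit 3,nat_lit 2,[],mk []),(nat_lit 6,nat_lit 1,[],mk [])]⟩
def t15 : TE := ⟨nat_lit 15,nat_lit 0,nat_lit 3,[nat_lit 5],[nat_lit 3, nat_lit 5],mk [nat_lit 3, nat_lit 5],mk [nat_lit 5, nat_lit 3],[(nat_lit 1,nat_lit 8,[],mk []),(nat_lit 2,nat_lit 4,[],mk []),(nat_lit 4,nat_lit 2,[],mk []),(nat_lit 8,nat_lit 1,[],mk [])]⟩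
def t16 : TE := ⟨nat_lit 16,nat_lit 2,nat_lit 2,[],[nat_lit 2, nat_lit 4, nat_lit 8],mk [nat_lit 2, nat_lit 4, nat_lit 8],mk [],[(nat_lit 1,nat_lit 8,[],mk []),(nat_lit 2,nat_lit 4,[],mk []),(nat_lit 4,nat_lit 2,[],mk []),(nat_lit 8,nat_lit 1,[],mk [])]⟩
def t17 : TE := ⟨nat_lit 17,nat_lit 17,nat_lit 17,[],[],mk [],mk [],[(nat_lit 1,nat_lit 16,[nat_lit 2, nat_lit 4, nat_lit 8, nat_lit 16],mk [nat_lit 2, nat_lit 4, nat_lit 8, nat_lit 16]),(nat_lit 2,nat_lit 8,[nat_lit 2, nat_lit 4, nat_lit 8],mk [nat_lit 2, nat_lit 4, nat_lit 8]),(nat_lit 4,nat_lit 4,[nat_lit 2, nat_lit 4],mk [nat_lit 2, nat_lit 4]),(nat_lit 8,nat_lit 2,[nat_lit 2],mk [nat_lit 2])]⟩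
def t18 : TE := ⟨nat_lit 18,nat_lit 0,nat_lit 2,[nat_lit 3],[nat_lit 2, nat_lit 3, nat_lit 6, nat_lit 9],mk [nat_lit 2, nat_lit 3, nat_lit 6, nat_lit 9],mk [nat_lit 9],[(nat_lit 1,nat_lit 6,[],mk []),(nat_lit 2,nat_lit 3,[],mk []),(nat_lit 3,nat_lit 2,[],mk []),(nat_lit 6,nat_lit 1,[],mk [])]⟩
def t19 : TE := ⟨nat_lit 19,nat_lit 19,nat_lit 19,[],[],mk [],mk [],[(nat_lit 1,nat_lit 18,[nat_lit 2, nat_lit 3, nat_lit 6, nat_lit 9, nat_lit 18],mk [nat_lit 2, nat_lit 3, nat_lit 6, nat_lit 9, nat_lit 18]),(nat_lit 2,nat_lit 9,[nat_lit 3, nat_lit 9],mk [nat_lit 3, nat_lit 9]),(nat_lit 3,nat_lit 6,[nat_lit 2, nat_lit 3, nat_lit 6],mk [nat_lit 2, nat_lit 3, nat_lit 6]),(nat_lit 6,nat_lit 3,[nat_lit 3],mk [nat_lit 3]),(nat_lit 9,nat_lit 2,[nat_lit 2],mk [nat_lit 2])]⟩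
def t20 : TE := ⟨nat_lit 20,nat_lit 0,nat_lit 2,[nat_lit 5],[nat_lit 2, nat_lit 4, nat_lit 5, nat_lit 10],mk [nat_lit 2, nat_lit 4, nat_lit 5, nat_lit 10],mk [nat_lit 4],[(nat_lit 1,nat_lit 8,[],mk []),(nat_lit 2,nat_lit 4,[],mk []),(nat_lit 4,nat_lit 2,[],mk []),(nat_lit 8,nat_lit 1,[],mk [])]⟩
def t21 : TE := ⟨nat_lit 21,nat_lit 0,nat_lit 3,[nat_lit 7],[nat_lit 3, nat_lit 7],mk [nat_lit 3, nat_lit 7],mk [nat_lit 7, nat_lit 3],[(nat_lit 1,nat_lit 12,[],mk []),(nat_lit 2,nat_lit 6,[],mk []),(nat_lit 3,nat_lit 4,[],mk []),(nat_lit 4,nat_lit 3,[],mk []),(nat_lit 6,nat_lit 2,[],mk [])]⟩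
def t22 : TE := ⟨nat_lit 22,nat_lit 0,nat_lit 2,[nat_lit 11],[nat_lit 2, nat_lit 11],mk [nat_lit 2, nat_lit 11],mk [nat_lit 11, nat_lit 2],[(nat_lit 1,nat_lit 10,[],mk []),(nat_lit 2,nat_lit 5,[],mk []),(nat_lit 5,nat_lit 2,[],mk []),(nat_lit 10,nat_lit 1,[],mk [])]⟩
def t23 : TE := ⟨nat_lit 23,nat_lit 23,nat_lit 23,[],[],mk [],mk [],[(nat_lit 1,nat_lit 22,[nat_lit 2, nat_lit 11, nat_lit 22],mk [nat_lit 2, nat_lit 11, nat_lit 22]),(nat_lit 2,nat_lit 11,[nat_lit 11],mk [nat_lit 11])]⟩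
def t24 : TE := ⟨nat_lit 24,nat_lit 0,nat_lit 2,[nat_lit 3],[nat_lit 2, nat_lit 3, nat_lit 4, nat_lit 6, nat_lit 8, nat_lit 12],mk [nat_lit 2, nat_lit 3, nat_lit 4, nat_lit 6, nat_lit 8, nat_lit 12],mk [nat_lit 8],[(nat_lit 1,nat_lit 8,[],mk []),(nat_lit 2,nat_lit 4,[],mk []),(nat_lit 4,nat_lit 2,[],mk []),(nat_lit 8,nat_lit 1,[],mk [])]⟩
def t25 : TE := ⟨nat_lit 25,nat_lit 5,nat_lit 5,[],[nat_lit 5],mk [nat_lit 5],mk [],[(nat_lit 1,nat_lit 20,[nat_lit 2, nat_lit 4, nat_lit 5, nat_lit 10, nat_lit 20],mk [nat_lit 2, nat_lit 4, nat_lit 5, nat_lit 10, nat_lit 20]),(nat_lit 2,nat_lit 10,[nat_lit 2, nat_lit 5, nat_lit 10],mk [nat_lit 2, nat_lit 5, nat_lit 10]),(nat_lit 4,nat_lit 5,[nat_lit 5],mk [nat_lit 5]),(nat_lit 5,nat_lit 4,[nat_lit 2, nat_lit 4],mk [nat_lit 2, nat_lit 4]),(nat_lit 10,nat_lit 2,[nat_lit 2],mk [nat_lit 2])]⟩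
def t26 : TE := ⟨nat_lit 26,nat_lit 0,nat_lit 2,[nat_lit 13],[nat_lit 2, nat_lit 13],mk [nat_lit 2, nat_lit 13],mk [nat_lit 13, nat_lit 2],[(nat_lit 1,nat_lit 12,[],mk []),(nat_lit 2,nat_lit 6,[],mk []),(nat_lit 3,nat_lit 4,[],mk []),(nat_lit 4,nat_lit 3,[],mk []),(nat_lit 6,nat_lit 2,[],mk [])]⟩
def t27 : TE := ⟨nat_lit 27,nat_lit 3,nat_lit 3,[],[nat_lit 3, nat_lit 9],mk [nat_lit 3, nat_lit 9],mk [],[(nat_lit 1,nat_lit 18,[nat_lit 2, nat_lit 3, nat_lit 6, nat_lit 9, nat_lit 18],mk [nat_lit 2, nat_lit 3, nat_lit 6, nat_lit 9, nat_lit 18]),(nat_lit 2,nat_lit 9,[nat_lit 3, nat_lit 9],mk [nat_lit 3, nat_lit 9]),(nat_lit 3,nat_lit 6,[nat_lit 2, nat_lit 3, nat_lit 6],mk [nat_lit 2, nat_lit 3, nat_lit 6]),(nat_lit 6,nat_lit 3,[nat_lit 3],mk [nat_lit 3]),(nat_lit 9,nat_lit 2,[nat_lit 2],mk [nat_lit 2])]⟩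
def t28 : TE := ⟨nat_lit 28,nat_lit 0,nat_lit 2,[nat_lit 7],[nat_lit 2, nat_lit 4, nat_lit 7, nat_lit 14],mk [nat_lit 2, nat_lit 4, nat_lit 7, nat_lit 14],mk [nat_lit 4],[(nat_lit 1,nat_lit 12,[],mk []),(nat_lit 2,nat_lit 6,[],mk []),(nat_lit 3,nat_lit 4,[],mk []),(nat_lit 4,nat_lit 3,[],mk []),(nat_lit 6,nat_lit 2,[],mk [])]⟩
def t29 : TE := ⟨nat_lit 29,nat_lit 29,nat_lit 29,[],[],mk [],mk [],[(nat_lit 1,nat_lit 28,[nat_lit 2, nat_lit 4, nat_lit 7, nat_lit 14, nat_lit 28],mk [nat_lit 2, nat_lit 4, nat_lit 7, nat_lit 14, nat_lit 28]),(nat_lit 2,nat_lit 14,[nat_lit 2, nat_lit 7, nat_lit 14],mk [nat_lit 2, nat_lit 7, nat_lit 14]),(nat_lit 4,nat_lit 7,[nat_lit 7],mk [nat_lit 7]),(nat_lit 7,nat_lit 4,[nat_lit 2, nat_lit 4],mk [nat_lit 2, nat_lit 4])]⟩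
def t30 : TE := ⟨nat_lit 30,nat_lit 0,nat_lit 2,[nat_lit 5, nat_lit 3],[nat_lit 2, nat_lit 3, nat_lit 5, nat_lit 6, nat_lit 10, nat_lit 15],mk [nat_lit 2, nat_lit 3, nat_lit 5, nat_lit 6, nat_lit 10, nat_lit 15],mk [nat_lit 15, nat_lit 10, nat_lit 6],[(nat_lit 1,nat_lit 8,[],mk []),(nat_lit 2,nat_lit 4,[],mk []),(nat_lit 4,nat_lit 2,[],mk []),(nat_lit 8,nat_lit 1,[],mk [])]⟩
def t31 : TE := ⟨nat_lit 31,nat_lit 31,nat_lit 31,[],[],mk [],mk [],[(nat_lit 1,nat_lit 30,[nat_lit 2, nat_lit 3, nat_lit 5, nat_lit 6, nat_lit 10, nat_lit 15, nat_lit 30],mk [nat_lit 2, nat_lit 3, nat_lit 5, nat_lit 6, nat_lit 10, nat_lit 15, nat_lit 30]),(nat_lit 2,nat_lit 15,[nat_lit 3, nat_lit 5, nat_lit 15],mk [nat_lit 3, nat_lit 5, nat_lit 15]),(nat_lit 3,nat_lit 10,[nat_lit 2, nat_lit 5, nat_lit 10],mk [nat_lit 2, nat_lit 5, nat_lit 10]),(nat_lit 5,nat_lit 6,[nat_lit 2, nat_lit 3, nat_lit 6],mk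 [nat_lit 2, nat_lit 3, nat_lit 6]),(nat_lit 6,nat_lit 5,[nat_lit 5],mk [nat_lit 5]),(nat_lit 10,nat_lit 3,[nat_lit 3],mk [nat_lit 3])]⟩
def t32 : TE := ⟨nat_lit 32,nat_lit 2,nat_lit 2,[],[nat_lit 2, nat_lit 4, nat_lit 8, nat_lit 16],mk [nat_lit 2, nat_lit 4, nat_lit 8, nat_lit 16],mk [],[(nat_lit 1,nat_lit 16,[],mk []),(nat_lit 2,nat_lit 8,[],mk []),(nat_lit 4,nat_lit 4,[],mk []),(nat_lit 8,nat_lit 2,[],mk [])]⟩
def t33 : TE := ⟨nat_lit 33,nat_lit 0,nat_lit 3,[nat_lit 11],[nat_lit 3, nat_lit 11],mk [nat_lit 3, nat_lit 11],mk [nat_lit 11, nat_lit 3],[(nat_lit 1,nat_lit 20,[],mk []),(nat_lit 2,nat_lit 10,[],mk []),(nat_lit 4,nat_lit 5,[],mk []),(nat_lit 5,nat_lit 4,[],mk []),(nat_lit 10,nat_lit 2,[],mk [])]⟩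
def t34 : TE := ⟨nat_lit 34,nat_lit 0,nat_lit 2,[nat_lit 17],[nat_lit 2, nat_lit 17],mk [nat_lit 2, nat_lit 17],mk [nat_lit 17, nat_lit 2],[(nat_lit 1,nat_lit 16,[],mk []),(nat_lit 2,nat_lit 8,[],mk []),(nat_lit 4,nat_lit 4,[],mk []),(nat_lit 8,nat_lit 2,[],mk [])]⟩
def t35 : TE := ⟨nat_lit 35,nat_lit 0,nat_lit 5,[nat_lit 7],[nat_lit 5, nat_lit 7],mk [nat_lit 5, nat_lit 7],mk [nat_lit 7, nat_lit 5],[(nat_lit 1,nat_lit 24,[],mk []),(nat_lit 2,nat_lit 12,[],mk []),(nat_lit 3,nat_lit 8,[],mk []),(nat_lit 4,nat_lit 6,[],mk []),(nat_lit 6,nat_lit 4,[],mk []),(nat_lit 8,nat_lit 3,[],mk [])]⟩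
def t36 : TE := ⟨nat_lit 36,nat_lit 0,nat_lit 2,[nat_lit 3],[nat_lit 2, nat_lit 3, nat_lit 4, nat_lit 6, nat_lit 9, nat_lit 12, nat_lit 18],mk [nat_lit 2, nat_lit 3, nat_lit 4, nat_lit 6, nat_lit 9, nat_lit 12, nat_lit 18],mk [],[(nat_lit 1,nat_lit 12,[],mk []),(nat_lit 2,nat_lit 6,[],mk []),(nat_lit 3,nat_lit 4,[],mk []),(nat_lit 4,nat_lit 3,[],mk []),(nat_lit 6,nat_lit 2,[],mk [])]⟩
def t37 : TE := ⟨nat_lit 37,nat_lit 37,nat_lit 37,[],[],mk [],mk [],[(nat_lit 1,nat_lit 36,[nat_lit 2, nat_lit 3, nat_lit 4, nat_lit 6, nat_lit 9, nat_lit 12, nat_lit 18, nat_lit 36],mk [nat_lit 2, nat_lit 3, nat_lit 4, nat_lit 6, nat_lit 9, nat_lit 12, nat_lit 18, nat_lit 36]),(nat_lit 2,nat_lit 18,[nat_lit 2, nat_lit 3, nat_lit 6, nat_lit 9, nat_lit 18],mk [nat_lit 2, nat_lit 3, nat_lit 6, nat_lit 9, nat_lit 18]),(nat_lit 3,nat_lit 12,[nat_lit 2, nat_lit 3, nat_lit 4, nat_lit 6, nat_lit 12],mk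 [nat_lit 2, nat_lit 3, nat_lit 4, nat_lit 6, nat_lit 12]),(nat_lit 4,nat_lit 9,[nat_lit 3, nat_lit 9],mk [nat_lit 3, nat_lit 9]),(nat_lit 6,nat_lit 6,[nat_lit 2, nat_lit 3, nat_lit 6],mk [nat_lit 2, nat_lit 3, nat_lit 6]),(nat_lit 9,nat_lit 4,[nat_lit 2, nat_lit 4],mk [nat_lit 2, nat_lit 4])]⟩
def t38 : TE := ⟨nat_lit 38,nat_lit 0,nat_lit 2,[nat_lit 19],[nat_lit 2, nat_lit 19],mk [nat_lit 2, nat_lit 19],mk [nat_lit 19, nat_lit 2],[(nat_lit 1,nat_lit 18,[],mk []),(nat_lit 2,nat_lit 9,[],mk []),(nat_lit 3,nat_lit 6,[],mk []),(nat_lit 6,nat_lit 3,[],mk []),(nat_lit 9,nat_lit 2,[],mk [])]⟩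
def t39 : TE := ⟨nat_lit 39,nat_lit 0,nat_lit 3,[nat_lit 13],[nat_lit 3, nat_lit 13],mk [nat_lit 3, nat_lit 13],mk [nat_lit 13, nat_lit 3],[(nat_lit 1,nat_lit 24,[],mk []),(nat_lit 2,nat_lit 12,[],mk []),(nat_lit 3,nat_lit 8,[],mk []),(nat_lit 4,nat_lit 6,[],mk []),(nat_lit 6,nat_lit 4,[],mk []),(nat_lit 8,nat_lit 3,[],mk [])]⟩
def t40 : TE := ⟨nat_lit 40,nat_lit 0,nat_lit 2,[nat_lit 5],[nat_lit 2, nat_lit 4, nat_lit 5, nat_lit 8, nat_lit 10, nat_lit 20],mk [nat_lit 2, nat_lit 4, nat_lit 5, nat_lit 8, nat_lit 10, nat_lit 20],mk [nat_lit 8],[(nat_lit 1,nat_lit 16,[],mk []),(nat_lit 2,nat_lit 8,[],mk []),(nat_lit 4,nat_lit 4,[],mk []),(nat_lit 8,nat_lit 2,[],mk [])]⟩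
def t41 : TE := ⟨nat_lit 41,nat_lit 41,nat_lit 41,[],[],mk [],mk [],[(nat_lit 1,nat_lit 40,[nat_lit 2, nat_lit 4, nat_lit 5, nat_lit 8, nat_lit 10, nat_lit 20, nat_lit 40],mk [nat_lit 2, nat_lit 4, nat_lit 5, nat_lit 8, nat_lit 10, nat_lit 20, nat_lit 40]),(nat_lit 2,nat_lit 20,[nat_lit 2, nat_lit 4, nat_lit 5, nat_lit 10, nat_lit 20],mk [nat_lit 2, nat_lit 4, nat_lit 5, nat_lit 10, nat_lit 20]),(nat_lit 4,nat_lit 10,[nat_lit 2, nat_lit 5, nat_lit 10],mk [nat_lit 2, nat_lit 5, nat_lit 10]),(nat_lit 5,nat_lit 8,[nat_lit 2, nat_lit 4, nat_lit 8],mk [nat_lit 2, nat_lit 4, nat_lit 8]),(nat_lit 8,nat_lit 5,[nat_lit 5],mk [nat_lit 5]),(nat_lit 10,nat_lit 4,[nat_lit 2, nat_lit 4],mk [nat_lit 2, nat_lit 4])]⟩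
def t42 : TE := ⟨nat_lit 42,nat_lit 0,nat_lit 2,[nat_lit 7, nat_lit 3],[nat_lit 2, nat_lit 3, nat_lit 6, nat_lit 7, nat_lit 14, nat_lit 21],mk [nat_lit 2, nat_lit 3, nat_lit 6, nat_lit 7, nat_lit 14, nat_lit 21],mk [nat_lit 21, nat_lit 14, nat_lit 6],[(nat_lit 1,nat_lit 12,[],mk []),(nat_lit 2,nat_lit 6,[],mk []),(nat_lit 3,nat_lit 4,[],mk []),(nat_lit 4,nat_lit 3,[],mk []),(nat_lit 6,nat_lit 2,[],mk [])]⟩
def t43 : TE := ⟨nat_lit 43,nat_lit 43,nat_lit 43,[],[],mk [],mk [],[(nat_lit 1,nat_lit 42,[nat_lit 2, nat_lit 3, nat_lit 6, nat_lit 7, nat_lit 14, nat_lit 21, nat_lit 42],mk [nat_lit 2, nat_lit 3, nat_lit 6, nat_lit 7, nat_lit 14, nat_lit 21, nat_lit 42]),(nat_lit 2,nat_lit 21,[nat_lit 3, nat_lit 7, nat_lit 21],mk [nat_lit 3, nat_lit 7, nat_lit 21]),(nat_lit 3,nat_lit 14,[nat_lit 2, nat_lit 7, nat_lit 14],mk [nat_lit 2, nat_lit 7, nat_lit 14]),(nat_lit 6,nat_lit 7,[nat_lit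 7],mk [nat_lit 7]),(nat_lit 7,nat_lit 6,[nat_lit 2, nat_lit 3, nat_lit 6],mk [nat_lit 2, nat_lit 3, nat_lit 6])]⟩
def t44 : TE := ⟨nat_lit 44,nat_lit 0,nat_lit 2,[nat_lit 11],[nat_lit 2, nat_lit 4, nat_lit 11, nat_lit 22],mk [nat_lit 2, nat_lit 4, nat_lit 11, nat_lit 22],mk [nat_lit 4],[(nat_lit 1,nat_lit 20,[],mk []),(nat_lit 2,nat_lit 10,[],mk []),(nat_lit 4,nat_lit 5,[],mk []),(nat_lit 5,nat_lit 4,[],mk []),(nat_lit 10,nat_lit 2,[],mk [])]⟩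
def t45 : TE := ⟨nat_lit 45,nat_lit 0,nat_lit 3,[nat_lit 5],[nat_lit 3, nat_lit 5, nat_lit 9, nat_lit 15],mk [nat_lit 3, nat_lit 5, nat_lit 9, nat_lit 15],mk [nat_lit 9],[(nat_lit 1,nat_lit 24,[],mk []),(nat_lit 2,nat_lit 12,[],mk []),(nat_lit 3,nat_lit 8,[],mk []),(nat_lit 4,nat_lit 6,[],mk []),(nat_lit 6,nat_lit 4,[],mk []),(nat_lit 8,nat_lit 3,[],mk [])]⟩
def t46 : TE := ⟨nat_lit 46,nat_lit 0,nat_lit 2,[nat_lit 23],[nat_lit 2, nat_lit 23],mk [nat_lit 2, nat_lit 23],mk [nat_lit 23, nat_lit 2],[(nat_lit 1,nat_lit 22,[],mk []),(nat_lit 2,nat_lit 11,[],mk [])]⟩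
def t47 : TE := ⟨nat_lit 47,nat_lit 47,nat_lit 47,[],[],mk [],mk [],[(nat_lit 1,nat_lit 46,[nat_lit 2, nat_lit 23, nat_lit 46],mk [nat_lit 2, nat_lit 23, nat_lit 46]),(nat_lit 2,nat_lit 23,[nat_lit 23],mk [nat_lit 23])]⟩
def t48 : TE := ⟨nat_lit 48,nat_lit 0,nat_lit 2,[nat_lit 3],[nat_lit 2, nat_lit 3, nat_lit 4, nat_lit 6, nat_lit 8, nat_lit 12, nat_lit 16, nat_lit 24],mk [nat_lit 2, nat_lit 3, nat_lit 4, nat_lit 6, nat_lit 8, nat_lit 12, nat_lit 16, nat_lit 24],mk [nat_lit 16],[(nat_lit 1,nat_lit 16,[],mk []),(nat_lit 2,nat_lit 8,[],mk []),(nat_lit 4,nat_lit 4,[],mk []),(nat_lit 8,nat_lit 2,[],mk [])]⟩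
def t49 : TE := ⟨nat_lit 49,nat_lit 7,nat_lit 7,[],[nat_lit 7],mk [nat_lit 7],mk [],[(nat_lit 1,nat_lit 42,[nat_lit 2, nat_lit 3, nat_lit 6, nat_lit 7, nat_lit 14, nat_lit 21, nat_lit 42],mk [nat_lit 2, nat_lit 3, nat_lit 6, nat_lit 7, nat_lit 14, nat_lit 21, nat_lit 42]),(nat_lit 2,nat_lit 21,[nat_lit 3, nat_lit 7, nat_lit 21],mk [nat_lit 3, nat_lit 7, nat_lit 21]),(nat_lit 3,nat_lit 14,[nat_lit 2, nat_lit 7, nat_lit 14],mk [nat_lit 2, nat_lit 7, nat_lit 14]),(nat_lit 6,nat_lit 7,[nat_lit 7],mk [nat_lit 7]),(nat_lit 7,nat_lit 6,[nat_lit 2, nat_lit 3, nat_lit 6],mk [nat_lit 2, nat_lit 3, nat_lit 6])]⟩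
def t50 : TE := ⟨nat_lit 50,nat_lit 0,nat_lit 2,[nat_lit 5],[nat_lit 2, nat_lit 5, nat_lit 10, nat_lit 25],mk [nat_lit 2, nat_lit 5, nat_lit 10, nat_lit 25],mk [nat_lit 25],[(nat_lit 1,nat_lit 20,[],mk []),(nat_lit 2,nat_lit 10,[],mk []),(nat_lit 4,nat_lit 5,[],mk []),(nat_lit 5,nat_lit 4,[],mk []),(nat_lit 10,nat_lit 2,[],mk [])]⟩
def t51 : TE := ⟨nat_lit 51,nat_lit 0,nat_lit 3,[nat_lit 17],[nat_lit 3, nat_lit 17],mk [nat_lit 3, nat_lit 17],mk [nat_lit 17, nat_lit 3],[(nat_lit 1,nat_lit 32,[],mk []),(nat_lit 2,nat_lit 16,[],mk []),(nat_lit 4,nat_lit 8,[],mk []),(nat_lit 8,nat_lit 4,[],mk [])]⟩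
def t52 : TE := ⟨nat_lit 52,nat_lit 0,nat_lit 2,[nat_lit 13],[nat_lit 2, nat_lit 4, nat_lit 13, nat_lit 26],mk [nat_lit 2, nat_lit 4, nat_lit 13, nat_lit 26],mk [nat_lit 4],[(nat_lit 1,nat_lit 24,[],mk []),(nat_lit 2,nat_lit 12,[],mk []),(nat_lit 3,nat_lit 8,[],mk []),(nat_lit 4,nat_lit 6,[],mk []),(nat_lit 6,nat_lit 4,[],mk []),(nat_lit 8,nat_lit 3,[],mk [])]⟩
def t53 : TE := ⟨nat_lit 53,nat_lit 53,nat_lit 53,[],[],mk [],mk [],[(nat_lit 1,nat_lit 52,[nat_lit 2, nat_lit 4, nat_lit 13, nat_lit 26, nat_lit 52],mk [nat_lit 2, nat_lit 4, nat_lit 13, nat_lit 26, nat_lit 52]),(nat_lit 2,nat_lit 26,[nat_lit 2, nat_lit 13, nat_lit 26],mk [nat_lit 2, nat_lit 13, nat_lit 26]),(nat_lit 4,nat_lit 13,[nat_lit 13],mk [nat_lit 13])]⟩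
def t54 : TE := ⟨nat_lit 54,nat_lit 0,nat_lit 2,[nat_lit 3],[nat_lit 2, nat_lit 3, nat_lit 6, nat_lit 9, nat_lit 18, nat_lit 27],mk [nat_lit 2, nat_lit 3, nat_lit 6, nat_lit 9, nat_lit 18, nat_lit 27],mk [nat_lit 27],[(nat_lit 1,nat_lit 18,[],mk []),(nat_lit 2,nat_lit 9,[],mk []),(nat_lit 3,nat_lit 6,[],mk []),(nat_lit 6,nat_lit 3,[],mk []),(nat_lit 9,nat_lit 2,[],mk [])]⟩
def t55 : TE := ⟨nat_lit 55,nat_lit 0,nat_lit 5,[nat_lit 11],[nat_lit 5, nat_lit 11],mk [nat_lit 5, nat_lit 11],mk [nat_lit 11, nat_lit 5],[(nat_lit 1,nat_lit 40,[],mk []),(nat_lit 2,nat_lit 20,[],mk []),(nat_lit 4,nat_lit 10,[],mk []),(nat_lit 5,nat_lit 8,[],mk []),(nat_lit 8,nat_lit 5,[],mk []),(nat_lit 10,nat_lit 4,[],mk [])]⟩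
def t56 : TE := ⟨nat_lit 56,nat_lit 0,nat_lit 2,[nat_lit 7],[nat_lit 2, nat_lit 4, nat_lit 7, nat_lit 8, nat_lit 14, nat_lit 28],mk [nat_lit 2, nat_lit 4, nat_lit 7, nat_lit 8, nat_lit 14, nat_lit 28],mk [nat_lit 8],[(nat_lit 1,nat_lit 24,[],mk []),(nat_lit 2,nat_lit 12,[],mk []),(nat_lit 3,nat_lit 8,[],mk []),(nat_lit 4,nat_lit 6,[],mk []),(nat_lit 6,nat_lit 4,[],mk []),(nat_lit 8,nat_lit 3,[],mk [])]⟩
def t57 : TE := ⟨nat_lit 57,nat_lit 0,nat_lit 3,[nat_lit 19],[nat_lit 3, nat_lit 19],mk [nat_lit 3, nat_lit 19],mk [nat_lit 19, nat_lit 3],[(nat_lit 1,nat_lit 36,[],mk []),(nat_lit 2,nat_lit 18,[],mk []),(nat_lit 3,nat_lit 12,[],mk []),(nat_lit 4,nat_lit 9,[],mk []),(nat_lit 6,nat_lit 6,[],mk []),(nat_lit 9,nat_lit 4,[],mk [])]⟩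
def t58 : TE := ⟨nat_lit 58,nat_lit 0,nat_lit 2,[nat_lit 29],[nat_lit 2, nat_lit 29],mk [nat_lit 2, nat_lit 29],mk [nat_lit 29, nat_lit 2],[(nat_lit 1,nat_lit 28,[],mk []),(nat_lit 2,nat_lit 14,[],mk []),(nat_lit 4,nat_lit 7,[],mk []),(nat_lit 7,nat_lit 4,[],mk [])]⟩
def t59 : TE := ⟨nat_lit 59,nat_lit 59,nat_lit 59,[],[],mk [],mk [],[(nat_lit 1,nat_lit 58,[nat_lit 2, nat_lit 29, nat_lit 58],mk [nat_lit 2, nat_lit 29, nat_lit 58]),(nat_lit 2,nat_lit 29,[nat_lit 29],mk [nat_lit 29])]⟩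
def t61 : TE := ⟨nat_lit 61,nat_lit 61,nat_lit 61,[],[],mk [],mk [],[(nat_lit 1,nat_lit 60,[nat_lit 2, nat_lit 3, nat_lit 4, nat_lit 5, nat_lit 6, nat_lit 10, nat_lit 12, nat_lit 15, nat_lit 20, nat_lit 30, nat_lit 60],mk [nat_lit 2, nat_lit 3, nat_lit 4, nat_lit 5, nat_lit 6, nat_lit 10, nat_lit 12, nat_lit 15, nat_lit 20, nat_lit 30, nat_lit 60]),(nat_lit 2,nat_lit 30,[nat_lit 2, nat_lit 3, nat_lit 5, nat_lit 6, nat_lit 10, nat_lit 15, nat_lit 30],mk [nat_lit 2, nat_lit 3, nat_lit 5, nat_lit 6, nat_lit 10, nat_lit 15, nat_lit 30]),(nat_lit 3,nat_lit 20,[nat_lit 2, nat_lit 4, nat_lit 5, nat_lit 10, nat_lit 20],mk [nat_lit 2, nat_lit 4, nat_lit 5, nat_lit 10, nat_lit 20]),(nat_lit 4,nat_lit 15,[nat_lit 3, nat_lit 5, nat_lit 15],mk [nat_lit 3, nat_lit 5, nat_lit 15]),(nat_lit 5,nat_lit 12,[nat_lit 2, nat_lit 3, nat_lit 4, nat_lit 6, nat_lit 12],mk [nat_lit 2, nat_lit 3, nat_lit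 4, nat_lit 6, nat_lit 12]),(nat_lit 6,nat_lit 10,[nat_lit 2, nat_lit 5, nat_lit 10],mk [nat_lit 2, nat_lit 5, nat_lit 10]),(nat_lit 10,nat_lit 6,[nat_lit 2, nat_lit 3, nat_lit 6],mk [nat_lit 2, nat_lit 3, nat_lit 6])]⟩
def t62 : TE := ⟨nat_lit 62,nat_lit 0,nat_lit 2,[nat_lit 31],[nat_lit 2, nat_lit 31],mk [nat_lit 2, nat_lit 31],mk [nat_lit 31, nat_lit 2],[(nat_lit 1,nat_lit 30,[],mk []),(nat_lit 2,nat_lit 15,[],mk []),(nat_lit 3,nat_lit 10,[],mk []),(nat_lit 5,nat_lit 6,[],mk []),(nat_lit 6,nat_lit 5,[],mk []),(nat_lit 10,nat_lit 3,[],mk [])]⟩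
def t63 : TE := ⟨nat_lit 63,nat_lit 0,nat_lit 3,[nat_lit 7],[nat_lit 3, nat_lit 7, nat_lit 9, nat_lit 21],mk [nat_lit 3, nat_lit 7, nat_lit 9, nat_lit 21],mk [nat_lit 9],[(nat_lit 1,nat_lit 36,[],mk []),(nat_lit 2,nat_lit 18,[],mk []),(nat_lit 3,nat_lit 12,[],mk []),(nat_lit 4,nat_lit 9,[],mk []),(nat_lit 6,nat_lit 6,[],mk []),(nat_lit 9,nat_lit 4,[],mk [])]⟩
def t64 : TE := ⟨nat_lit 64,nat_lit 2,nat_lit 2,[],[nat_lit 2, nat_lit 4, nat_lit 8, nat_lit 16, nat_lit 32],mk [nat_lit 2, nat_lit 4, nat_lit 8, nat_lit 16, nat_lit 32],mk [],[(nat_lit 1,nat_lit 32,[],mk []),(nat_lit 2,nat_lit 16,[],mk []),(nat_lit 4,nat_lit 8,[],mk []),(nat_lit 8,nat_lit 4,[],mk [])]⟩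
def t65 : TE := ⟨nat_lit 65,nat_lit 0,nat_lit 5,[nat_lit 13],[nat_lit 5, nat_lit 13],mk [nat_lit 5, nat_lit 13],mk [nat_lit 13, nat_lit 5],[(nat_lit 1,nat_lit 48,[],mk []),(nat_lit 2,nat_lit 24,[],mk []),(nat_lit 3,nat_lit 16,[],mk []),(nat_lit 4,nat_lit 12,[],mk []),(nat_lit 6,nat_lit 8,[],mk []),(nat_lit 8,nat_lit 6,[],mk [])]⟩
def t66 : TE := ⟨nat_lit 66,nat_lit 0,nat_lit 2,[nat_lit 11, nat_lit 3],[nat_lit 2, nat_lit 3, nat_lit 6, nat_lit 11, nat_lit 22, nat_lit 33],mk [nat_lit 2, nat_lit 3, nat_lit 6, nat_lit 11, nat_lit 22, nat_lit 33],mk [nat_lit 33, nat_lit 22, nat_lit 6],[(nat_lit 1,nat_lit 20,[],mk []),(nat_lit 2,nat_lit 10,[],mk []),(nat_lit 4,nat_lit 5,[],mk []),(nat_lit 5,nat_lit 4,[],mk []),(nat_lit 10,nat_lit 2,[],mk [])]⟩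
def t67 : TE := ⟨nat_lit 67,nat_lit 67,nat_lit 67,[],[],mk [],mk [],[(nat_lit 1,nat_lit 66,[nat_lit 2, nat_lit 3, nat_lit 6, nat_lit 11, nat_lit 22, nat_lit 33, nat_lit 66],mk [nat_lit 2, nat_lit 3, nat_lit 6, nat_lit 11, nat_lit 22, nat_lit 33, nat_lit 66]),(nat_lit 2,nat_lit 33,[nat_lit 3, nat_lit 11, nat_lit 33],mk [nat_lit 3, nat_lit 11, nat_lit 33]),(nat_lit 3,nat_lit 22,[nat_lit 2, nat_lit 11, nat_lit 22],mk [nat_lit 2, nat_lit 11, nat_lit 22]),(nat_lit 6,nat_lit 11,[nat_lit 11],mk [nat_lit 11])]⟩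
def t68 : TE := ⟨nat_lit 68,nat_lit 0,nat_lit 2,[nat_lit 17],[nat_lit 2, nat_lit 4, nat_lit 17, nat_lit 34],mk [nat_lit 2, nat_lit 4, nat_lit 17, nat_lit 34],mk [nat_lit 4],[(nat_lit 1,nat_lit 32,[],mk []),(nat_lit 2,nat_lit 16,[],mk []),(nat_lit 4,nat_lit 8,[],mk []),(nat_lit 8,nat_lit 4,[],mk [])]⟩
def t69 : TE := ⟨nat_lit 69,nat_lit 0,nat_lit 3,[nat_lit 23],[nat_lit 3, nat_lit 23],mk [nat_lit 3, nat_lit 23],mk [nat_lit 23, nat_lit 3],[(nat_lit 1,nat_lit 44,[],mk []),(nat_lit 2,nat_lit 22,[],mk []),(nat_lit 4,nat_lit 11,[],mk [])]⟩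
def t70 : TE := ⟨nat_lit 70,nat_lit 0,nat_lit 2,[nat_lit 7, nat_lit 5],[nat_lit 2, nat_lit 5, nat_lit 7, nat_lit 10, nat_lit 14, nat_lit 35],mk [nat_lit 2, nat_lit 5, nat_lit 7, nat_lit 10, nat_lit 14, nat_lit 35],mk [nat_lit 35, nat_lit 14, nat_lit 10],[(nat_lit 1,nat_lit 24,[],mk []),(nat_lit 2,nat_lit 12,[],mk []),(nat_lit 3,nat_lit 8,[],mk []),(nat_lit 4,nat_lit 6,[],mk []),(nat_lit 6,nat_lit 4,[],mk []),(nat_lit 8,nat_lit 3,[],mk [])]⟩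
def t71 : TE := ⟨nat_lit 71,nat_lit 71,nat_lit 71,[],[],mk [],mk [],[(nat_lit 1,nat_lit 70,[nat_lit 2, nat_lit 5, nat_lit 7, nat_lit 10, nat_lit 14, nat_lit 35, nat_lit 70],mk [nat_lit 2, nat_lit 5, nat_lit 7, nat_lit 10, nat_lit 14, nat_lit 35, nat_lit 70]),(nat_lit 2,nat_lit 35,[nat_lit 5, nat_lit 7, nat_lit 35],mk [nat_lit 5, nat_lit 7, nat_lit 35]),(nat_lit 5,nat_lit 14,[nat_lit 2, nat_lit 7, nat_lit 14],mk [nat_lit 2, nat_lit 7, nat_lit 14]),(nat_lit 7,nat_lit 10,[nat_lit 2, nat_lit 5, nat_lit 10],mk [nat_lit 2, nat_lit 5, nat_lit 10]),(nat_lit 10,nat_lit 7,[nat_lit 7],mk [nat_lit 7])]⟩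
def t73 : TE := ⟨nat_lit 73,nat_lit 73,nat_lit 73,[],[],mk [],mk [],[(nat_lit 1,nat_lit 72,[nat_lit 2, nat_lit 3, nat_lit 4, nat_lit 6, nat_lit 8, nat_lit 9, nat_lit 12, nat_lit 18, nat_lit 24, nat_lit 36, nat_lit 72],mk [nat_lit 2, nat_lit 3, nat_lit 4, nat_lit 6, nat_lit 8, nat_lit 9, nat_lit 12, nat_lit 18, nat_lit 24, nat_lit 36, nat_lit 72]),(nat_lit 2,nat_lit 36,[nat_lit 2, nat_lit 3, nat_lit 4, nat_lit 6, nat_lit 9, nat_lit 12, nat_lit 18, nat_lit 36],mk [nat_lit 2, nat_lit 3, nat_lit 4, nat_lit 6, nat_lit 9, nat_lit 12, nat_lit 18, nat_lit 36]),(nat_lit 3,nat_lit 24,[nat_lit 2, nat_lit 3, nat_lit 4, nat_lit 6, nat_lit 8, nat_lit 12, nat_lit 24],mk [nat_lit 2, nat_lit 3, nat_lit 4, nat_lit 6, nat_lit 8, nat_lit 12, nat_lit 24]),(nat_lit 4,nat_lit 18,[nat_lit 2, nat_lit 3, nat_lit 6, nat_lit 9, nat_lit 18],mk [nat_lit 2, nat_lit 3, nat_lit 6, nat_lit 9, nat_lit 18]),(nat_lit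 6,nat_lit 12,[nat_lit 2, nat_lit 3, nat_lit 4, nat_lit 6, nat_lit 12],mk [nat_lit 2, nat_lit 3, nat_lit 4, nat_lit 6, nat_lit 12]),(nat_lit 8,nat_lit 9,[nat_lit 3, nat_lit 9],mk [nat_lit 3, nat_lit 9]),(nat_lit 9,nat_lit 8,[nat_lit 2, nat_lit 4, nat_lit 8],mk [nat_lit 2, nat_lit 4, nat_lit 8])]⟩
def t74 : TE := ⟨nat_lit 74,nat_lit 0,nat_lit 2,[nat_lit 37],[nat_lit 2, nat_lit 37],mk [nat_lit 2, nat_lit 37],mk [nat_lit 37, nat_lit 2],[(nat_lit 1,nat_lit 36,[],mk []),(nat_lit 2,nat_lit 18,[],mk []),(nat_lit 3,nat_lit 12,[],mk []),(nat_lit 4,nat_lit 9,[],mk []),(nat_lit 6,nat_lit 6,[],mk []),(nat_lit 9,nat_lit 4,[],mk [])]⟩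
def t75 : TE := ⟨nat_lit 75,nat_lit 0,nat_lit 3,[nat_lit 5],[nat_lit 3, nat_lit 5, nat_lit 15, nat_lit 25],mk [nat_lit 3, nat_lit 5, nat_lit 15, nat_lit 25],mk [nat_lit 25],[(nat_lit 1,nat_lit 40,[],mk []),(nat_lit 2,nat_lit 20,[],mk []),(nat_lit 4,nat_lit 10,[],mk []),(nat_lit 5,nat_lit 8,[],mk []),(nat_lit 8,nat_lit 5,[],mk []),(nat_lit 10,nat_lit 4,[],mk [])]⟩
def t76 : TE := ⟨nat_lit 76,nat_lit 0,nat_lit 2,[nat_lit 19],[nat_lit 2, nat_lit 4, nat_lit 19, nat_lit 38],mk [nat_lit 2, nat_lit 4, nat_lit 19, nat_lit 38],mk [nat_lit 4],[(nat_lit 1,nat_lit 36,[],mk []),(nat_lit 2,nat_lit 18,[],mk []),(nat_lit 3,nat_lit 12,[],mk []),(nat_lit 4,nat_lit 9,[],mk []),(nat_lit 6,nat_lit 6,[],mk []),(nat_lit 9,nat_lit 4,[],mk [])]⟩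
def t77 : TE := ⟨nat_lit 77,nat_lit 0,nat_lit 7,[nat_lit 11],[nat_lit 7, nat_lit 11],mk [nat_lit 7, nat_lit 11],mk [nat_lit 11, nat_lit 7],[(nat_lit 1,nat_lit 60,[],mk []),(nat_lit 2,nat_lit 30,[],mk []),(nat_lit 3,nat_lit 20,[],mk []),(nat_lit 4,nat_lit 15,[],mk []),(nat_lit 5,nat_lit 12,[],mk []),(nat_lit 6,nat_lit 10,[],mk []),(nat_lit 10,nat_lit 6,[],mk [])]⟩
def t78 : TE := ⟨nat_lit 78,nat_lit 0,nat_lit 2,[nat_lit 13, nat_lit 3],[nat_lit 2, nat_lit 3, nat_lit 6, nat_lit 13, nat_lit 26, nat_lit 39],mk [nat_lit 2, nat_lit 3, nat_lit 6, nat_lit 13, nat_lit 26, nat_lit 39],mk [nat_lit 39, nat_lit 26, nat_lit 6],[(nat_lit 1,nat_lit 24,[],mk []),(nat_lit 2,nat_lit 12,[],mk []),(nat_lit 3,nat_lit 8,[],mk []),(nat_lit 4,nat_lit 6,[],mk []),(nat_lit 6,nat_lit 4,[],mk []),(nat_lit 8,nat_lit 3,[],mk [])]⟩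
def t79 : TE := ⟨nat_lit 79,nat_lit 79,nat_lit 79,[],[],mk [],mk [],[(nat_lit 1,nat_lit 78,[nat_lit 2, nat_lit 3, nat_lit 6, nat_lit 13, nat_lit 26, nat_lit 39, nat_lit 78],mk [nat_lit 2, nat_lit 3, nat_lit 6, nat_lit 13, nat_lit 26, nat_lit 39, nat_lit 78]),(nat_lit 2,nat_lit 39,[nat_lit 3, nat_lit 13, nat_lit 39],mk [nat_lit 3, nat_lit 13, nat_lit 39]),(nat_lit 3,nat_lit 26,[nat_lit 2, nat_lit 13, nat_lit 26],mk [nat_lit 2, nat_lit 13, nat_lit 26]),(nat_lit 6,nat_lit 13,[nat_lit 13],mk [nat_lit 13])]⟩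
def t80 : TE := ⟨nat_lit 80,nat_lit 0,nat_lit 2,[nat_lit 5],[nat_lit 2, nat_lit 4, nat_lit 5, nat_lit 8, nat_lit 10, nat_lit 16, nat_lit 20, nat_lit 40],mk [nat_lit 2, nat_lit 4, nat_lit 5, nat_lit 8, nat_lit 10, nat_lit 16, nat_lit 20, nat_lit 40],mk [nat_lit 16],[(nat_lit 1,nat_lit 32,[],mk []),(nat_lit 2,nat_lit 16,[],mk []),(nat_lit 4,nat_lit 8,[],mk []),(nat_lit 8,nat_lit 4,[],mk [])]⟩
def t81 : TE := ⟨nat_lit 81,nat_lit 3,nat_lit 3,[],[nat_lit 3, nat_lit 9, nat_lit 27],mk [nat_lit 3, nat_lit 9, nat_lit 27],mk [],[(nat_lit 1,nat_lit 54,[nat_lit 2, nat_lit 3, nat_lit 6, nat_lit 9, nat_lit 18, nat_lit 27, nat_lit 54],mk [nat_lit 2, nat_lit 3, nat_lit 6, nat_lit 9, nat_lit 18, nat_lit 27, nat_lit 54]),(nat_lit 2,nat_lit 27,[nat_lit 3, nat_lit 9, nat_lit 27],mk [nat_lit 3, nat_lit 9, nat_lit 27]),(nat_lit 3,nat_lit 18,[nat_lit 2, nat_lit 3, nat_lit 6, nat_lit 9, nat_lit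 18],mk [nat_lit 2, nat_lit 3, nat_lit 6, nat_lit 9, nat_lit 18]),(nat_lit 6,nat_lit 9,[nat_lit 3, nat_lit 9],mk [nat_lit 3, nat_lit 9]),(nat_lit 9,nat_lit 6,[nat_lit 2, nat_lit 3, nat_lit 6],mk [nat_lit 2, nat_lit 3, nat_lit 6])]⟩
def t82 : TE := ⟨nat_lit 82,nat_lit 0,nat_lit 2,[nat_lit 41],[nat_lit 2, nat_lit 41],mk [nat_lit 2, nat_lit 41],mk [nat_lit 41, nat_lit 2],[(nat_lit 1,nat_lit 40,[],mk []),(nat_lit 2,nat_lit 20,[],mk []),(nat_lit 4,nat_lit 10,[],mk []),(nat_lit 5,nat_lit 8,[],mk []),(nat_lit 8,nat_lit 5,[],mk []),(nat_lit 10,nat_lit 4,[],mk [])]⟩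
def t83 : TE := ⟨nat_lit 83,nat_lit 83,nat_lit 83,[],[],mk [],mk [],[(nat_lit 1,nat_lit 82,[nat_lit 2, nat_lit 41, nat_lit 82],mk [nat_lit 2, nat_lit 41, nat_lit 82]),(nat_lit 2,nat_lit 41,[nat_lit 41],mk [nat_lit 41])]⟩
def t85 : TE := ⟨nat_lit 85,nat_lit 0,nat_lit 5,[nat_lit 17],[nat_lit 5, nat_lit 17],mk [nat_lit 5, nat_lit 17],mk [nat_lit 17, nat_lit 5],[(nat_lit 1,nat_lit 64,[],mk []),(nat_lit 2,nat_lit 32,[],mk []),(nat_lit 4,nat_lit 16,[],mk []),(nat_lit 8,nat_lit 8,[],mk [])]⟩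
def t86 : TE := ⟨nat_lit 86,nat_lit 0,nat_lit 2,[nat_lit 43],[nat_lit 2, nat_lit 43],mk [nat_lit 2, nat_lit 43],mk [nat_lit 43, nat_lit 2],[(nat_lit 1,nat_lit 42,[],mk []),(nat_lit 2,nat_lit 21,[],mk []),(nat_lit 3,nat_lit 14,[],mk []),(nat_lit 6,nat_lit 7,[],mk []),(nat_lit 7,nat_lit 6,[],mk [])]⟩
def t87 : TE := ⟨nat_lit 87,nat_lit 0,nat_lit 3,[nat_lit 29],[nat_lit 3, nat_lit 29],mk [nat_lit 3, nat_lit 29],mk [nat_lit 29, nat_lit 3],[(nat_lit 1,nat_lit 56,[],mk []),(nat_lit 2,nat_lit 28,[],mk []),(nat_lit 4,nat_lit 14,[],mk []),(nat_lit 7,nat_lit 8,[],mk []),(nat_lit 8,nat_lit 7,[],mk [])]⟩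
def t88 : TE := ⟨nat_lit 88,nat_lit 0,nat_lit 2,[nat_lit 11],[nat_lit 2, nat_lit 4, nat_lit 8, nat_lit 11, nat_lit 22, nat_lit 44],mk [nat_lit 2, nat_lit 4, nat_lit 8, nat_lit 11, nat_lit 22, nat_lit 44],mk [nat_lit 8],[(nat_lit 1,nat_lit 40,[],mk []),(nat_lit 2,nat_lit 20,[],mk []),(nat_lit 4,nat_lit 10,[],mk []),(nat_lit 5,nat_lit 8,[],mk []),(nat_lit 8,nat_lit 5,[],mk []),(nat_lit 10,nat_lit 4,[],mk [])]⟩
def t89 : TE := ⟨nat_lit 89,nat_lit 89,nat_lit 89,[],[],mk [],mk [],[(nat_lit 1,nat_lit 88,[nat_lit 2, nat_lit 4, nat_lit 8, nat_lit 11, nat_lit 22, nat_lit 44, nat_lit 88],mk [nat_lit 2, nat_lit 4, nat_lit 8, nat_lit 11, nat_lit 22, nat_lit 44, nat_lit 88]),(nat_lit 2,nat_lit 44,[nat_lit 2, nat_lit 4, nat_lit 11, nat_lit 22, nat_lit 44],mk [nat_lit 2, nat_lit 4, nat_lit 11, nat_lit 22, nat_lit 44]),(nat_lit 4,nat_lit 22,[nat_lit 2, nat_lit 11, nat_lit 22],mk [nat_lit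 2, nat_lit 11, nat_lit 22]),(nat_lit 8,nat_lit 11,[nat_lit 11],mk [nat_lit 11])]⟩
def t91 : TE := ⟨nat_lit 91,nat_lit 0,nat_lit 7,[nat_lit 13],[nat_lit 7, nat_lit 13],mk [nat_lit 7, nat_lit 13],mk [nat_lit 13, nat_lit 7],[(nat_lit 1,nat_lit 72,[],mk []),(nat_lit 2,nat_lit 36,[],mk []),(nat_lit 3,nat_lit 24,[],mk []),(nat_lit 4,nat_lit 18,[],mk []),(nat_lit 6,nat_lit 12,[],mk []),(nat_lit 8,nat_lit 9,[],mk []),(nat_lit 9,nat_lit 8,[],mk [])]⟩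
def t92 : TE := ⟨nat_lit 92,nat_lit 0,nat_lit 2,[nat_lit 23],[nat_lit 2, nat_lit 4, nat_lit 23, nat_lit 46],mk [nat_lit 2, nat_lit 4, nat_lit 23, nat_lit 46],mk [nat_lit 4],[(nat_lit 1,nat_lit 44,[],mk []),(nat_lit 2,nat_lit 22,[],mk []),(nat_lit 4,nat_lit 11,[],mk [])]⟩
def t93 : TE := ⟨nat_lit 93,nat_lit 0,nat_lit 3,[nat_lit 31],[nat_lit 3, nat_lit 31],mk [nat_lit 3, nat_lit 31],mk [nat_lit 31, nat_lit 3],[(nat_lit 1,nat_lit 60,[],mk []),(nat_lit 2,nat_lit 30,[],mk []),(nat_lit 3,nat_lit 20,[],mk []),(nat_lit 4,nat_lit 15,[],mk []),(nat_lit 5,nat_lit 12,[],mk []),(nat_lit 6,nat_lit 10,[],mk []),(nat_lit 10,nat_lit 6,[],mk [])]⟩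
def t94 : TE := ⟨nat_lit 94,nat_lit 0,nat_lit 2,[nat_lit 47],[nat_lit 2, nat_lit 47],mk [nat_lit 2, nat_lit 47],mk [nat_lit 47, nat_lit 2],[(nat_lit 1,nat_lit 46,[],mk []),(nat_lit 2,nat_lit 23,[],mk [])]⟩
def t95 : TE := ⟨nat_lit 95,nat_lit 0,nat_lit 5,[nat_lit 19],[nat_lit 5, nat_lit 19],mk [nat_lit 5, nat_lit 19],mk [nat_lit 19, nat_lit 5],[(nat_lit 1,nat_lit 72,[],mk []),(nat_lit 2,nat_lit 36,[],mk []),(nat_lit 3,nat_lit 24,[],mk []),(nat_lit 4,nat_lit 18,[],mk []),(nat_lit 6,nat_lit 12,[],mk []),(nat_lit 8,nat_lit 9,[],mk []),(nat_lit 9,nat_lit 8,[],mk [])]⟩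
def t97 : TE := ⟨nat_lit 97,nat_lit 97,nat_lit 97,[],[],mk [],mk [],[(nat_lit 1,nat_lit 96,[nat_lit 2, nat_lit 3, nat_lit 4, nat_lit 6, nat_lit 8, nat_lit 12, nat_lit 16, nat_lit 24, nat_lit 32, nat_lit 48, nat_lit 96],mk [nat_lit 2, nat_lit 3, nat_lit 4, nat_lit 6, nat_lit 8, nat_lit 12, nat_lit 16, nat_lit 24, nat_lit 32, nat_lit 48, nat_lit 96]),(nat_lit 2,nat_lit 48,[nat_lit 2, nat_lit 3, nat_lit 4, nat_lit 6, nat_lit 8, nat_lit 12, nat_lit 16, nat_lit 24, nat_lit 48],mk [nat_lit 2, nat_lit 3, nat_lit 4, nat_lit 6, nat_lit 8, nat_lit 12, nat_lit 16, nat_lit 24, nat_lit 48]),(nat_lit 3,nat_lit 32,[nat_lit 2, nat_lit 4, nat_lit 8, nat_lit 16, nat_lit 32],mk [nat_lit 2, nat_lit 4, nat_lit 8, nat_lit 16, nat_lit 32]),(nat_lit 4,nat_lit 24,[nat_lit 2, nat_lit 3, nat_lit 4, nat_lit 6, nat_lit 8, nat_lit 12, nat_lit 24],mk [nat_lit 2, nat_lit 3, nat_lit 4, nat_lit 6, nat_lit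 8, nat_lit 12, nat_lit 24]),(nat_lit 6,nat_lit 16,[nat_lit 2, nat_lit 4, nat_lit 8, nat_lit 16],mk [nat_lit 2, nat_lit 4, nat_lit 8, nat_lit 16]),(nat_lit 8,nat_lit 12,[nat_lit 2, nat_lit 3, nat_lit 4, nat_lit 6, nat_lit 12],mk [nat_lit 2, nat_lit 3, nat_lit 4, nat_lit 6, nat_lit 12])]⟩
def t98 : TE := ⟨nat_lit 98,nat_lit 0,nat_lit 2,[nat_lit 7],[nat_lit 2, nat_lit 7, nat_lit 14, nat_lit 49],mk [nat_lit 2, nat_lit 7, nat_lit 14, nat_lit 49],mk [nat_lit 49],[(nat_lit 1,nat_lit 42,[],mk []),(nat_lit 2,nat_lit 21,[],mk []),(nat_lit 3,nat_lit 14,[],mk []),(nat_lit 6,nat_lit 7,[],mk []),(nat_lit 7,nat_lit 6,[],mk [])]⟩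
def t99 : TE := ⟨nat_lit 99,nat_lit 0,nat_lit 3,[nat_lit 11],[nat_lit 3, nat_lit 9, nat_lit 11, nat_lit 33],mk [nat_lit 3, nat_lit 9, nat_lit 11, nat_lit 33],mk [nat_lit 9],[(nat_lit 1,nat_lit 60,[],mk []),(nat_lit 2,nat_lit 30,[],mk []),(nat_lit 3,nat_lit 20,[],mk []),(nat_lit 4,nat_lit 15,[],mk []),(nat_lit 5,nat_lit 12,[],mk []),(nat_lit 6,nat_lit 10,[],mk []),(nat_lit 10,nat_lit 6,[],mk [])]⟩
def t100 : TE := ⟨nat_lit 100,nat_lit 0,nat_lit 2,[nat_lit 5],[nat_lit 2, nat_lit 4, nat_lit 5, nat_lit 10, nat_lit 20, nat_lit 25, nat_lit 50],mk [nat_lit 2, nat_lit 4, nat_lit 5, nat_lit 10, nat_lit 20, nat_lit 25, nat_lit 50],mk [],[(nat_lit 1,nat_lit 40,[],mk []),(nat_lit 2,nat_lit 20,[],mk []),(nat_lit 4,nat_lit 10,[],mk []),(nat_lit 5,nat_lit 8,[],mk []),(nat_lit 8,nat_lit 5,[],mk []),(nat_lit 10,nat_lit 4,[],mk [])]⟩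
def t101 : TE := ⟨nat_lit 101,nat_lit 101,nat_lit 101,[],[],mk [],mk [],[(nat_lit 1,nat_lit 100,[nat_lit 2, nat_lit 4, nat_lit 5, nat_lit 10, nat_lit 20, nat_lit 25, nat_lit 50, nat_lit 100],mk [nat_lit 2, nat_lit 4, nat_lit 5, nat_lit 10, nat_lit 20, nat_lit 25, nat_lit 50, nat_lit 100]),(nat_lit 2,nat_lit 50,[nat_lit 2, nat_lit 5, nat_lit 10, nat_lit 25, nat_lit 50],mk [nat_lit 2, nat_lit 5, nat_lit 10, nat_lit 25, nat_lit 50]),(nat_lit 4,nat_lit 25,[nat_lit 5, nat_lit 25],mk [nat_lit 5, nat_lit 25]),(nat_lit 5,nat_lit 20,[nat_lit 2, nat_lit 4, nat_lit 5, nat_lit 10, nat_lit 20],mk [nat_lit 2, nat_lit 4, nat_lit 5, nat_lit 10, nat_lit 20]),(nat_lit 10,nat_lit 10,[nat_lit 2, nat_lit 5, nat_lit 10],mk [nat_lit 2, nat_lit 5, nat_lit 10])]⟩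
def t102 : TE := ⟨nat_lit 102,nat_lit 0,nat_lit 2,[nat_lit 17, nat_lit 3],[nat_lit 2, nat_lit 3, nat_lit 6, nat_lit 17, nat_lit 34, nat_lit 51],mk [nat_lit 2, nat_lit 3, nat_lit 6, nat_lit 17, nat_lit 34, nat_lit 51],mk [nat_lit 51, nat_lit 34, nat_lit 6],[(nat_lit 1,nat_lit 32,[],mk []),(nat_lit 2,nat_lit 16,[],mk []),(nat_lit 4,nat_lit 8,[],mk []),(nat_lit 8,nat_lit 4,[],mk [])]⟩
def t103 : TE := ⟨nat_lit 103,nat_lit 103,nat_lit 103,[],[],mk [],mk [],[(nat_lit 1,nat_lit 102,[nat_lit 2, nat_lit 3, nat_lit 6, nat_lit 17, nat_lit 34, nat_lit 51, nat_lit 102],mk [nat_lit 2, nat_lit 3, nat_lit 6, nat_lit 17, nat_lit 34, nat_lit 51, nat_lit 102]),(nat_lit 2,nat_lit 51,[nat_lit 3, nat_lit 17, nat_lit 51],mk [nat_lit 3, nat_lit 17, nat_lit 51]),(nat_lit 3,nat_lit 34,[nat_lit 2, nat_lit 17, nat_lit 34],mk [nat_lit 2, nat_lit 17, nat_lit 34]),(nat_lit 6,nat_lit 17,[nat_lit 17],mk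 [nat_lit 17])]⟩
def t104 : TE := ⟨nat_lit 104,nat_lit 0,nat_lit 2,[nat_lit 13],[nat_lit 2, nat_lit 4, nat_lit 8, nat_lit 13, nat_lit 26, nat_lit 52],mk [nat_lit 2, nat_lit 4, nat_lit 8, nat_lit 13, nat_lit 26, nat_lit 52],mk [nat_lit 8],[(nat_lit 1,nat_lit 48,[],mk []),(nat_lit 2,nat_lit 24,[],mk []),(nat_lit 3,nat_lit 16,[],mk []),(nat_lit 4,nat_lit 12,[],mk []),(nat_lit 6,nat_lit 8,[],mk []),(nat_lit 8,nat_lit 6,[],mk [])]⟩
def t105 : TE := ⟨nat_lit 105,nat_lit 0,nat_lit 3,[nat_lit 7, nat_lit 5],[nat_lit 3, nat_lit 5, nat_lit 7, nat_lit 15, nat_lit 21, nat_lit 35],mk [nat_lit 3, nat_lit 5, nat_lit 7, nat_lit 15, nat_lit 21, nat_lit 35],mk [nat_lit 35, nat_lit 21, nat_lit 15],[(nat_lit 1,nat_lit 48,[],mk []),(nat_lit 2,nat_lit 24,[],mk []),(nat_lit 3,nat_lit 16,[],mk []),(nat_lit 4,nat_lit 12,[],mk []),(nat_lit 6,nat_lit 8,[],mk []),(nat_lit 8,nat_lit 6,[],mk [])]⟩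
def t106 : TE := ⟨nat_lit 106,nat_lit 0,nat_lit 2,[nat_lit 53],[nat_lit 2, nat_lit 53],mk [nat_lit 2, nat_lit 53],mk [nat_lit 53, nat_lit 2],[(nat_lit 1,nat_lit 52,[],mk []),(nat_lit 2,nat_lit 26,[],mk []),(nat_lit 4,nat_lit 13,[],mk [])]⟩
def t107 : TE := ⟨nat_lit 107,nat_lit 107,nat_lit 107,[],[],mk [],mk [],[(nat_lit 1,nat_lit 106,[nat_lit 2, nat_lit 53, nat_lit 106],mk [nat_lit 2, nat_lit 53, nat_lit 106]),(nat_lit 2,nat_lit 53,[nat_lit 53],mk [nat_lit 53])]⟩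
def t109 : TE := ⟨nat_lit 109,nat_lit 109,nat_lit 109,[],[],mk [],mk [],[(nat_lit 1,nat_lit 108,[nat_lit 2, nat_lit 3, nat_lit 4, nat_lit 6, nat_lit 9, nat_lit 12, nat_lit 18, nat_lit 27, nat_lit 36, nat_lit 54, nat_lit 108],mk [nat_lit 2, nat_lit 3, nat_lit 4, nat_lit 6, nat_lit 9, nat_lit 12, nat_lit 18, nat_lit 27, nat_lit 36, nat_lit 54, nat_lit 108]),(nat_lit 2,nat_lit 54,[nat_lit 2, nat_lit 3, nat_lit 6, nat_lit 9, nat_lit 18, nat_lit 27, nat_lit 54],mk [nat_lit 2, nat_lit 3, nat_lit 6, nat_lit 9, nat_lit 18, nat_lit 27, nat_lit 54]),(nat_lit 3,nat_lit 36,[nat_lit 2, nat_lit 3, nat_lit 4, nat_lit 6, nat_lit 9, nat_lit 12, nat_lit 18, nat_lit 36],mk [nat_lit 2, nat_lit 3, nat_lit 4, nat_lit 6, nat_lit 9, nat_lit 12, nat_lit 18, nat_lit 36]),(nat_lit 4,nat_lit 27,[nat_lit 3, nat_lit 9, nat_lit 27],mk [nat_lit 3, nat_lit 9, nat_lit 27]),(nat_lit 6,nat_lit 18,[nat_lit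 2, nat_lit 3, nat_lit 6, nat_lit 9, nat_lit 18],mk [nat_lit 2, nat_lit 3, nat_lit 6, nat_lit 9, nat_lit 18]),(nat_lit 9,nat_lit 12,[nat_lit 2, nat_lit 3, nat_lit 4, nat_lit 6, nat_lit 12],mk [nat_lit 2, nat_lit 3, nat_lit 4, nat_lit 6, nat_lit 12])]⟩
def t110 : TE := ⟨nat_lit 110,nat_lit 0,nat_lit 2,[nat_lit 11, nat_lit 5],[nat_lit 2, nat_lit 5, nat_lit 10, nat_lit 11, nat_lit 22, nat_lit 55],mk [nat_lit 2, nat_lit 5, nat_lit 10, nat_lit 11, nat_lit 22, nat_lit 55],mk [nat_lit 55, nat_lit 22, nat_lit 10],[(nat_lit 1,nat_lit 40,[],mk []),(nat_lit 2,nat_lit 20,[],mk []),(nat_lit 4,nat_lit 10,[],mk []),(nat_lit 5,nat_lit 8,[],mk []),(nat_lit 8,nat_lit 5,[],mk []),(nat_lit 10,nat_lit 4,[],mk [])]⟩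
def t111 : TE := ⟨nat_lit 111,nat_lit 0,nat_lit 3,[nat_lit 37],[nat_lit 3, nat_lit 37],mk [nat_lit 3, nat_lit 37],mk [nat_lit 37, nat_lit 3],[(nat_lit 1,nat_lit 72,[],mk []),(nat_lit 2,nat_lit 36,[],mk []),(nat_lit 3,nat_lit 24,[],mk []),(nat_lit 4,nat_lit 18,[],mk []),(nat_lit 6,nat_lit 12,[],mk []),(nat_lit 8,nat_lit 9,[],mk []),(nat_lit 9,nat_lit 8,[],mk [])]⟩
def t114 : TE := ⟨nat_lit 114,nat_lit 0,nat_lit 2,[nat_lit 19, nat_lit 3],[nat_lit 2, nat_lit 3, nat_lit 6, nat_lit 19, nat_lit 38, nat_lit 57],mk [nat_lit 2, nat_lit 3, nat_lit 6, nat_lit 19, nat_lit 38, nat_lit 57],mk [nat_lit 57, nat_lit 38, nat_lit 6],[(nat_lit 1,nat_lit 36,[],mk []),(nat_lit 2,nat_lit 18,[],mk []),(nat_lit 3,nat_lit 12,[],mk []),(nat_lit 4,nat_lit 9,[],mk []),(nat_lit 6,nat_lit 6,[],mk []),(nat_lit 9,nat_lit 4,[],mk [])]⟩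
def t115 : TE := ⟨nat_lit 115,nat_lit 0,nat_lit 5,[nat_lit 23],[nat_lit 5, nat_lit 23],mk [nat_lit 5, nat_lit 23],mk [nat_lit 23, nat_lit 5],[(nat_lit 1,nat_lit 88,[],mk []),(nat_lit 2,nat_lit 44,[],mk []),(nat_lit 4,nat_lit 22,[],mk []),(nat_lit 8,nat_lit 11,[],mk [])]⟩
def t116 : TE := ⟨nat_lit 116,nat_lit 0,nat_lit 2,[nat_lit 29],[nat_lit 2, nat_lit 4, nat_lit 29, nat_lit 58],mk [nat_lit 2, nat_lit 4, nat_lit 29, nat_lit 58],mk [nat_lit 4],[(nat_lit 1,nat_lit 56,[],mk []),(nat_lit 2,nat_lit 28,[],mk []),(nat_lit 4,nat_lit 14,[],mk []),(nat_lit 7,nat_lit 8,[],mk []),(nat_lit 8,nat_lit 7,[],mk [])]⟩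
def t117 : TE := ⟨nat_lit 117,nat_lit 0,nat_lit 3,[nat_lit 13],[nat_lit 3, nat_lit 9, nat_lit 13, nat_lit 39],mk [nat_lit 3, nat_lit 9, nat_lit 13, nat_lit 39],mk [nat_lit 9],[(nat_lit 1,nat_lit 72,[],mk []),(nat_lit 2,nat_lit 36,[],mk []),(nat_lit 3,nat_lit 24,[],mk []),(nat_lit 4,nat_lit 18,[],mk []),(nat_lit 6,nat_lit 12,[],mk []),(nat_lit 8,nat_lit 9,[],mk []),(nat_lit 9,nat_lit 8,[],mk [])]⟩
def t118 : TE := ⟨nat_lit 118,nat_lit 0,nat_lit 2,[nat_lit 59],[nat_lit 2, nat_lit 59],mk [nat_lit 2, nat_lit 59],mk [nat_lit 59, nat_lit 2],[(nat_lit 1,nat_lit 58,[],mk []),(nat_lit 2,nat_lit 29,[],mk [])]⟩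
def t119 : TE := ⟨nat_lit 119,nat_lit 0,nat_lit 7,[nat_lit 17],[nat_lit 7, nat_lit 17],mk [nat_lit 7, nat_lit 17],mk [nat_lit 17, nat_lit 7],[(nat_lit 1,nat_lit 96,[],mk []),(nat_lit 2,nat_lit 48,[],mk []),(nat_lit 3,nat_lit 32,[],mk []),(nat_lit 4,nat_lit 24,[],mk []),(nat_lit 6,nat_lit 16,[],mk []),(nat_lit 8,nat_lit 12,[],mk [])]⟩
def t121 : TE := ⟨nat_lit 121,nat_lit 11,nat_lit 11,[],[nat_lit 11],mk [nat_lit 11],mk [],[(nat_lit 1,nat_lit 110,[nat_lit 2, nat_lit 5, nat_lit 10, nat_lit 11, nat_lit 22, nat_lit 55, nat_lit 110],mk [nat_lit 2, nat_lit 5, nat_lit 10, nat_lit 11, nat_lit 22, nat_lit 55, nat_lit 110]),(nat_lit 2,nat_lit 55,[nat_lit 5, nat_lit 11, nat_lit 55],mk [nat_lit 5, nat_lit 11, nat_lit 55]),(nat_lit 5,nat_lit 22,[nat_lit 2, nat_lit 11, nat_lit 22],mk [nat_lit 2, nat_lit 11, nat_lit 22]),(nat_lit 10,nat_lit 11,[nat_lit 11],mk [nat_lit 11])]⟩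
def t122 : TE := ⟨nat_lit 122,nat_lit 0,nat_lit 2,[nat_lit 61],[nat_lit 2, nat_lit 61],mk [nat_lit 2, nat_lit 61],mk [nat_lit 61, nat_lit 2],[(nat_lit 1,nat_lit 60,[],mk []),(nat_lit 2,nat_lit 30,[],mk []),(nat_lit 3,nat_lit 20,[],mk []),(nat_lit 4,nat_lit 15,[],mk []),(nat_lit 5,nat_lit 12,[],mk []),(nat_lit 6,nat_lit 10,[],mk []),(nat_lit 10,nat_lit 6,[],mk [])]⟩
def t123 : TE := ⟨nat_lit 123,nat_lit 0,nat_lit 3,[nat_lit 41],[nat_lit 3, nat_lit 41],mk [nat_lit 3, nat_lit 41],mk [nat_lit 41, nat_lit 3],[(nat_lit 1,nat_lit 80,[],mk []),(nat_lit 2,nat_lit 40,[],mk []),(nat_lit 4,nat_lit 20,[],mk []),(nat_lit 5,nat_lit 16,[],mk []),(nat_lit 8,nat_lit 10,[],mk []),(nat_lit 10,nat_lit 8,[],mk [])]⟩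
def t124 : TE := ⟨nat_lit 124,nat_lit 0,nat_lit 2,[nat_lit 31],[nat_lit 2, nat_lit 4, nat_lit 31, nat_lit 62],mk [nat_lit 2, nat_lit 4, nat_lit 31, nat_lit 62],mk [nat_lit 4],[(nat_lit 1,nat_lit 60,[],mk []),(nat_lit 2,nat_lit 30,[],mk []),(nat_lit 3,nat_lit 20,[],mk []),(nat_lit 4,nat_lit 15,[],mk []),(nat_lit 5,nat_lit 12,[],mk []),(nat_lit 6,nat_lit 10,[],mk []),(nat_lit 10,nat_lit 6,[],mk [])]⟩
def t125 : TE := ⟨nat_lit 125,nat_lit 5,nat_lit 5,[],[nat_lit 5, nat_lit 25],mk [nat_lit 5, nat_lit 25],mk [],[(nat_lit 1,nat_lit 100,[nat_lit 2, nat_lit 4, nat_lit 5, nat_lit 10, nat_lit 20, nat_lit 25, nat_lit 50, nat_lit 100],mk [nat_lit 2, nat_lit 4, nat_lit 5, nat_lit 10, nat_lit 20, nat_lit 25, nat_lit 50, nat_lit 100]),(nat_lit 2,nat_lit 50,[nat_lit 2, nat_lit 5, nat_lit 10, nat_lit 25, nat_lit 50],mk [nat_lit 2, nat_lit 5, nat_lit 10, nat_lit 25, nat_lit 50]),(nat_lit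 4,nat_lit 25,[nat_lit 5, nat_lit 25],mk [nat_lit 5, nat_lit 25]),(nat_lit 5,nat_lit 20,[nat_lit 2, nat_lit 4, nat_lit 5, nat_lit 10, nat_lit 20],mk [nat_lit 2, nat_lit 4, nat_lit 5, nat_lit 10, nat_lit 20]),(nat_lit 10,nat_lit 10,[nat_lit 2, nat_lit 5, nat_lit 10],mk [nat_lit 2, nat_lit 5, nat_lit 10])]⟩
def t127 : TE := ⟨nat_lit 127,nat_lit 127,nat_lit 127,[],[],mk [],mk [],[(nat_lit 1,nat_lit 126,[nat_lit 2, nat_lit 3, nat_lit 6, nat_lit 7, nat_lit 9, nat_lit 14, nat_lit 18, nat_lit 21, nat_lit 42, nat_lit 63, nat_lit 126],mk [nat_lit 2, nat_lit 3, nat_lit 6, nat_lit 7, nat_lit 9, nat_lit 14, nat_lit 18, nat_lit 21, nat_lit 42, nat_lit 63, nat_lit 126]),(nat_lit 2,nat_lit 63,[nat_lit 3, nat_lit 7, nat_lit 9, nat_lit 21, nat_lit 63],mk [nat_lit 3, nat_lit 7, nat_lit 9, nat_lit 21, nat_lit 63]),(nat_lit 3,nat_lit 42,[nat_lit 2, nat_lit 3, nat_lit 6, nat_lit 7, nat_lit 14,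 nat_lit 21, nat_lit 42],mk [nat_lit 2, nat_lit 3, nat_lit 6, nat_lit 7, nat_lit 14, nat_lit 21, nat_lit 42]),(nat_lit 6,nat_lit 21,[nat_lit 3, nat_lit 7, nat_lit 21],mk [nat_lit 3, nat_lit 7, nat_lit 21]),(nat_lit 7,nat_lit 18,[nat_lit 2, nat_lit 3, nat_lit 6, nat_lit 9, nat_lit 18],mk [nat_lit 2, nat_lit 3, nat_lit 6, nat_lit 9, nat_lit 18]),(nat_lit 9,nat_lit 14,[nat_lit 2, nat_lit 7, nat_lit 14],mk [nat_lit 2, nat_lit 7, nat_lit 14])]⟩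
def t128 : TE := ⟨nat_lit 128,nat_lit 2,nat_lit 2,[],[nat_lit 2, nat_lit 4, nat_lit 8, nat_lit 16, nat_lit 32, nat_lit 64],mk [nat_lit 2, nat_lit 4, nat_lit 8, nat_lit 16, nat_lit 32, nat_lit 64],mk [],[(nat_lit 1,nat_lit 64,[],mk []),(nat_lit 2,nat_lit 32,[],mk []),(nat_lit 4,nat_lit 16,[],mk []),(nat_lit 8,nat_lit 8,[],mk [])]⟩
def t129 : TE := ⟨nat_lit 129,nat_lit 0,nat_lit 3,[nat_lit 43],[nat_lit 3, nat_lit 43],mk [nat_lit 3, nat_lit 43],mk [nat_lit 43, nat_lit 3],[(nat_lit 1,nat_lit 84,[],mk []),(nat_lit 2,nat_lit 42,[],mk []),(nat_lit 3,nat_lit 28,[],mk []),(nat_lit 4,nat_lit 21,[],mk []),(nat_lit 6,nat_lit 14,[],mk []),(nat_lit 7,nat_lit 12,[],mk [])]⟩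
def t130 : TE := ⟨nat_lit 130,nat_lit 0,nat_lit 2,[nat_lit 13, nat_lit 5],[nat_lit 2, nat_lit 5, nat_lit 10, nat_lit 13, nat_lit 26, nat_lit 65],mk [nat_lit 2, nat_lit 5, nat_lit 10, nat_lit 13, nat_lit 26, nat_lit 65],mk [nat_lit 65, nat_lit 26, nat_lit 10],[(nat_lit 1,nat_lit 48,[],mk []),(nat_lit 2,nat_lit 24,[],mk []),(nat_lit 3,nat_lit 16,[],mk []),(nat_lit 4,nat_lit 12,[],mk []),(nat_lit 6,nat_lit 8,[],mk []),(nat_lit 8,nat_lit 6,[],mk [])]⟩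
def t131 : TE := ⟨nat_lit 131,nat_lit 131,nat_lit 131,[],[],mk [],mk [],[(nat_lit 1,nat_lit 130,[nat_lit 2, nat_lit 5, nat_lit 10, nat_lit 13, nat_lit 26, nat_lit 65, nat_lit 130],mk [nat_lit 2, nat_lit 5, nat_lit 10, nat_lit 13, nat_lit 26, nat_lit 65, nat_lit 130]),(nat_lit 2,nat_lit 65,[nat_lit 5, nat_lit 13, nat_lit 65],mk [nat_lit 5, nat_lit 13, nat_lit 65]),(nat_lit 5,nat_lit 26,[nat_lit 2, nat_lit 13, nat_lit 26],mk [nat_lit 2, nat_lit 13, nat_lit 26]),(nat_lit 10,nat_lit 13,[nat_lit 13],mk [nat_lit 13])]⟩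
def t133 : TE := ⟨nat_lit 133,nat_lit 0,nat_lit 7,[nat_lit 19],[nat_lit 7, nat_lit 19],mk [nat_lit 7, nat_lit 19],mk [nat_lit 19, nat_lit 7],[(nat_lit 1,nat_lit 108,[],mk []),(nat_lit 2,nat_lit 54,[],mk []),(nat_lit 3,nat_lit 36,[],mk []),(nat_lit 4,nat_lit 27,[],mk []),(nat_lit 6,nat_lit 18,[],mk []),(nat_lit 9,nat_lit 12,[],mk [])]⟩
def t134 : TE := ⟨nat_lit 134,nat_lit 0,nat_lit 2,[nat_lit 67],[nat_lit 2, nat_lit 67],mk [nat_lit 2, nat_lit 67],mk [nat_lit 67, nat_lit 2],[(nat_lit 1,nat_lit 66,[],mk []),(nat_lit 2,nat_lit 33,[],mk []),(nat_lit 3,nat_lit 22,[],mk []),(nat_lit 6,nat_lit 11,[],mk [])]⟩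
def t135 : TE := ⟨nat_lit 135,nat_lit 0,nat_lit 3,[nat_lit 5],[nat_lit 3, nat_lit 5, nat_lit 9, nat_lit 15, nat_lit 27, nat_lit 45],mk [nat_lit 3, nat_lit 5, nat_lit 9, nat_lit 15, nat_lit 27, nat_lit 45],mk [nat_lit 27],[(nat_lit 1,nat_lit 72,[],mk []),(nat_lit 2,nat_lit 36,[],mk []),(nat_lit 3,nat_lit 24,[],mk []),(nat_lit 4,nat_lit 18,[],mk []),(nat_lit 6,nat_lit 12,[],mk []),(nat_lit 8,nat_lit 9,[],mk []),(nat_lit 9,nat_lit 8,[],mk [])]⟩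
def t136 : TE := ⟨nat_lit 136,nat_lit 0,nat_lit 2,[nat_lit 17],[nat_lit 2, nat_lit 4, nat_lit 8, nat_lit 17, nat_lit 34, nat_lit 68],mk [nat_lit 2, nat_lit 4, nat_lit 8, nat_lit 17, nat_lit 34, nat_lit 68],mk [nat_lit 8],[(nat_lit 1,nat_lit 64,[],mk []),(nat_lit 2,nat_lit 32,[],mk []),(nat_lit 4,nat_lit 16,[],mk []),(nat_lit 8,nat_lit 8,[],mk [])]⟩
def t137 : TE := ⟨nat_lit 137,nat_lit 137,nat_lit 137,[],[],mk [],mk [],[(nat_lit 1,nat_lit 136,[nat_lit 2, nat_lit 4, nat_lit 8, nat_lit 17, nat_lit 34, nat_lit 68, nat_lit 136],mk [nat_lit 2, nat_lit 4, nat_lit 8, nat_lit 17, nat_lit 34, nat_lit 68, nat_lit 136]),(nat_lit 2,nat_lit 68,[nat_lit 2, nat_lit 4, nat_lit 17, nat_lit 34, nat_lit 68],mk [nat_lit 2, nat_lit 4, nat_lit 17, nat_lit 34, nat_lit 68]),(nat_lit 4,nat_lit 34,[nat_lit 2, nat_lit 17, nat_lit 34],mk [nat_lit 2, nat_lit 17, nat_lit 34]),(nat_lit 8,nat_lit 17,[nat_lit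 17],mk [nat_lit 17])]⟩
def t142 : TE := ⟨nat_lit 142,nat_lit 0,nat_lit 2,[nat_lit 71],[nat_lit 2, nat_lit 71],mk [nat_lit 2, nat_lit 71],mk [nat_lit 71, nat_lit 2],[(nat_lit 1,nat_lit 70,[],mk []),(nat_lit 2,nat_lit 35,[],mk []),(nat_lit 5,nat_lit 14,[],mk []),(nat_lit 7,nat_lit 10,[],mk []),(nat_lit 10,nat_lit 7,[],mk [])]⟩
def t143 : TE := ⟨nat_lit 143,nat_lit 0,nat_lit 11,[nat_lit 13],[nat_lit 11, nat_lit 13],mk [nat_lit 11, nat_lit 13],mk [nat_lit 13, nat_lit 11],[(nat_lit 1,nat_lit 120,[],mk []),(nat_lit 2,nat_lit 60,[],mk []),(nat_lit 3,nat_lit 40,[],mk []),(nat_lit 4,nat_lit 30,[],mk []),(nat_lit 5,nat_lit 24,[],mk []),(nat_lit 6,nat_lit 20,[],mk []),(nat_lit 8,nat_lit 15,[],mk []),(nat_lit 10,nat_lit 12,[],mk [])]⟩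
def t145 : TE := ⟨nat_lit 145,nat_lit 0,nat_lit 5,[nat_lit 29],[nat_lit 5, nat_lit 29],mk [nat_lit 5, nat_lit 29],mk [nat_lit 29, nat_lit 5],[(nat_lit 1,nat_lit 112,[],mk []),(nat_lit 2,nat_lit 56,[],mk []),(nat_lit 4,nat_lit 28,[],mk []),(nat_lit 7,nat_lit 16,[],mk []),(nat_lit 8,nat_lit 14,[],mk [])]⟩
def t146 : TE := ⟨nat_lit 146,nat_lit 0,nat_lit 2,[nat_lit 73],[nat_lit 2, nat_lit 73],mk [nat_lit 2, nat_lit 73],mk [nat_lit 73, nat_lit 2],[(nat_lit 1,nat_lit 72,[],mk []),(nat_lit 2,nat_lit 36,[],mk []),(nat_lit 3,nat_lit 24,[],mk []),(nat_lit 4,nat_lit 18,[],mk []),(nat_lit 6,nat_lit 12,[],mk []),(nat_lit 8,nat_lit 9,[],mk []),(nat_lit 9,nat_lit 8,[],mk [])]⟩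
def t147 : TE := ⟨nat_lit 147,nat_lit 0,nat_lit 3,[nat_lit 7],[nat_lit 3, nat_lit 7, nat_lit 21, nat_lit 49],mk [nat_lit 3, nat_lit 7, nat_lit 21, nat_lit 49],mk [nat_lit 49],[(nat_lit 1,nat_lit 84,[],mk []),(nat_lit 2,nat_lit 42,[],mk []),(nat_lit 3,nat_lit 28,[],mk []),(nat_lit 4,nat_lit 21,[],mk []),(nat_lit 6,nat_lit 14,[],mk []),(nat_lit 7,nat_lit 12,[],mk [])]⟩
def t148 : TE := ⟨nat_lit 148,nat_lit 0,nat_lit 2,[nat_lit 37],[nat_lit 2, nat_lit 4, nat_lit 37, nat_lit 74],mk [nat_lit 2, nat_lit 4, nat_lit 37, nat_lit 74],mk [nat_lit 4],[(nat_lit 1,nat_lit 72,[],mk []),(nat_lit 2,nat_lit 36,[],mk []),(nat_lit 3,nat_lit 24,[],mk []),(nat_lit 4,nat_lit 18,[],mk []),(nat_lit 6,nat_lit 12,[],mk []),(nat_lit 8,nat_lit 9,[],mk []),(nat_lit 9,nat_lit 8,[],mk [])]⟩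
def t149 : TE := ⟨nat_lit 149,nat_lit 149,nat_lit 149,[],[],mk [],mk [],[(nat_lit 1,nat_lit 148,[nat_lit 2, nat_lit 4, nat_lit 37, nat_lit 74, nat_lit 148],mk [nat_lit 2, nat_lit 4, nat_lit 37, nat_lit 74, nat_lit 148]),(nat_lit 2,nat_lit 74,[nat_lit 2, nat_lit 37, nat_lit 74],mk [nat_lit 2, nat_lit 37, nat_lit 74]),(nat_lit 4,nat_lit 37,[nat_lit 37],mk [nat_lit 37])]⟩
def t151 : TE := ⟨nat_lit 151,nat_lit 151,nat_lit 151,[],[],mk [],mk [],[(nat_lit 1,nat_lit 150,[nat_lit 2, nat_lit 3, nat_lit 5, nat_lit 6, nat_lit 10, nat_lit 15, nat_lit 25, nat_lit 30, nat_lit 50, nat_lit 75, nat_lit 150],mk [nat_lit 2, nat_lit 3, nat_lit 5, nat_lit 6, nat_lit 10, nat_lit 15, nat_lit 25, nat_lit 30, nat_lit 50, nat_lit 75, nat_lit 150]),(nat_lit 2,nat_lit 75,[nat_lit 3, nat_lit 5, nat_lit 15, nat_lit 25, nat_lit 75],mk [nat_lit 3, nat_lit 5, nat_lit 15, nat_lit 25, nat_lit 75]),(nat_lit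 3,nat_lit 50,[nat_lit 2, nat_lit 5, nat_lit 10, nat_lit 25, nat_lit 50],mk [nat_lit 2, nat_lit 5, nat_lit 10, nat_lit 25, nat_lit 50]),(nat_lit 5,nat_lit 30,[nat_lit 2, nat_lit 3, nat_lit 5, nat_lit 6, nat_lit 10, nat_lit 15, nat_lit 30],mk [nat_lit 2, nat_lit 3, nat_lit 5, nat_lit 6, nat_lit 10, nat_lit 15, nat_lit 30]),(nat_lit 6,nat_lit 25,[nat_lit 5, nat_lit 25],mk [nat_lit 5, nat_lit 25]),(nat_lit 10,nat_lit 15,[nat_lit 3, nat_lit 5, nat_lit 15],mk [nat_lit 3, nat_lit 5, nat_lit 15])]⟩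
def t152 : TE := ⟨nat_lit 152,nat_lit 0,nat_lit 2,[nat_lit 19],[nat_lit 2, nat_lit 4, nat_lit 8, nat_lit 19, nat_lit 38, nat_lit 76],mk [nat_lit 2, nat_lit 4, nat_lit 8, nat_lit 19, nat_lit 38, nat_lit 76],mk [nat_lit 8],[(nat_lit 1,nat_lit 72,[],mk []),(nat_lit 2,nat_lit 36,[],mk []),(nat_lit 3,nat_lit 24,[],mk []),(nat_lit 4,nat_lit 18,[],mk []),(nat_lit 6,nat_lit 12,[],mk []),(nat_lit 8,nat_lit 9,[],mk []),(nat_lit 9,nat_lit 8,[],mk [])]⟩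
def t153 : TE := ⟨nat_lit 153,nat_lit 0,nat_lit 3,[nat_lit 17],[nat_lit 3, nat_lit 9, nat_lit 17, nat_lit 51],mk [nat_lit 3, nat_lit 9, nat_lit 17, nat_lit 51],mk [nat_lit 9],[(nat_lit 1,nat_lit 96,[],mk []),(nat_lit 2,nat_lit 48,[],mk []),(nat_lit 3,nat_lit 32,[],mk []),(nat_lit 4,nat_lit 24,[],mk []),(nat_lit 6,nat_lit 16,[],mk []),(nat_lit 8,nat_lit 12,[],mk [])]⟩
def t155 : TE := ⟨nat_lit 155,nat_lit 0,nat_lit 5,[nat_lit 31],[nat_lit 5, nat_lit 31],mk [nat_lit 5, nat_lit 31],mk [nat_lit 31, nat_lit 5],[(nat_lit 1,nat_lit 120,[],mk []),(nat_lit 2,nat_lit 60,[],mk []),(nat_lit 3,nat_lit 40,[],mk []),(nat_lit 4,nat_lit 30,[],mk []),(nat_lit 5,nat_lit 24,[],mk []),(nat_lit 6,nat_lit 20,[],mk []),(nat_lit 8,nat_lit 15,[],mk []),(nat_lit 10,nat_lit 12,[],mk [])]⟩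
def t157 : TE := ⟨nat_lit 157,nat_lit 157,nat_lit 157,[],[],mk [],mk [],[(nat_lit 1,nat_lit 156,[nat_lit 2, nat_lit 3, nat_lit 4, nat_lit 6, nat_lit 12, nat_lit 13, nat_lit 26, nat_lit 39, nat_lit 52, nat_lit 78, nat_lit 156],mk [nat_lit 2, nat_lit 3, nat_lit 4, nat_lit 6, nat_lit 12, nat_lit 13, nat_lit 26, nat_lit 39, nat_lit 52, nat_lit 78, nat_lit 156]),(nat_lit 2,nat_lit 78,[nat_lit 2, nat_lit 3, nat_lit 6, nat_lit 13, nat_lit 26, nat_lit 39, nat_lit 78],mk [nat_lit 2, nat_lit 3, nat_lit 6, nat_lit 13, nat_lit 26, nat_lit 39, nat_lit 78]),(nat_lit 3,nat_lit 52,[nat_lit 2, nat_lit 4, nat_lit 13, nat_lit 26, nat_lit 52],mk [nat_lit 2, nat_lit 4, nat_lit 13, nat_lit 26, nat_lit 52]),(nat_lit 4,nat_lit 39,[nat_lit 3, nat_lit 13, nat_lit 39],mk [nat_lit 3, nat_lit 13, nat_lit 39]),(nat_lit 6,nat_lit 26,[nat_lit 2, nat_lit 13, nat_lit 26],mk [nat_lit 2, nat_lit 13, nat_lit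 26])]⟩
def t158 : TE := ⟨nat_lit 158,nat_lit 0,nat_lit 2,[nat_lit 79],[nat_lit 2, nat_lit 79],mk [nat_lit 2, nat_lit 79],mk [nat_lit 79, nat_lit 2],[(nat_lit 1,nat_lit 78,[],mk []),(nat_lit 2,nat_lit 39,[],mk []),(nat_lit 3,nat_lit 26,[],mk []),(nat_lit 6,nat_lit 13,[],mk [])]⟩
def t159 : TE := ⟨nat_lit 159,nat_lit 0,nat_lit 3,[nat_lit 53],[nat_lit 3, nat_lit 53],mk [nat_lit 3, nat_lit 53],mk [nat_lit 53, nat_lit 3],[(nat_lit 1,nat_lit 104,[],mk []),(nat_lit 2,nat_lit 52,[],mk []),(nat_lit 4,nat_lit 26,[],mk []),(nat_lit 8,nat_lit 13,[],mk [])]⟩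
def t162 : TE := ⟨nat_lit 162,nat_lit 0,nat_lit 2,[nat_lit 3],[nat_lit 2, nat_lit 3, nat_lit 6, nat_lit 9, nat_lit 18, nat_lit 27, nat_lit 54, nat_lit 81],mk [nat_lit 2, nat_lit 3, nat_lit 6, nat_lit 9, nat_lit 18, nat_lit 27, nat_lit 54, nat_lit 81],mk [nat_lit 81],[(nat_lit 1,nat_lit 54,[],mk []),(nat_lit 2,nat_lit 27,[],mk []),(nat_lit 3,nat_lit 18,[],mk []),(nat_lit 6,nat_lit 9,[],mk []),(nat_lit 9,nat_lit 6,[],mk [])]⟩
def t163 : TE := ⟨nat_lit 163,nat_lit 163,nat_lit 163,[],[],mk [],mk [],[(nat_lit 1,nat_lit 162,[nat_lit 2, nat_lit 3, nat_lit 6, nat_lit 9, nat_lit 18, nat_lit 27, nat_lit 54, nat_lit 81, nat_lit 162],mk [nat_lit 2, nat_lit 3, nat_lit 6, nat_lit 9, nat_lit 18, nat_lit 27, nat_lit 54, nat_lit 81, nat_lit 162]),(nat_lit 2,nat_lit 81,[nat_lit 3, nat_lit 9, nat_lit 27, nat_lit 81],mk [nat_lit 3, nat_lit 9, nat_lit 27, nat_lit 81]),(nat_lit 3,nat_lit 54,[nat_lit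 2, nat_lit 3, nat_lit 6, nat_lit 9, nat_lit 18, nat_lit 27, nat_lit 54],mk [nat_lit 2, nat_lit 3, nat_lit 6, nat_lit 9, nat_lit 18, nat_lit 27, nat_lit 54]),(nat_lit 6,nat_lit 27,[nat_lit 3, nat_lit 9, nat_lit 27],mk [nat_lit 3, nat_lit 9, nat_lit 27]),(nat_lit 9,nat_lit 18,[nat_lit 2, nat_lit 3, nat_lit 6, nat_lit 9, nat_lit 18],mk [nat_lit 2, nat_lit 3, nat_lit 6, nat_lit 9, nat_lit 18])]⟩
def t164 : TE := ⟨nat_lit 164,nat_lit 0,nat_lit 2,[nat_lit 41],[nat_lit 2, nat_lit 4, nat_lit 41, nat_lit 82],mk [nat_lit 2, nat_lit 4, nat_lit 41, nat_lit 82],mk [nat_lit 4],[(nat_lit 1,nat_lit 80,[],mk []),(nat_lit 2,nat_lit 40,[],mk []),(nat_lit 4,nat_lit 20,[],mk []),(nat_lit 5,nat_lit 16,[],mk []),(nat_lit 8,nat_lit 10,[],mk []),(nat_lit 10,nat_lit 8,[],mk [])]⟩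
def t165 : TE := ⟨nat_lit 165,nat_lit 0,nat_lit 3,[nat_lit 11, nat_lit 5],[nat_lit 3, nat_lit 5, nat_lit 11, nat_lit 15, nat_lit 33, nat_lit 55],mk [nat_lit 3, nat_lit 5, nat_lit 11, nat_lit 15, nat_lit 33, nat_lit 55],mk [nat_lit 55, nat_lit 33, nat_lit 15],[(nat_lit 1,nat_lit 80,[],mk []),(nat_lit 2,nat_lit 40,[],mk []),(nat_lit 4,nat_lit 20,[],mk []),(nat_lit 5,nat_lit 16,[],mk []),(nat_lit 8,nat_lit 10,[],mk []),(nat_lit 10,nat_lit 8,[],mk [])]⟩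
def t166 : TE := ⟨nat_lit 166,nat_lit 0,nat_lit 2,[nat_lit 83],[nat_lit 2, nat_lit 83],mk [nat_lit 2, nat_lit 83],mk [nat_lit 83, nat_lit 2],[(nat_lit 1,nat_lit 82,[],mk []),(nat_lit 2,nat_lit 41,[],mk [])]⟩
def t169 : TE := ⟨nat_lit 169,nat_lit 13,nat_lit 13,[],[nat_lit 13],mk [nat_lit 13],mk [],[(nat_lit 1,nat_lit 156,[nat_lit 2, nat_lit 3, nat_lit 4, nat_lit 6, nat_lit 12, nat_lit 13, nat_lit 26, nat_lit 39, nat_lit 52, nat_lit 78, nat_lit 156],mk [nat_lit 2, nat_lit 3, nat_lit 4, nat_lit 6, nat_lit 12, nat_lit 13, nat_lit 26, nat_lit 39, nat_lit 52, nat_lit 78, nat_lit 156]),(nat_lit 2,nat_lit 78,[nat_lit 2, nat_lit 3, nat_lit 6, nat_lit 13, nat_lit 26, nat_lit 39, nat_lit 78],mk [nat_lit 2, nat_lit 3, nat_lit 6, nat_lit 13, nat_lit 26, nat_lit 39, nat_lit 78]),(nat_lit 3,nat_lit 52,[nat_lit 2, nat_lit 4, nat_lit 13, nat_lit 26, nat_lit 52],mk [nat_lit 2, nat_lit 4,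 nat_lit 13, nat_lit 26, nat_lit 52]),(nat_lit 4,nat_lit 39,[nat_lit 3, nat_lit 13, nat_lit 39],mk [nat_lit 3, nat_lit 13, nat_lit 39]),(nat_lit 6,nat_lit 26,[nat_lit 2, nat_lit 13, nat_lit 26],mk [nat_lit 2, nat_lit 13, nat_lit 26])]⟩
def t170 : TE := ⟨nat_lit 170,nat_lit 0,nat_lit 2,[nat_lit 17, nat_lit 5],[nat_lit 2, nat_lit 5, nat_lit 10, nat_lit 17, nat_lit 34, nat_lit 85],mk [nat_lit 2, nat_lit 5, nat_lit 10, nat_lit 17, nat_lit 34, nat_lit 85],mk [nat_lit 85, nat_lit 34, nat_lit 10],[(nat_lit 1,nat_lit 64,[],mk []),(nat_lit 2,nat_lit 32,[],mk []),(nat_lit 4,nat_lit 16,[],mk []),(nat_lit 8,nat_lit 8,[],mk [])]⟩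
def t171 : TE := ⟨nat_lit 171,nat_lit 0,nat_lit 3,[nat_lit 19],[nat_lit 3, nat_lit 9, nat_lit 19, nat_lit 57],mk [nat_lit 3, nat_lit 9, nat_lit 19, nat_lit 57],mk [nat_lit 9],[(nat_lit 1,nat_lit 108,[],mk []),(nat_lit 2,nat_lit 54,[],mk []),(nat_lit 3,nat_lit 36,[],mk []),(nat_lit 4,nat_lit 27,[],mk []),(nat_lit 6,nat_lit 18,[],mk []),(nat_lit 9,nat_lit 12,[],mk [])]⟩
def t172 : TE := ⟨nat_lit 172,nat_lit 0,nat_lit 2,[nat_lit 43],[nat_lit 2, nat_lit 4, nat_lit 43, nat_lit 86],mk [nat_lit 2, nat_lit 4, nat_lit 43, nat_lit 86],mk [nat_lit 4],[(nat_lit 1,nat_lit 84,[],mk []),(nat_lit 2,nat_lit 42,[],mk []),(nat_lit 3,nat_lit 28,[],mk []),(nat_lit 4,nat_lit 21,[],mk []),(nat_lit 6,nat_lit 14,[],mk []),(nat_lit 7,nat_lit 12,[],mk [])]⟩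
def t173 : TE := ⟨nat_lit 173,nat_lit 173,nat_lit 173,[],[],mk [],mk [],[(nat_lit 1,nat_lit 172,[nat_lit 2, nat_lit 4, nat_lit 43, nat_lit 86, nat_lit 172],mk [nat_lit 2, nat_lit 4, nat_lit 43, nat_lit 86, nat_lit 172]),(nat_lit 2,nat_lit 86,[nat_lit 2, nat_lit 43, nat_lit 86],mk [nat_lit 2, nat_lit 43, nat_lit 86]),(nat_lit 4,nat_lit 43,[nat_lit 43],mk [nat_lit 43])]⟩
def t174 : TE := ⟨nat_lit 174,nat_lit 0,nat_lit 2,[nat_lit 29, nat_lit 3],[nat_lit 2, nat_lit 3, nat_lit 6, nat_lit 29, nat_lit 58, nat_lit 87],mk [nat_lit 2, nat_lit 3, nat_lit 6, nat_lit 29, nat_lit 58, nat_lit 87],mk [nat_lit 87, nat_lit 58, nat_lit 6],[(nat_lit 1,nat_lit 56,[],mk []),(nat_lit 2,nat_lit 28,[],mk []),(nat_lit 4,nat_lit 14,[],mk []),(nat_lit 7,nat_lit 8,[],mk []),(nat_lit 8,nat_lit 7,[],mk [])]⟩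
def t175 : TE := ⟨nat_lit 175,nat_lit 0,nat_lit 5,[nat_lit 7],[nat_lit 5, nat_lit 7, nat_lit 25, nat_lit 35],mk [nat_lit 5, nat_lit 7, nat_lit 25, nat_lit 35],mk [nat_lit 25],[(nat_lit 1,nat_lit 120,[],mk []),(nat_lit 2,nat_lit 60,[],mk []),(nat_lit 3,nat_lit 40,[],mk []),(nat_lit 4,nat_lit 30,[],mk []),(nat_lit 5,nat_lit 24,[],mk []),(nat_lit 6,nat_lit 20,[],mk []),(nat_lit 8,nat_lit 15,[],mk []),(nat_lit 10,nat_lit 12,[],mk [])]⟩
def t177 : TE := ⟨nat_lit 177,nat_lit 0,nat_lit 3,[nat_lit 59],[nat_lit 3, nat_lit 59],mk [nat_lit 3, nat_lit 59],mk [nat_lit 59, nat_lit 3],[(nat_lit 1,nat_lit 116,[],mk []),(nat_lit 2,nat_lit 58,[],mk []),(nat_lit 4,nat_lit 29,[],mk [])]⟩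
def t178 : TE := ⟨nat_lit 178,nat_lit 0,nat_lit 2,[nat_lit 89],[nat_lit 2, nat_lit 89],mk [nat_lit 2, nat_lit 89],mk [nat_lit 89, nat_lit 2],[(nat_lit 1,nat_lit 88,[],mk []),(nat_lit 2,nat_lit 44,[],mk []),(nat_lit 4,nat_lit 22,[],mk []),(nat_lit 8,nat_lit 11,[],mk [])]⟩
def t182 : TE := ⟨nat_lit 182,nat_lit 0,nat_lit 2,[nat_lit 13, nat_lit 7],[nat_lit 2, nat_lit 7, nat_lit 13, nat_lit 14, nat_lit 26, nat_lit 91],mk [nat_lit 2, nat_lit 7, nat_lit 13, nat_lit 14, nat_lit 26, nat_lit 91],mk [nat_lit 91, nat_lit 26, nat_lit 14],[(nat_lit 1,nat_lit 72,[],mk []),(nat_lit 2,nat_lit 36,[],mk []),(nat_lit 3,nat_lit 24,[],mk []),(nat_lit 4,nat_lit 18,[],mk []),(nat_lit 6,nat_lit 12,[],mk []),(nat_lit 8,nat_lit 9,[],mk []),(nat_lit 9,nat_lit 8,[],mk [])]⟩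
def t183 : TE := ⟨nat_lit 183,nat_lit 0,nat_lit 3,[nat_lit 61],[nat_lit 3, nat_lit 61],mk [nat_lit 3, nat_lit 61],mk [nat_lit 61, nat_lit 3],[(nat_lit 1,nat_lit 120,[],mk []),(nat_lit 2,nat_lit 60,[],mk []),(nat_lit 3,nat_lit 40,[],mk []),(nat_lit 4,nat_lit 30,[],mk []),(nat_lit 5,nat_lit 24,[],mk []),(nat_lit 6,nat_lit 20,[],mk []),(nat_lit 8,nat_lit 15,[],mk []),(nat_lit 10,nat_lit 12,[],mk [])]⟩
def t185 : TE := ⟨nat_lit 185,nat_lit 0,nat_lit 5,[nat_lit 37],[nat_lit 5, nat_lit 37],mk [nat_lit 5, nat_lit 37],mk [nat_lit 37, nat_lit 5],[(nat_lit 1,nat_lit 144,[],mk []),(nat_lit 2,nat_lit 72,[],mk []),(nat_lit 3,nat_lit 48,[],mk []),(nat_lit 4,nat_lit 36,[],mk []),(nat_lit 6,nat_lit 24,[],mk []),(nat_lit 8,nat_lit 18,[],mk []),(nat_lit 9,nat_lit 16,[],mk [])]⟩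
def t187 : TE := ⟨nat_lit 187,nat_lit 0,nat_lit 11,[nat_lit 17],[nat_lit 11, nat_lit 17],mk [nat_lit 11, nat_lit 17],mk [nat_lit 17, nat_lit 11],[(nat_lit 1,nat_lit 160,[],mk []),(nat_lit 2,nat_lit 80,[],mk []),(nat_lit 4,nat_lit 40,[],mk []),(nat_lit 5,nat_lit 32,[],mk []),(nat_lit 8,nat_lit 20,[],mk []),(nat_lit 10,nat_lit 16,[],mk [])]⟩
def t189 : TE := ⟨nat_lit 189,nat_lit 0,nat_lit 3,[nat_lit 7],[nat_lit 3, nat_lit 7, nat_lit 9, nat_lit 21, nat_lit 27, nat_lit 63],mk [nat_lit 3, nat_lit 7, nat_lit 9, nat_lit 21, nat_lit 27, nat_lit 63],mk [nat_lit 27],[(nat_lit 1,nat_lit 108,[],mk []),(nat_lit 2,nat_lit 54,[],mk []),(nat_lit 3,nat_lit 36,[],mk []),(nat_lit 4,nat_lit 27,[],mk []),(nat_lit 6,nat_lit 18,[],mk []),(nat_lit 9,nat_lit 12,[],mk [])]⟩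
def t191 : TE := ⟨nat_lit 191,nat_lit 191,nat_lit 191,[],[],mk [],mk [],[(nat_lit 1,nat_lit 190,[nat_lit 2, nat_lit 5, nat_lit 10, nat_lit 19, nat_lit 38, nat_lit 95, nat_lit 190],mk [nat_lit 2, nat_lit 5, nat_lit 10, nat_lit 19, nat_lit 38, nat_lit 95, nat_lit 190]),(nat_lit 2,nat_lit 95,[nat_lit 5, nat_lit 19, nat_lit 95],mk [nat_lit 5, nat_lit 19, nat_lit 95]),(nat_lit 5,nat_lit 38,[nat_lit 2, nat_lit 19, nat_lit 38],mk [nat_lit 2, nat_lit 19, nat_lit 38]),(nat_lit 10,nat_lit 19,[nat_lit 19],mk [nat_lit 19])]⟩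
def t193 : TE := ⟨nat_lit 193,nat_lit 193,nat_lit 193,[],[],mk [],mk [],[(nat_lit 1,nat_lit 192,[nat_lit 2, nat_lit 3, nat_lit 4, nat_lit 6, nat_lit 8, nat_lit 12, nat_lit 16, nat_lit 24, nat_lit 32, nat_lit 48, nat_lit 64, nat_lit 96],mk [nat_lit 2, nat_lit 3, nat_lit 4, nat_lit 6, nat_lit 8, nat_lit 12, nat_lit 16, nat_lit 24, nat_lit 32, nat_lit 48, nat_lit 64, nat_lit 96]),(nat_lit 2,nat_lit 96,[nat_lit 2, nat_lit 3, nat_lit 4, nat_lit 6, nat_lit 8, nat_lit 12, nat_lit 16, nat_lit 24, nat_lit 32, nat_lit 48, nat_lit 96],mk [nat_lit 2, nat_lit 3, nat_lit 4, nat_lit 6, nat_lit 8, nat_lit 12, nat_lit 16, nat_lit 24, nat_lit 32, nat_lit 48, nat_lit 96]),(nat_lit 3,nat_lit 64,[nat_lit 2, nat_lit 4, nat_lit 8, nat_lit 16, nat_lit 32, nat_lit 64],mk [nat_lit 2, nat_lit 4, nat_lit 8, nat_lit 16, nat_lit 32, nat_lit 64]),(nat_lit 4,nat_lit 48,[nat_lit 2, nat_lit 3, nat_lit 4,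 nat_lit 6, nat_lit 8, nat_lit 12, nat_lit 16, nat_lit 24, nat_lit 48],mk [nat_lit 2, nat_lit 3, nat_lit 4, nat_lit 6, nat_lit 8, nat_lit 12, nat_lit 16, nat_lit 24, nat_lit 48]),(nat_lit 6,nat_lit 32,[nat_lit 2, nat_lit 4, nat_lit 8, nat_lit 16, nat_lit 32],mk [nat_lit 2, nat_lit 4, nat_lit 8, nat_lit 16, nat_lit 32]),(nat_lit 8,nat_lit 24,[nat_lit 2, nat_lit 3, nat_lit 4, nat_lit 6, nat_lit 8, nat_lit 12, nat_lit 24],mk [nat_lit 2, nat_lit 3, nat_lit 4, nat_lit 6, nat_lit 8, nat_lit 12, nat_lit 24])]⟩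
def t194 : TE := ⟨nat_lit 194,nat_lit 0,nat_lit 2,[nat_lit 97],[nat_lit 2, nat_lit 97],mk [nat_lit 2, nat_lit 97],mk [nat_lit 97, nat_lit 2],[(nat_lit 1,nat_lit 96,[],mk []),(nat_lit 2,nat_lit 48,[],mk []),(nat_lit 3,nat_lit 32,[],mk []),(nat_lit 4,nat_lit 24,[],mk []),(nat_lit 6,nat_lit 16,[],mk []),(nat_lit 8,nat_lit 12,[],mk [])]⟩
def t196 : TE := ⟨nat_lit 196,nat_lit 0,nat_lit 2,[nat_lit 7],[nat_lit 2, nat_lit 4, nat_lit 7, nat_lit 14, nat_lit 28, nat_lit 49, nat_lit 98],mk [nat_lit 2, nat_lit 4, nat_lit 7, nat_lit 14, nat_lit 28, nat_lit 49, nat_lit 98],mk [],[(nat_lit 1,nat_lit 84,[],mk []),(nat_lit 2,nat_lit 42,[],mk []),(nat_lit 3,nat_lit 28,[],mk []),(nat_lit 4,nat_lit 21,[],mk []),(nat_lit 6,nat_lit 14,[],mk []),(nat_lit 7,nat_lit 12,[],mk [])]⟩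
def t197 : TE := ⟨nat_lit 197,nat_lit 197,nat_lit 197,[],[],mk [],mk [],[(nat_lit 1,nat_lit 196,[nat_lit 2, nat_lit 4, nat_lit 7, nat_lit 14, nat_lit 28, nat_lit 49, nat_lit 98, nat_lit 196],mk [nat_lit 2, nat_lit 4, nat_lit 7, nat_lit 14, nat_lit 28, nat_lit 49, nat_lit 98, nat_lit 196]),(nat_lit 2,nat_lit 98,[nat_lit 2, nat_lit 7, nat_lit 14, nat_lit 49, nat_lit 98],mk [nat_lit 2, nat_lit 7, nat_lit 14, nat_lit 49, nat_lit 98]),(nat_lit 4,nat_lit 49,[nat_lit 7, nat_lit 49],mk [nat_lit 7, nat_lit 49]),(nat_lit 7,nat_lit 28,[nat_lit 2, nat_lit 4, nat_lit 7, nat_lit 14, nat_lit 28],mk [nat_lit 2, nat_lit 4, nat_lit 7, nat_lit 14, nat_lit 28])]⟩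
def t201 : TE := ⟨nat_lit 201,nat_lit 0,nat_lit 3,[nat_lit 67],[nat_lit 3, nat_lit 67],mk [nat_lit 3, nat_lit 67],mk [nat_lit 67, nat_lit 3],[(nat_lit 1,nat_lit 132,[],mk []),(nat_lit 2,nat_lit 66,[],mk []),(nat_lit 3,nat_lit 44,[],mk []),(nat_lit 4,nat_lit 33,[],mk []),(nat_lit 6,nat_lit 22,[],mk [])]⟩
def t202 : TE := ⟨nat_lit 202,nat_lit 0,nat_lit 2,[nat_lit 101],[nat_lit 2, nat_lit 101],mk [nat_lit 2, nat_lit 101],mk [nat_lit 101, nat_lit 2],[(nat_lit 1,nat_lit 100,[],mk []),(nat_lit 2,nat_lit 50,[],mk []),(nat_lit 4,nat_lit 25,[],mk []),(nat_lit 5,nat_lit 20,[],mk []),(nat_lit 10,nat_lit 10,[],mk [])]⟩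
def t203 : TE := ⟨nat_lit 203,nat_lit 0,nat_lit 7,[nat_lit 29],[nat_lit 7, nat_lit 29],mk [nat_lit 7, nat_lit 29],mk [nat_lit 29, nat_lit 7],[(nat_lit 1,nat_lit 168,[],mk []),(nat_lit 2,nat_lit 84,[],mk []),(nat_lit 3,nat_lit 56,[],mk []),(nat_lit 4,nat_lit 42,[],mk []),(nat_lit 6,nat_lit 28,[],mk []),(nat_lit 7,nat_lit 24,[],mk []),(nat_lit 8,nat_lit 21,[],mk [])]⟩
def t205 : TE := ⟨nat_lit 205,nat_lit 0,nat_lit 5,[nat_lit 41],[nat_lit 5, nat_lit 41],mk [nat_lit 5, nat_lit 41],mk [nat_lit 41, nat_lit 5],[(nat_lit 1,nat_lit 160,[],mk []),(nat_lit 2,nat_lit 80,[],mk []),(nat_lit 4,nat_lit 40,[],mk []),(nat_lit 5,nat_lit 32,[],mk []),(nat_lit 8,nat_lit 20,[],mk []),(nat_lit 10,nat_lit 16,[],mk [])]⟩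
def t206 : TE := ⟨nat_lit 206,nat_lit 0,nat_lit 2,[nat_lit 103],[nat_lit 2, nat_lit 103],mk [nat_lit 2, nat_lit 103],mk [nat_lit 103, nat_lit 2],[(nat_lit 1,nat_lit 102,[],mk []),(nat_lit 2,nat_lit 51,[],mk []),(nat_lit 3,nat_lit 34,[],mk []),(nat_lit 6,nat_lit 17,[],mk [])]⟩
def t209 : TE := ⟨nat_lit 209,nat_lit 0,nat_lit 11,[nat_lit 19],[nat_lit 11, nat_lit 19],mk [nat_lit 11, nat_lit 19],mk [nat_lit 19, nat_lit 11],[(nat_lit 1,nat_lit 180,[],mk []),(nat_lit 2,nat_lit 90,[],mk []),(nat_lit 3,nat_lit 60,[],mk []),(nat_lit 4,nat_lit 45,[],mk []),(nat_lit 5,nat_lit 36,[],mk []),(nat_lit 6,nat_lit 30,[],mk []),(nat_lit 9,nat_lit 20,[],mk []),(nat_lit 10,nat_lit 18,[],mk [])]⟩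
def t212 : TE := ⟨nat_lit 212,nat_lit 0,nat_lit 2,[nat_lit 53],[nat_lit 2, nat_lit 4, nat_lit 53, nat_lit 106],mk [nat_lit 2, nat_lit 4, nat_lit 53, nat_lit 106],mk [nat_lit 4],[(nat_lit 1,nat_lit 104,[],mk []),(nat_lit 2,nat_lit 52,[],mk []),(nat_lit 4,nat_lit 26,[],mk []),(nat_lit 8,nat_lit 13,[],mk [])]⟩
def t213 : TE := ⟨nat_lit 213,nat_lit 0,nat_lit 3,[nat_lit 71],[nat_lit 3, nat_lit 71],mk [nat_lit 3, nat_lit 71],mk [nat_lit 71, nat_lit 3],[(nat_lit 1,nat_lit 140,[],mk []),(nat_lit 2,nat_lit 70,[],mk []),(nat_lit 4,nat_lit 35,[],mk []),(nat_lit 5,nat_lit 28,[],mk []),(nat_lit 7,nat_lit 20,[],mk []),(nat_lit 10,nat_lit 14,[],mk [])]⟩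
def t215 : TE := ⟨nat_lit 215,nat_lit 0,nat_lit 5,[nat_lit 43],[nat_lit 5, nat_lit 43],mk [nat_lit 5, nat_lit 43],mk [nat_lit 43, nat_lit 5],[(nat_lit 1,nat_lit 168,[],mk []),(nat_lit 2,nat_lit 84,[],mk []),(nat_lit 3,nat_lit 56,[],mk []),(nat_lit 4,nat_lit 42,[],mk []),(nat_lit 6,nat_lit 28,[],mk []),(nat_lit 7,nat_lit 24,[],mk []),(nat_lit 8,nat_lit 21,[],mk [])]⟩
def t217 : TE := ⟨nat_lit 217,nat_lit 0,nat_lit 7,[nat_lit 31],[nat_lit 7, nat_lit 31],mk [nat_lit 7, nat_lit 31],mk [nat_lit 31, nat_lit 7],[(nat_lit 1,nat_lit 180,[],mk []),(nat_lit 2,nat_lit 90,[],mk []),(nat_lit 3,nat_lit 60,[],mk []),(nat_lit 4,nat_lit 45,[],mk []),(nat_lit 5,nat_lit 36,[],mk []),(nat_lit 6,nat_lit 30,[],mk []),(nat_lit 9,nat_lit 20,[],mk []),(nat_lit 10,nat_lit 18,[],mk [])]⟩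
def t218 : TE := ⟨nat_lit 218,nat_lit 0,nat_lit 2,[nat_lit 109],[nat_lit 2, nat_lit 109],mk [nat_lit 2, nat_lit 109],mk [nat_lit 109, nat_lit 2],[(nat_lit 1,nat_lit 108,[],mk []),(nat_lit 2,nat_lit 54,[],mk []),(nat_lit 3,nat_lit 36,[],mk []),(nat_lit 4,nat_lit 27,[],mk []),(nat_lit 6,nat_lit 18,[],mk []),(nat_lit 9,nat_lit 12,[],mk [])]⟩
def t219 : TE := ⟨nat_lit 219,nat_lit 0,nat_lit 3,[nat_lit 73],[nat_lit 3, nat_lit 73],mk [nat_lit 3, nat_lit 73],mk [nat_lit 73, nat_lit 3],[(nat_lit 1,nat_lit 144,[],mk []),(nat_lit 2,nat_lit 72,[],mk []),(nat_lit 3,nat_lit 48,[],mk []),(nat_lit 4,nat_lit 36,[],mk []),(nat_lit 6,nat_lit 24,[],mk []),(nat_lit 8,nat_lit 18,[],mk []),(nat_lit 9,nat_lit 16,[],mk [])]⟩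
def t221 : TE := ⟨nat_lit 221,nat_lit 0,nat_lit 13,[nat_lit 17],[nat_lit 13, nat_lit 17],mk [nat_lit 13, nat_lit 17],mk [nat_lit 17, nat_lit 13],[(nat_lit 1,nat_lit 192,[],mk []),(nat_lit 2,nat_lit 96,[],mk []),(nat_lit 3,nat_lit 64,[],mk []),(nat_lit 4,nat_lit 48,[],mk []),(nat_lit 6,nat_lit 32,[],mk []),(nat_lit 8,nat_lit 24,[],mk [])]⟩
def t222 : TE := ⟨nat_lit 222,nat_lit 0,nat_lit 2,[nat_lit 37, nat_lit 3],[nat_lit 2, nat_lit 3, nat_lit 6, nat_lit 37, nat_lit 74, nat_lit 111],mk [nat_lit 2, nat_lit 3, nat_lit 6, nat_lit 37, nat_lit 74, nat_lit 111],mk [nat_lit 111, nat_lit 74, nat_lit 6],[(nat_lit 1,nat_lit 72,[],mk []),(nat_lit 2,nat_lit 36,[],mk []),(nat_lit 3,nat_lit 24,[],mk []),(nat_lit 4,nat_lit 18,[],mk []),(nat_lit 6,nat_lit 12,[],mk []),(nat_lit 8,nat_lit 9,[],mk []),(nat_lit 9,nat_lit 8,[],mk [])]⟩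
def t223 : TE := ⟨nat_lit 223,nat_lit 223,nat_lit 223,[],[],mk [],mk [],[(nat_lit 1,nat_lit 222,[nat_lit 2, nat_lit 3, nat_lit 6, nat_lit 37, nat_lit 74, nat_lit 111, nat_lit 222],mk [nat_lit 2, nat_lit 3, nat_lit 6, nat_lit 37, nat_lit 74, nat_lit 111, nat_lit 222]),(nat_lit 2,nat_lit 111,[nat_lit 3, nat_lit 37, nat_lit 111],mk [nat_lit 3, nat_lit 37, nat_lit 111]),(nat_lit 3,nat_lit 74,[nat_lit 2, nat_lit 37, nat_lit 74],mk [nat_lit 2, nat_lit 37, nat_lit 74]),(nat_lit 6,nat_lit 37,[nat_lit 37],mk [nat_lit 37])]⟩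
def t225 : TE := ⟨nat_lit 225,nat_lit 0,nat_lit 3,[nat_lit 5],[nat_lit 3, nat_lit 5, nat_lit 9, nat_lit 15, nat_lit 25, nat_lit 45, nat_lit 75],mk [nat_lit 3, nat_lit 5, nat_lit 9, nat_lit 15, nat_lit 25, nat_lit 45, nat_lit 75],mk [],[(nat_lit 1,nat_lit 120,[],mk []),(nat_lit 2,nat_lit 60,[],mk []),(nat_lit 3,nat_lit 40,[],mk []),(nat_lit 4,nat_lit 30,[],mk []),(nat_lit 5,nat_lit 24,[],mk []),(nat_lit 6,nat_lit 20,[],mk []),(nat_lit 8,nat_lit 15,[],mk []),(nat_lit 10,nat_lit 12,[],mk [])]⟩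
def t229 : TE := ⟨nat_lit 229,nat_lit 229,nat_lit 229,[],[],mk [],mk [],[(nat_lit 1,nat_lit 228,[nat_lit 2, nat_lit 3, nat_lit 4, nat_lit 6, nat_lit 12, nat_lit 19, nat_lit 38, nat_lit 57, nat_lit 76, nat_lit 114, nat_lit 228],mk [nat_lit 2, nat_lit 3, nat_lit 4, nat_lit 6, nat_lit 12, nat_lit 19, nat_lit 38, nat_lit 57, nat_lit 76, nat_lit 114, nat_lit 228]),(nat_lit 2,nat_lit 114,[nat_lit 2, nat_lit 3, nat_lit 6, nat_lit 19, nat_lit 38, nat_lit 57, nat_lit 114],mk [nat_lit 2, nat_lit 3, nat_lit 6, nat_lit 19, nat_lit 38, nat_lit 57, nat_lit 114]),(nat_lit 3,nat_lit 76,[nat_lit 2, nat_lit 4, nat_lit 19, nat_lit 38, nat_lit 76],mk [nat_lit 2, nat_lit 4, nat_lit 19, nat_lit 38, nat_lit 76]),(nat_lit 4,nat_lit 57,[nat_lit 3, nat_lit 19, nat_lit 57],mk [nat_lit 3, nat_lit 19, nat_lit 57]),(nat_lit 6,nat_lit 38,[nat_lit 2, nat_lit 19, nat_lit 38],mk [nat_lit 2, nat_lit 19, nat_lit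 38])]⟩
def t230 : TE := ⟨nat_lit 230,nat_lit 0,nat_lit 2,[nat_lit 23, nat_lit 5],[nat_lit 2, nat_lit 5, nat_lit 10, nat_lit 23, nat_lit 46, nat_lit 115],mk [nat_lit 2, nat_lit 5, nat_lit 10, nat_lit 23, nat_lit 46, nat_lit 115],mk [nat_lit 115, nat_lit 46, nat_lit 10],[(nat_lit 1,nat_lit 88,[],mk []),(nat_lit 2,nat_lit 44,[],mk []),(nat_lit 4,nat_lit 22,[],mk []),(nat_lit 8,nat_lit 11,[],mk [])]⟩
def t235 : TE := ⟨nat_lit 235,nat_lit 0,nat_lit 5,[nat_lit 47],[nat_lit 5, nat_lit 47],mk [nat_lit 5, nat_lit 47],mk [nat_lit 47, nat_lit 5],[(nat_lit 1,nat_lit 184,[],mk []),(nat_lit 2,nat_lit 92,[],mk []),(nat_lit 4,nat_lit 46,[],mk []),(nat_lit 8,nat_lit 23,[],mk [])]⟩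
def t237 : TE := ⟨nat_lit 237,nat_lit 0,nat_lit 3,[nat_lit 79],[nat_lit 3, nat_lit 79],mk [nat_lit 3, nat_lit 79],mk [nat_lit 79, nat_lit 3],[(nat_lit 1,nat_lit 156,[],mk []),(nat_lit 2,nat_lit 78,[],mk []),(nat_lit 3,nat_lit 52,[],mk []),(nat_lit 4,nat_lit 39,[],mk []),(nat_lit 6,nat_lit 26,[],mk [])]⟩
def t242 : TE := ⟨nat_lit 242,nat_lit 0,nat_lit 2,[nat_lit 11],[nat_lit 2, nat_lit 11, nat_lit 22, nat_lit 121],mk [nat_lit 2, nat_lit 11, nat_lit 22, nat_lit 121],mk [nat_lit 121],[(nat_lit 1,nat_lit 110,[],mk []),(nat_lit 2,nat_lit 55,[],mk []),(nat_lit 5,nat_lit 22,[],mk []),(nat_lit 10,nat_lit 11,[],mk [])]⟩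
def t243 : TE := ⟨nat_lit 243,nat_lit 3,nat_lit 3,[],[nat_lit 3, nat_lit 9, nat_lit 27, nat_lit 81],mk [nat_lit 3, nat_lit 9, nat_lit 27, nat_lit 81],mk [],[(nat_lit 1,nat_lit 162,[nat_lit 2, nat_lit 3, nat_lit 6, nat_lit 9, nat_lit 18, nat_lit 27, nat_lit 54, nat_lit 81, nat_lit 162],mk [nat_lit 2, nat_lit 3, nat_lit 6, nat_lit 9, nat_lit 18, nat_lit 27, nat_lit 54, nat_lit 81, nat_lit 162]),(nat_lit 2,nat_lit 81,[nat_lit 3, nat_lit 9, nat_lit 27, nat_lit 81],mk [nat_lit 3, nat_lit 9, nat_lit 27, nat_lit 81]),(nat_lit 3,nat_lit 54,[nat_lit 2, nat_lit 3, nat_lit 6, nat_lit 9, nat_lit 18, nat_lit 27, nat_lit 54],mk [nat_lit 2, nat_lit 3, nat_lit 6, nat_lit 9, nat_lit 18, nat_lit 27, nat_lit 54]),(nat_lit 6,nat_lit 27,[nat_lit 3, nat_lit 9, nat_lit 27],mk [nat_lit 3, nat_lit 9, nat_lit 27]),(nat_lit 9,nat_lit 18,[nat_lit 2, nat_lit 3, nat_lit 6, nat_lit 9, nat_lit 18],mk [nat_lit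 2, nat_lit 3, nat_lit 6, nat_lit 9, nat_lit 18])]⟩
def t244 : TE := ⟨nat_lit 244,nat_lit 0,nat_lit 2,[nat_lit 61],[nat_lit 2, nat_lit 4, nat_lit 61, nat_lit 122],mk [nat_lit 2, nat_lit 4, nat_lit 61, nat_lit 122],mk [nat_lit 4],[(nat_lit 1,nat_lit 120,[],mk []),(nat_lit 2,nat_lit 60,[],mk []),(nat_lit 3,nat_lit 40,[],mk []),(nat_lit 4,nat_lit 30,[],mk []),(nat_lit 5,nat_lit 24,[],mk []),(nat_lit 6,nat_lit 20,[],mk []),(nat_lit 8,nat_lit 15,[],mk []),(nat_lit 10,nat_lit 12,[],mk [])]⟩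
def t245 : TE := ⟨nat_lit 245,nat_lit 0,nat_lit 5,[nat_lit 7],[nat_lit 5, nat_lit 7, nat_lit 35, nat_lit 49],mk [nat_lit 5, nat_lit 7, nat_lit 35, nat_lit 49],mk [nat_lit 49],[(nat_lit 1,nat_lit 168,[],mk []),(nat_lit 2,nat_lit 84,[],mk []),(nat_lit 3,nat_lit 56,[],mk []),(nat_lit 4,nat_lit 42,[],mk []),(nat_lit 6,nat_lit 28,[],mk []),(nat_lit 7,nat_lit 24,[],mk []),(nat_lit 8,nat_lit 21,[],mk [])]⟩
def t247 : TE := ⟨nat_lit 247,nat_lit 0,nat_lit 13,[nat_lit 19],[nat_lit 13, nat_lit 19],mk [nat_lit 13, nat_lit 19],mk [nat_lit 19, nat_lit 13],[(nat_lit 1,nat_lit 216,[],mk []),(nat_lit 2,nat_lit 108,[],mk []),(nat_lit 3,nat_lit 72,[],mk []),(nat_lit 4,nat_lit 54,[],mk []),(nat_lit 6,nat_lit 36,[],mk []),(nat_lit 8,nat_lit 27,[],mk []),(nat_lit 9,nat_lit 24,[],mk [])]⟩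
def t250 : TE := ⟨nat_lit 250,nat_lit 0,nat_lit 2,[nat_lit 5],[nat_lit 2, nat_lit 5, nat_lit 10, nat_lit 25, nat_lit 50, nat_lit 125],mk [nat_lit 2, nat_lit 5, nat_lit 10, nat_lit 25, nat_lit 50, nat_lit 125],mk [nat_lit 125],[(nat_lit 1,nat_lit 100,[],mk []),(nat_lit 2,nat_lit 50,[],mk []),(nat_lit 4,nat_lit 25,[],mk []),(nat_lit 5,nat_lit 20,[],mk []),(nat_lit 10,nat_lit 10,[],mk [])]⟩
def t251 : TE := ⟨nat_lit 251,nat_lit 251,nat_lit 251,[],[],mk [],mk [],[(nat_lit 1,nat_lit 250,[nat_lit 2, nat_lit 5, nat_lit 10, nat_lit 25, nat_lit 50, nat_lit 125, nat_lit 250],mk [nat_lit 2, nat_lit 5, nat_lit 10, nat_lit 25, nat_lit 50, nat_lit 125, nat_lit 250]),(nat_lit 2,nat_lit 125,[nat_lit 5, nat_lit 25, nat_lit 125],mk [nat_lit 5, nat_lit 25, nat_lit 125]),(nat_lit 5,nat_lit 50,[nat_lit 2, nat_lit 5, nat_lit 10, nat_lit 25, nat_lit 50],mk [nat_lit 2, nat_lit 5, nat_lit 10, nat_lit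 25, nat_lit 50]),(nat_lit 10,nat_lit 25,[nat_lit 5, nat_lit 25],mk [nat_lit 5, nat_lit 25])]⟩
def t253 : TE := ⟨nat_lit 253,nat_lit 0,nat_lit 11,[nat_lit 23],[nat_lit 11, nat_lit 23],mk [nat_lit 11, nat_lit 23],mk [nat_lit 23, nat_lit 11],[(nat_lit 1,nat_lit 220,[],mk []),(nat_lit 2,nat_lit 110,[],mk []),(nat_lit 4,nat_lit 55,[],mk []),(nat_lit 5,nat_lit 44,[],mk []),(nat_lit 10,nat_lit 22,[],mk [])]⟩
def t254 : TE := ⟨nat_lit 254,nat_lit 0,nat_lit 2,[nat_lit 127],[nat_lit 2, nat_lit 127],mk [nat_lit 2, nat_lit 127],mk [nat_lit 127, nat_lit 2],[(nat_lit 1,nat_lit 126,[],mk []),(nat_lit 2,nat_lit 63,[],mk []),(nat_lit 3,nat_lit 42,[],mk []),(nat_lit 6,nat_lit 21,[],mk []),(nat_lit 7,nat_lit 18,[],mk []),(nat_lit 9,nat_lit 14,[],mk [])]⟩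
def t256 : TE := ⟨nat_lit 256,nat_lit 2,nat_lit 2,[],[nat_lit 2, nat_lit 4, nat_lit 8, nat_lit 16, nat_lit 32, nat_lit 64, nat_lit 128],mk [nat_lit 2, nat_lit 4, nat_lit 8, nat_lit 16, nat_lit 32, nat_lit 64, nat_lit 128],mk [],[(nat_lit 1,nat_lit 128,[],mk []),(nat_lit 2,nat_lit 64,[],mk []),(nat_lit 4,nat_lit 32,[],mk []),(nat_lit 8,nat_lit 16,[],mk [])]⟩
def t257 : TE := ⟨nat_lit 257,nat_lit 257,nat_lit 257,[],[],mk [],mk [],[(nat_lit 1,nat_lit 256,[nat_lit 2, nat_lit 4, nat_lit 8, nat_lit 16, nat_lit 32, nat_lit 64, nat_lit 128, nat_lit 256],mk [nat_lit 2, nat_lit 4, nat_lit 8, nat_lit 16, nat_lit 32, nat_lit 64, nat_lit 128, nat_lit 256]),(nat_lit 2,nat_lit 128,[nat_lit 2, nat_lit 4, nat_lit 8, nat_lit 16, nat_lit 32, nat_lit 64, nat_lit 128],mk [nat_lit 2, nat_lit 4, nat_lit 8, nat_lit 16, nat_lit 32, nat_lit 64, nat_lit 128]),(nat_lit 4,nat_lit 64,[nat_lit 2, nat_lit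 4, nat_lit 8, nat_lit 16, nat_lit 32, nat_lit 64],mk [nat_lit 2, nat_lit 4, nat_lit 8, nat_lit 16, nat_lit 32, nat_lit 64]),(nat_lit 8,nat_lit 32,[nat_lit 2, nat_lit 4, nat_lit 8, nat_lit 16, nat_lit 32],mk [nat_lit 2, nat_lit 4, nat_lit 8, nat_lit 16, nat_lit 32])]⟩
def t258 : TE := ⟨nat_lit 258,nat_lit 0,nat_lit 2,[nat_lit 43, nat_lit 3],[nat_lit 2, nat_lit 3, nat_lit 6, nat_lit 43, nat_lit 86, nat_lit 129],mk [nat_lit 2, nat_lit 3, nat_lit 6, nat_lit 43, nat_lit 86, nat_lit 129],mk [nat_lit 129, nat_lit 86, nat_lit 6],[(nat_lit 1,nat_lit 84,[],mk []),(nat_lit 2,nat_lit 42,[],mk []),(nat_lit 3,nat_lit 28,[],mk []),(nat_lit 4,nat_lit 21,[],mk []),(nat_lit 6,nat_lit 14,[],mk []),(nat_lit 7,nat_lit 12,[],mk [])]⟩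
def t259 : TE := ⟨nat_lit 259,nat_lit 0,nat_lit 7,[nat_lit 37],[nat_lit 7, nat_lit 37],mk [nat_lit 7, nat_lit 37],mk [nat_lit 37, nat_lit 7],[(nat_lit 1,nat_lit 216,[],mk []),(nat_lit 2,nat_lit 108,[],mk []),(nat_lit 3,nat_lit 72,[],mk []),(nat_lit 4,nat_lit 54,[],mk []),(nat_lit 6,nat_lit 36,[],mk []),(nat_lit 8,nat_lit 27,[],mk []),(nat_lit 9,nat_lit 24,[],mk [])]⟩
def t261 : TE := ⟨nat_lit 261,nat_lit 0,nat_lit 3,[nat_lit 29],[nat_lit 3, nat_lit 9, nat_lit 29, nat_lit 87],mk [nat_lit 3, nat_lit 9, nat_lit 29, nat_lit 87],mk [nat_lit 9],[(nat_lit 1,nat_lit 168,[],mk []),(nat_lit 2,nat_lit 84,[],mk []),(nat_lit 3,nat_lit 56,[],mk []),(nat_lit 4,nat_lit 42,[],mk []),(nat_lit 6,nat_lit 28,[],mk []),(nat_lit 7,nat_lit 24,[],mk []),(nat_lit 8,nat_lit 21,[],mk [])]⟩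
def t262 : TE := ⟨nat_lit 262,nat_lit 0,nat_lit 2,[nat_lit 131],[nat_lit 2, nat_lit 131],mk [nat_lit 2, nat_lit 131],mk [nat_lit 131, nat_lit 2],[(nat_lit 1,nat_lit 130,[],mk []),(nat_lit 2,nat_lit 65,[],mk []),(nat_lit 5,nat_lit 26,[],mk []),(nat_lit 10,nat_lit 13,[],mk [])]⟩
def t265 : TE := ⟨nat_lit 265,nat_lit 0,nat_lit 5,[nat_lit 53],[nat_lit 5, nat_lit 53],mk [nat_lit 5, nat_lit 53],mk [nat_lit 53, nat_lit 5],[(nat_lit 1,nat_lit 208,[],mk []),(nat_lit 2,nat_lit 104,[],mk []),(nat_lit 4,nat_lit 52,[],mk []),(nat_lit 8,nat_lit 26,[],mk [])]⟩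
def t272 : TE := ⟨nat_lit 272,nat_lit 0,nat_lit 2,[nat_lit 17],[nat_lit 2, nat_lit 4, nat_lit 8, nat_lit 16, nat_lit 17, nat_lit 34, nat_lit 68, nat_lit 136],mk [nat_lit 2, nat_lit 4, nat_lit 8, nat_lit 16, nat_lit 17, nat_lit 34, nat_lit 68, nat_lit 136],mk [nat_lit 16],[(nat_lit 1,nat_lit 128,[],mk []),(nat_lit 2,nat_lit 64,[],mk []),(nat_lit 4,nat_lit 32,[],mk []),(nat_lit 8,nat_lit 16,[],mk [])]⟩
def t273 : TE := ⟨nat_lit 273,nat_lit 0,nat_lit 3,[nat_lit 13, nat_lit 7],[nat_lit 3, nat_lit 7, nat_lit 13, nat_lit 21, nat_lit 39, nat_lit 91],mk [nat_lit 3, nat_lit 7, nat_lit 13, nat_lit 21, nat_lit 39, nat_lit 91],mk [nat_lit 91, nat_lit 39, nat_lit 21],[(nat_lit 1,nat_lit 144,[],mk []),(nat_lit 2,nat_lit 72,[],mk []),(nat_lit 3,nat_lit 48,[],mk []),(nat_lit 4,nat_lit 36,[],mk []),(nat_lit 6,nat_lit 24,[],mk []),(nat_lit 8,nat_lit 18,[],mk []),(nat_lit 9,nat_lit 16,[],mk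 [])]⟩
def t274 : TE := ⟨nat_lit 274,nat_lit 0,nat_lit 2,[nat_lit 137],[nat_lit 2, nat_lit 137],mk [nat_lit 2, nat_lit 137],mk [nat_lit 137, nat_lit 2],[(nat_lit 1,nat_lit 136,[],mk []),(nat_lit 2,nat_lit 68,[],mk []),(nat_lit 4,nat_lit 34,[],mk []),(nat_lit 8,nat_lit 17,[],mk [])]⟩
def t275 : TE := ⟨nat_lit 275,nat_lit 0,nat_lit 5,[nat_lit 11],[nat_lit 5, nat_lit 11, nat_lit 25, nat_lit 55],mk [nat_lit 5, nat_lit 11, nat_lit 25, nat_lit 55],mk [nat_lit 25],[(nat_lit 1,nat_lit 200,[],mk []),(nat_lit 2,nat_lit 100,[],mk []),(nat_lit 4,nat_lit 50,[],mk []),(nat_lit 5,nat_lit 40,[],mk []),(nat_lit 8,nat_lit 25,[],mk []),(nat_lit 10,nat_lit 20,[],mk [])]⟩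
def t279 : TE := ⟨nat_lit 279,nat_lit 0,nat_lit 3,[nat_lit 31],[nat_lit 3, nat_lit 9, nat_lit 31, nat_lit 93],mk [nat_lit 3, nat_lit 9, nat_lit 31, nat_lit 93],mk [nat_lit 9],[(nat_lit 1,nat_lit 180,[],mk []),(nat_lit 2,nat_lit 90,[],mk []),(nat_lit 3,nat_lit 60,[],mk []),(nat_lit 4,nat_lit 45,[],mk []),(nat_lit 5,nat_lit 36,[],mk []),(nat_lit 6,nat_lit 30,[],mk []),(nat_lit 9,nat_lit 20,[],mk []),(nat_lit 10,nat_lit 18,[],mk [])]⟩
def t289 : TE := ⟨nat_lit 289,nat_lit 17,nat_lit 17,[],[nat_lit 17],mk [nat_lit 17],mk [],[(nat_lit 1,nat_lit 272,[nat_lit 2, nat_lit 4, nat_lit 8, nat_lit 16, nat_lit 17, nat_lit 34, nat_lit 68, nat_lit 136, nat_lit 272],mk [nat_lit 2, nat_lit 4, nat_lit 8, nat_lit 16, nat_lit 17, nat_lit 34, nat_lit 68, nat_lit 136, nat_lit 272]),(nat_lit 2,nat_lit 136,[nat_lit 2, nat_lit 4, nat_lit 8, nat_lit 17, nat_lit 34, nat_lit 68, nat_lit 136],mk [nat_lit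 2, nat_lit 4, nat_lit 8, nat_lit 17, nat_lit 34, nat_lit 68, nat_lit 136]),(nat_lit 4,nat_lit 68,[nat_lit 2, nat_lit 4, nat_lit 17, nat_lit 34, nat_lit 68],mk [nat_lit 2, nat_lit 4, nat_lit 17, nat_lit 34, nat_lit 68]),(nat_lit 8,nat_lit 34,[nat_lit 2, nat_lit 17, nat_lit 34],mk [nat_lit 2, nat_lit 17, nat_lit 34])]⟩
def t291 : TE := ⟨nat_lit 291,nat_lit 0,nat_lit 3,[nat_lit 97],[nat_lit 3, nat_lit 97],mk [nat_lit 3, nat_lit 97],mk [nat_lit 97, nat_lit 3],[(nat_lit 1,nat_lit 192,[],mk []),(nat_lit 2,nat_lit 96,[],mk []),(nat_lit 3,nat_lit 64,[],mk []),(nat_lit 4,nat_lit 48,[],mk []),(nat_lit 6,nat_lit 32,[],mk []),(nat_lit 8,nat_lit 24,[],mk [])]⟩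
def t301 : TE := ⟨nat_lit 301,nat_lit 0,nat_lit 7,[nat_lit 43],[nat_lit 7, nat_lit 43],mk [nat_lit 7, nat_lit 43],mk [nat_lit 43, nat_lit 7],[(nat_lit 1,nat_lit 252,[],mk []),(nat_lit 2,nat_lit 126,[],mk []),(nat_lit 3,nat_lit 84,[],mk []),(nat_lit 4,nat_lit 63,[],mk []),(nat_lit 6,nat_lit 42,[],mk []),(nat_lit 7,nat_lit 36,[],mk []),(nat_lit 9,nat_lit 28,[],mk [])]⟩
def t302 : TE := ⟨nat_lit 302,nat_lit 0,nat_lit 2,[nat_lit 151],[nat_lit 2, nat_lit 151],mk [nat_lit 2, nat_lit 151],mk [nat_lit 151, nat_lit 2],[(nat_lit 1,nat_lit 150,[],mk []),(nat_lit 2,nat_lit 75,[],mk []),(nat_lit 3,nat_lit 50,[],mk []),(nat_lit 5,nat_lit 30,[],mk []),(nat_lit 6,nat_lit 25,[],mk []),(nat_lit 10,nat_lit 15,[],mk [])]⟩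
def t303 : TE := ⟨nat_lit 303,nat_lit 0,nat_lit 3,[nat_lit 101],[nat_lit 3, nat_lit 101],mk [nat_lit 3, nat_lit 101],mk [nat_lit 101, nat_lit 3],[(nat_lit 1,nat_lit 200,[],mk []),(nat_lit 2,nat_lit 100,[],mk []),(nat_lit 4,nat_lit 50,[],mk []),(nat_lit 5,nat_lit 40,[],mk []),(nat_lit 8,nat_lit 25,[],mk []),(nat_lit 10,nat_lit 20,[],mk [])]⟩
def t305 : TE := ⟨nat_lit 305,nat_lit 0,nat_lit 5,[nat_lit 61],[nat_lit 5, nat_lit 61],mk [nat_lit 5, nat_lit 61],mk [nat_lit 61, nat_lit 5],[(nat_lit 1,nat_lit 240,[],mk []),(nat_lit 2,nat_lit 120,[],mk []),(nat_lit 3,nat_lit 80,[],mk []),(nat_lit 4,nat_lit 60,[],mk []),(nat_lit 5,nat_lit 48,[],mk []),(nat_lit 6,nat_lit 40,[],mk []),(nat_lit 8,nat_lit 30,[],mk []),(nat_lit 10,nat_lit 24,[],mk [])]⟩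
def t309 : TE := ⟨nat_lit 309,nat_lit 0,nat_lit 3,[nat_lit 103],[nat_lit 3, nat_lit 103],mk [nat_lit 3, nat_lit 103],mk [nat_lit 103, nat_lit 3],[(nat_lit 1,nat_lit 204,[],mk []),(nat_lit 2,nat_lit 102,[],mk []),(nat_lit 3,nat_lit 68,[],mk []),(nat_lit 4,nat_lit 51,[],mk []),(nat_lit 6,nat_lit 34,[],mk [])]⟩
def t310 : TE := ⟨nat_lit 310,nat_lit 0,nat_lit 2,[nat_lit 31, nat_lit 5],[nat_lit 2, nat_lit 5, nat_lit 10, nat_lit 31, nat_lit 62, nat_lit 155],mk [nat_lit 2, nat_lit 5, nat_lit 10, nat_lit 31, nat_lit 62, nat_lit 155],mk [nat_lit 155, nat_lit 62, nat_lit 10],[(nat_lit 1,nat_lit 120,[],mk []),(nat_lit 2,nat_lit 60,[],mk []),(nat_lit 3,nat_lit 40,[],mk []),(nat_lit 4,nat_lit 30,[],mk []),(nat_lit 5,nat_lit 24,[],mk []),(nat_lit 6,nat_lit 20,[],mk []),(nat_lit 8,nat_lit 15,[],mk []),(nat_lit 10,nat_lit 12,[],mk [])]⟩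
def t311 : TE := ⟨nat_lit 311,nat_lit 311,nat_lit 311,[],[],mk [],mk [],[(nat_lit 1,nat_lit 310,[nat_lit 2, nat_lit 5, nat_lit 10, nat_lit 31, nat_lit 62, nat_lit 155, nat_lit 310],mk [nat_lit 2, nat_lit 5, nat_lit 10, nat_lit 31, nat_lit 62, nat_lit 155, nat_lit 310]),(nat_lit 2,nat_lit 155,[nat_lit 5, nat_lit 31, nat_lit 155],mk [nat_lit 5, nat_lit 31, nat_lit 155]),(nat_lit 5,nat_lit 62,[nat_lit 2, nat_lit 31, nat_lit 62],mk [nat_lit 2, nat_lit 31, nat_lit 62]),(nat_lit 10,nat_lit 31,[nat_lit 31],mk [nat_lit 31])]⟩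
def t323 : TE := ⟨nat_lit 323,nat_lit 0,nat_lit 17,[nat_lit 19],[nat_lit 17, nat_lit 19],mk [nat_lit 17, nat_lit 19],mk [nat_lit 19, nat_lit 17],[(nat_lit 1,nat_lit 288,[],mk []),(nat_lit 2,nat_lit 144,[],mk []),(nat_lit 3,nat_lit 96,[],mk []),(nat_lit 4,nat_lit 72,[],mk []),(nat_lit 6,nat_lit 48,[],mk []),(nat_lit 8,nat_lit 36,[],mk []),(nat_lit 9,nat_lit 32,[],mk [])]⟩
def t325 : TE := ⟨nat_lit 325,nat_lit 0,nat_lit 5,[nat_lit 13],[nat_lit 5, nat_lit 13, nat_lit 25, nat_lit 65],mk [nat_lit 5, nat_lit 13, nat_lit 25, nat_lit 65],mk [nat_lit 25],[(nat_lit 1,nat_lit 240,[],mk []),(nat_lit 2,nat_lit 120,[],mk []),(nat_lit 3,nat_lit 80,[],mk []),(nat_lit 4,nat_lit 60,[],mk []),(nat_lit 5,nat_lit 48,[],mk []),(nat_lit 6,nat_lit 40,[],mk []),(nat_lit 8,nat_lit 30,[],mk []),(nat_lit 10,nat_lit 24,[],mk [])]⟩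
def t326 : TE := ⟨nat_lit 326,nat_lit 0,nat_lit 2,[nat_lit 163],[nat_lit 2, nat_lit 163],mk [nat_lit 2, nat_lit 163],mk [nat_lit 163, nat_lit 2],[(nat_lit 1,nat_lit 162,[],mk []),(nat_lit 2,nat_lit 81,[],mk []),(nat_lit 3,nat_lit 54,[],mk []),(nat_lit 6,nat_lit 27,[],mk []),(nat_lit 9,nat_lit 18,[],mk [])]⟩
def t327 : TE := ⟨nat_lit 327,nat_lit 0,nat_lit 3,[nat_lit 109],[nat_lit 3, nat_lit 109],mk [nat_lit 3, nat_lit 109],mk [nat_lit 109, nat_lit 3],[(nat_lit 1,nat_lit 216,[],mk []),(nat_lit 2,nat_lit 108,[],mk []),(nat_lit 3,nat_lit 72,[],mk []),(nat_lit 4,nat_lit 54,[],mk []),(nat_lit 6,nat_lit 36,[],mk []),(nat_lit 8,nat_lit 27,[],mk []),(nat_lit 9,nat_lit 24,[],mk [])]⟩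
def t333 : TE := ⟨nat_lit 333,nat_lit 0,nat_lit 3,[nat_lit 37],[nat_lit 3, nat_lit 9, nat_lit 37, nat_lit 111],mk [nat_lit 3, nat_lit 9, nat_lit 37, nat_lit 111],mk [nat_lit 9],[(nat_lit 1,nat_lit 216,[],mk []),(nat_lit 2,nat_lit 108,[],mk []),(nat_lit 3,nat_lit 72,[],mk []),(nat_lit 4,nat_lit 54,[],mk []),(nat_lit 6,nat_lit 36,[],mk []),(nat_lit 8,nat_lit 27,[],mk []),(nat_lit 9,nat_lit 24,[],mk [])]⟩
def t335 : TE := ⟨nat_lit 335,nat_lit 0,nat_lit 5,[nat_lit 67],[nat_lit 5, nat_lit 67],mk [nat_lit 5, nat_lit 67],mk [nat_lit 67, nat_lit 5],[(nat_lit 1,nat_lit 264,[],mk []),(nat_lit 2,nat_lit 132,[],mk []),(nat_lit 3,nat_lit 88,[],mk []),(nat_lit 4,nat_lit 66,[],mk []),(nat_lit 6,nat_lit 44,[],mk []),(nat_lit 8,nat_lit 33,[],mk [])]⟩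
def t338 : TE := ⟨nat_lit 338,nat_lit 0,nat_lit 2,[nat_lit 13],[nat_lit 2, nat_lit 13, nat_lit 26, nat_lit 169],mk [nat_lit 2, nat_lit 13, nat_lit 26, nat_lit 169],mk [nat_lit 169],[(nat_lit 1,nat_lit 156,[],mk []),(nat_lit 2,nat_lit 78,[],mk []),(nat_lit 3,nat_lit 52,[],mk []),(nat_lit 4,nat_lit 39,[],mk []),(nat_lit 6,nat_lit 26,[],mk [])]⟩
def t341 : TE := ⟨nat_lit 341,nat_lit 0,nat_lit 11,[nat_lit 31],[nat_lit 11, nat_lit 31],mk [nat_lit 11, nat_lit 31],mk [nat_lit 31, nat_lit 11],[(nat_lit 1,nat_lit 300,[],mk []),(nat_lit 2,nat_lit 150,[],mk []),(nat_lit 3,nat_lit 100,[],mk []),(nat_lit 4,nat_lit 75,[],mk []),(nat_lit 5,nat_lit 60,[],mk []),(nat_lit 6,nat_lit 50,[],mk []),(nat_lit 10,nat_lit 30,[],mk [])]⟩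
def t343 : TE := ⟨nat_lit 343,nat_lit 7,nat_lit 7,[],[nat_lit 7, nat_lit 49],mk [nat_lit 7, nat_lit 49],mk [],[(nat_lit 1,nat_lit 294,[nat_lit 2, nat_lit 3, nat_lit 6, nat_lit 7, nat_lit 14, nat_lit 21, nat_lit 42, nat_lit 49, nat_lit 98, nat_lit 147, nat_lit 294],mk [nat_lit 2, nat_lit 3, nat_lit 6, nat_lit 7, nat_lit 14, nat_lit 21, nat_lit 42, nat_lit 49, nat_lit 98, nat_lit 147, nat_lit 294]),(nat_lit 2,nat_lit 147,[nat_lit 3, nat_lit 7, nat_lit 21, nat_lit 49, nat_lit 147],mk [nat_lit 3, nat_lit 7, nat_lit 21, nat_lit 49, nat_lit 147]),(nat_lit 3,nat_lit 98,[nat_lit 2, nat_lit 7, nat_lit 14, nat_lit 49, nat_lit 98],mk [nat_lit 2, nat_lit 7, nat_lit 14, nat_lit 49, nat_lit 98]),(nat_lit 6,nat_lit 49,[nat_lit 7, nat_lit 49],mk [nat_lit 7, nat_lit 49]),(nat_lit 7,nat_lit 42,[nat_lit 2, nat_lit 3, nat_lit 6, nat_lit 7, nat_lit 14, nat_lit 21, nat_lit 42],mk [nat_lit 2,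 nat_lit 3, nat_lit 6, nat_lit 7, nat_lit 14, nat_lit 21, nat_lit 42])]⟩
def t351 : TE := ⟨nat_lit 351,nat_lit 0,nat_lit 3,[nat_lit 13],[nat_lit 3, nat_lit 9, nat_lit 13, nat_lit 27, nat_lit 39, nat_lit 117],mk [nat_lit 3, nat_lit 9, nat_lit 13, nat_lit 27, nat_lit 39, nat_lit 117],mk [nat_lit 27],[(nat_lit 1,nat_lit 216,[],mk []),(nat_lit 2,nat_lit 108,[],mk []),(nat_lit 3,nat_lit 72,[],mk []),(nat_lit 4,nat_lit 54,[],mk []),(nat_lit 6,nat_lit 36,[],mk []),(nat_lit 8,nat_lit 27,[],mk []),(nat_lit 9,nat_lit 24,[],mk [])]⟩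
def t355 : TE := ⟨nat_lit 355,nat_lit 0,nat_lit 5,[nat_lit 71],[nat_lit 5, nat_lit 71],mk [nat_lit 5, nat_lit 71],mk [nat_lit 71, nat_lit 5],[(nat_lit 1,nat_lit 280,[],mk []),(nat_lit 2,nat_lit 140,[],mk []),(nat_lit 4,nat_lit 70,[],mk []),(nat_lit 5,nat_lit 56,[],mk []),(nat_lit 7,nat_lit 40,[],mk []),(nat_lit 8,nat_lit 35,[],mk []),(nat_lit 10,nat_lit 28,[],mk [])]⟩
def t361 : TE := ⟨nat_lit 361,nat_lit 19,nat_lit 19,[],[nat_lit 19],mk [nat_lit 19],mk [],[(nat_lit 1,nat_lit 342,[nat_lit 2, nat_lit 3, nat_lit 6, nat_lit 9, nat_lit 18, nat_lit 19, nat_lit 38, nat_lit 57, nat_lit 114, nat_lit 171, nat_lit 342],mk [nat_lit 2, nat_lit 3, nat_lit 6, nat_lit 9, nat_lit 18, nat_lit 19, nat_lit 38, nat_lit 57, nat_lit 114, nat_lit 171, nat_lit 342]),(nat_lit 2,nat_lit 171,[nat_lit 3, nat_lit 9, nat_lit 19, nat_lit 57, nat_lit 171],mk [nat_lit 3, nat_lit 9, nat_lit 19, nat_lit 57,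 nat_lit 171]),(nat_lit 3,nat_lit 114,[nat_lit 2, nat_lit 3, nat_lit 6, nat_lit 19, nat_lit 38, nat_lit 57, nat_lit 114],mk [nat_lit 2, nat_lit 3, nat_lit 6, nat_lit 19, nat_lit 38, nat_lit 57, nat_lit 114]),(nat_lit 6,nat_lit 57,[nat_lit 3, nat_lit 19, nat_lit 57],mk [nat_lit 3, nat_lit 19, nat_lit 57]),(nat_lit 9,nat_lit 38,[nat_lit 2, nat_lit 19, nat_lit 38],mk [nat_lit 2, nat_lit 19, nat_lit 38])]⟩
def t363 : TE := ⟨nat_lit 363,nat_lit 0,nat_lit 3,[nat_lit 11],[nat_lit 3, nat_lit 11, nat_lit 33, nat_lit 121],mk [nat_lit 3, nat_lit 11, nat_lit 33, nat_lit 121],mk [nat_lit 121],[(nat_lit 1,nat_lit 220,[],mk []),(nat_lit 2,nat_lit 110,[],mk []),(nat_lit 4,nat_lit 55,[],mk []),(nat_lit 5,nat_lit 44,[],mk []),(nat_lit 10,nat_lit 22,[],mk [])]⟩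
def t371 : TE := ⟨nat_lit 371,nat_lit 0,nat_lit 7,[nat_lit 53],[nat_lit 7, nat_lit 53],mk [nat_lit 7, nat_lit 53],mk [nat_lit 53, nat_lit 7],[(nat_lit 1,nat_lit 312,[],mk []),(nat_lit 2,nat_lit 156,[],mk []),(nat_lit 3,nat_lit 104,[],mk []),(nat_lit 4,nat_lit 78,[],mk []),(nat_lit 6,nat_lit 52,[],mk []),(nat_lit 8,nat_lit 39,[],mk [])]⟩
def t375 : TE := ⟨nat_lit 375,nat_lit 0,nat_lit 3,[nat_lit 5],[nat_lit 3, nat_lit 5, nat_lit 15, nat_lit 25, nat_lit 75, nat_lit 125],mk [nat_lit 3, nat_lit 5, nat_lit 15, nat_lit 25, nat_lit 75, nat_lit 125],mk [nat_lit 125],[(nat_lit 1,nat_lit 200,[],mk []),(nat_lit 2,nat_lit 100,[],mk []),(nat_lit 4,nat_lit 50,[],mk []),(nat_lit 5,nat_lit 40,[],mk []),(nat_lit 8,nat_lit 25,[],mk []),(nat_lit 10,nat_lit 20,[],mk [])]⟩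
def t377 : TE := ⟨nat_lit 377,nat_lit 0,nat_lit 13,[nat_lit 29],[nat_lit 13, nat_lit 29],mk [nat_lit 13, nat_lit 29],mk [nat_lit 29, nat_lit 13],[(nat_lit 1,nat_lit 336,[],mk []),(nat_lit 2,nat_lit 168,[],mk []),(nat_lit 3,nat_lit 112,[],mk []),(nat_lit 4,nat_lit 84,[],mk []),(nat_lit 6,nat_lit 56,[],mk []),(nat_lit 7,nat_lit 48,[],mk []),(nat_lit 8,nat_lit 42,[],mk [])]⟩
def t381 : TE := ⟨nat_lit 381,nat_lit 0,nat_lit 3,[nat_lit 127],[nat_lit 3, nat_lit 127],mk [nat_lit 3, nat_lit 127],mk [nat_lit 127, nat_lit 3],[(nat_lit 1,nat_lit 252,[],mk []),(nat_lit 2,nat_lit 126,[],mk []),(nat_lit 3,nat_lit 84,[],mk []),(nat_lit 4,nat_lit 63,[],mk []),(nat_lit 6,nat_lit 42,[],mk []),(nat_lit 7,nat_lit 36,[],mk []),(nat_lit 9,nat_lit 28,[],mk [])]⟩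
def t386 : TE := ⟨nat_lit 386,nat_lit 0,nat_lit 2,[nat_lit 193],[nat_lit 2, nat_lit 193],mk [nat_lit 2, nat_lit 193],mk [nat_lit 193, nat_lit 2],[(nat_lit 1,nat_lit 192,[],mk []),(nat_lit 2,nat_lit 96,[],mk []),(nat_lit 3,nat_lit 64,[],mk []),(nat_lit 4,nat_lit 48,[],mk []),(nat_lit 6,nat_lit 32,[],mk []),(nat_lit 8,nat_lit 24,[],mk [])]⟩
def t387 : TE := ⟨nat_lit 387,nat_lit 0,nat_lit 3,[nat_lit 43],[nat_lit 3, nat_lit 9, nat_lit 43, nat_lit 129],mk [nat_lit 3, nat_lit 9, nat_lit 43, nat_lit 129],mk [nat_lit 9],[(nat_lit 1,nat_lit 252,[],mk []),(nat_lit 2,nat_lit 126,[],mk []),(nat_lit 3,nat_lit 84,[],mk []),(nat_lit 4,nat_lit 63,[],mk []),(nat_lit 6,nat_lit 42,[],mk []),(nat_lit 7,nat_lit 36,[],mk []),(nat_lit 9,nat_lit 28,[],mk [])]⟩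
def t388 : TE := ⟨nat_lit 388,nat_lit 0,nat_lit 2,[nat_lit 97],[nat_lit 2, nat_lit 4, nat_lit 97, nat_lit 194],mk [nat_lit 2, nat_lit 4, nat_lit 97, nat_lit 194],mk [nat_lit 4],[(nat_lit 1,nat_lit 192,[],mk []),(nat_lit 2,nat_lit 96,[],mk []),(nat_lit 3,nat_lit 64,[],mk []),(nat_lit 4,nat_lit 48,[],mk []),(nat_lit 6,nat_lit 32,[],mk []),(nat_lit 8,nat_lit 24,[],mk [])]⟩
def t394 : TE := ⟨nat_lit 394,nat_lit 0,nat_lit 2,[nat_lit 197],[nat_lit 2, nat_lit 197],mk [nat_lit 2, nat_lit 197],mk [nat_lit 197, nat_lit 2],[(nat_lit 1,nat_lit 196,[],mk []),(nat_lit 2,nat_lit 98,[],mk []),(nat_lit 4,nat_lit 49,[],mk []),(nat_lit 7,nat_lit 28,[],mk [])]⟩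
def t404 : TE := ⟨nat_lit 404,nat_lit 0,nat_lit 2,[nat_lit 101],[nat_lit 2, nat_lit 4, nat_lit 101, nat_lit 202],mk [nat_lit 2, nat_lit 4, nat_lit 101, nat_lit 202],mk [nat_lit 4],[(nat_lit 1,nat_lit 200,[],mk []),(nat_lit 2,nat_lit 100,[],mk []),(nat_lit 4,nat_lit 50,[],mk []),(nat_lit 5,nat_lit 40,[],mk []),(nat_lit 8,nat_lit 25,[],mk []),(nat_lit 10,nat_lit 20,[],mk [])]⟩
def t406 : TE := ⟨nat_lit 406,nat_lit 0,nat_lit 2,[nat_lit 29, nat_lit 7],[nat_lit 2, nat_lit 7, nat_lit 14, nat_lit 29, nat_lit 58, nat_lit 203],mk [nat_lit 2, nat_lit 7, nat_lit 14, nat_lit 29, nat_lit 58, nat_lit 203],mk [nat_lit 203, nat_lit 58, nat_lit 14],[(nat_lit 1,nat_lit 168,[],mk []),(nat_lit 2,nat_lit 84,[],mk []),(nat_lit 3,nat_lit 56,[],mk []),(nat_lit 4,nat_lit 42,[],mk []),(nat_lit 6,nat_lit 28,[],mk []),(nat_lit 7,nat_lit 24,[],mk []),(nat_lit 8,nat_lit 21,[],mk [])]⟩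
def t410 : TE := ⟨nat_lit 410,nat_lit 0,nat_lit 2,[nat_lit 41, nat_lit 5],[nat_lit 2, nat_lit 5, nat_lit 10, nat_lit 41, nat_lit 82, nat_lit 205],mk [nat_lit 2, nat_lit 5, nat_lit 10, nat_lit 41, nat_lit 82, nat_lit 205],mk [nat_lit 205, nat_lit 82, nat_lit 10],[(nat_lit 1,nat_lit 160,[],mk []),(nat_lit 2,nat_lit 80,[],mk []),(nat_lit 4,nat_lit 40,[],mk []),(nat_lit 5,nat_lit 32,[],mk []),(nat_lit 8,nat_lit 20,[],mk []),(nat_lit 10,nat_lit 16,[],mk [])]⟩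
def t413 : TE := ⟨nat_lit 413,nat_lit 0,nat_lit 7,[nat_lit 59],[nat_lit 7, nat_lit 59],mk [nat_lit 7, nat_lit 59],mk [nat_lit 59, nat_lit 7],[(nat_lit 1,nat_lit 348,[],mk []),(nat_lit 2,nat_lit 174,[],mk []),(nat_lit 3,nat_lit 116,[],mk []),(nat_lit 4,nat_lit 87,[],mk []),(nat_lit 6,nat_lit 58,[],mk [])]⟩
def t415 : TE := ⟨nat_lit 415,nat_lit 0,nat_lit 5,[nat_lit 83],[nat_lit 5, nat_lit 83],mk [nat_lit 5, nat_lit 83],mk [nat_lit 83, nat_lit 5],[(nat_lit 1,nat_lit 328,[],mk []),(nat_lit 2,nat_lit 164,[],mk []),(nat_lit 4,nat_lit 82,[],mk []),(nat_lit 8,nat_lit 41,[],mk [])]⟩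
def t425 : TE := ⟨nat_lit 425,nat_lit 0,nat_lit 5,[nat_lit 17],[nat_lit 5, nat_lit 17, nat_lit 25, nat_lit 85],mk [nat_lit 5, nat_lit 17, nat_lit 25, nat_lit 85],mk [nat_lit 25],[(nat_lit 1,nat_lit 320,[],mk []),(nat_lit 2,nat_lit 160,[],mk []),(nat_lit 4,nat_lit 80,[],mk []),(nat_lit 5,nat_lit 64,[],mk []),(nat_lit 8,nat_lit 40,[],mk []),(nat_lit 10,nat_lit 32,[],mk [])]⟩
def t441 : TE := ⟨nat_lit 441,nat_lit 0,nat_lit 3,[nat_lit 7],[nat_lit 3, nat_lit 7, nat_lit 9, nat_lit 21, nat_lit 49, nat_lit 63, nat_lit 147],mk [nat_lit 3, nat_lit 7, nat_lit 9, nat_lit 21, nat_lit 49, nat_lit 63, nat_lit 147],mk [],[(nat_lit 1,nat_lit 252,[],mk []),(nat_lit 2,nat_lit 126,[],mk []),(nat_lit 3,nat_lit 84,[],mk []),(nat_lit 4,nat_lit 63,[],mk []),(nat_lit 6,nat_lit 42,[],mk []),(nat_lit 7,nat_lit 36,[],mk []),(nat_lit 9,nat_lit 28,[],mk [])]⟩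
def t445 : TE := ⟨nat_lit 445,nat_lit 0,nat_lit 5,[nat_lit 89],[nat_lit 5, nat_lit 89],mk [nat_lit 5, nat_lit 89],mk [nat_lit 89, nat_lit 5],[(nat_lit 1,nat_lit 352,[],mk []),(nat_lit 2,nat_lit 176,[],mk []),(nat_lit 4,nat_lit 88,[],mk []),(nat_lit 8,nat_lit 44,[],mk [])]⟩
def t451 : TE := ⟨nat_lit 451,nat_lit 0,nat_lit 11,[nat_lit 41],[nat_lit 11, nat_lit 41],mk [nat_lit 11, nat_lit 41],mk [nat_lit 41, nat_lit 11],[(nat_lit 1,nat_lit 400,[],mk []),(nat_lit 2,nat_lit 200,[],mk []),(nat_lit 4,nat_lit 100,[],mk []),(nat_lit 5,nat_lit 80,[],mk []),(nat_lit 8,nat_lit 50,[],mk []),(nat_lit 10,nat_lit 40,[],mk [])]⟩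
def t453 : TE := ⟨nat_lit 453,nat_lit 0,nat_lit 3,[nat_lit 151],[nat_lit 3, nat_lit 151],mk [nat_lit 3, nat_lit 151],mk [nat_lit 151, nat_lit 3],[(nat_lit 1,nat_lit 300,[],mk []),(nat_lit 2,nat_lit 150,[],mk []),(nat_lit 3,nat_lit 100,[],mk []),(nat_lit 4,nat_lit 75,[],mk []),(nat_lit 5,nat_lit 60,[],mk []),(nat_lit 6,nat_lit 50,[],mk []),(nat_lit 10,nat_lit 30,[],mk [])]⟩
def t465 : TE := ⟨nat_lit 465,nat_lit 0,nat_lit 3,[nat_lit 31, nat_lit 5],[nat_lit 3, nat_lit 5, nat_lit 15, nat_lit 31, nat_lit 93, nat_lit 155],mk [nat_lit 3, nat_lit 5, nat_lit 15, nat_lit 31, nat_lit 93, nat_lit 155],mk [nat_lit 155, nat_lit 93, nat_lit 15],[(nat_lit 1,nat_lit 240,[],mk []),(nat_lit 2,nat_lit 120,[],mk []),(nat_lit 3,nat_lit 80,[],mk []),(nat_lit 4,nat_lit 60,[],mk []),(nat_lit 5,nat_lit 48,[],mk []),(nat_lit 6,nat_lit 40,[],mk []),(nat_lit 8,nat_lit 30,[],mk []),(nat_lit 10,nat_lit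 24,[],mk [])]⟩
def t475 : TE := ⟨nat_lit 475,nat_lit 0,nat_lit 5,[nat_lit 19],[nat_lit 5, nat_lit 19, nat_lit 25, nat_lit 95],mk [nat_lit 5, nat_lit 19, nat_lit 25, nat_lit 95],mk [nat_lit 25],[(nat_lit 1,nat_lit 360,[],mk []),(nat_lit 2,nat_lit 180,[],mk []),(nat_lit 3,nat_lit 120,[],mk []),(nat_lit 4,nat_lit 90,[],mk []),(nat_lit 5,nat_lit 72,[],mk []),(nat_lit 6,nat_lit 60,[],mk []),(nat_lit 8,nat_lit 45,[],mk []),(nat_lit 9,nat_lit 40,[],mk []),(nat_lit 10,nat_lit 36,[],mk [])]⟩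
def t481 : TE := ⟨nat_lit 481,nat_lit 0,nat_lit 13,[nat_lit 37],[nat_lit 13, nat_lit 37],mk [nat_lit 13, nat_lit 37],mk [nat_lit 37, nat_lit 13],[(nat_lit 1,nat_lit 432,[],mk []),(nat_lit 2,nat_lit 216,[],mk []),(nat_lit 3,nat_lit 144,[],mk []),(nat_lit 4,nat_lit 108,[],mk []),(nat_lit 6,nat_lit 72,[],mk []),(nat_lit 8,nat_lit 54,[],mk []),(nat_lit 9,nat_lit 48,[],mk [])]⟩
def t484 : TE := ⟨nat_lit 484,nat_lit 0,nat_lit 2,[nat_lit 11],[nat_lit 2, nat_lit 4, nat_lit 11, nat_lit 22, nat_lit 44, nat_lit 121, nat_lit 242],mk [nat_lit 2, nat_lit 4, nat_lit 11, nat_lit 22, nat_lit 44, nat_lit 121, nat_lit 242],mk [],[(nat_lit 1,nat_lit 220,[],mk []),(nat_lit 2,nat_lit 110,[],mk []),(nat_lit 4,nat_lit 55,[],mk []),(nat_lit 5,nat_lit 44,[],mk []),(nat_lit 10,nat_lit 22,[],mk [])]⟩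
def t485 : TE := ⟨nat_lit 485,nat_lit 0,nat_lit 5,[nat_lit 97],[nat_lit 5, nat_lit 97],mk [nat_lit 5, nat_lit 97],mk [nat_lit 97, nat_lit 5],[(nat_lit 1,nat_lit 384,[],mk []),(nat_lit 2,nat_lit 192,[],mk []),(nat_lit 3,nat_lit 128,[],mk []),(nat_lit 4,nat_lit 96,[],mk []),(nat_lit 6,nat_lit 64,[],mk []),(nat_lit 8,nat_lit 48,[],mk [])]⟩
def t487 : TE := ⟨nat_lit 487,nat_lit 487,nat_lit 487,[],[],mk [],mk [],[(nat_lit 1,nat_lit 486,[nat_lit 2, nat_lit 3, nat_lit 6, nat_lit 9, nat_lit 18, nat_lit 27, nat_lit 54, nat_lit 81, nat_lit 162, nat_lit 243, nat_lit 486],mk [nat_lit 2, nat_lit 3, nat_lit 6, nat_lit 9, nat_lit 18, nat_lit 27, nat_lit 54, nat_lit 81, nat_lit 162, nat_lit 243, nat_lit 486]),(nat_lit 2,nat_lit 243,[nat_lit 3, nat_lit 9, nat_lit 27, nat_lit 81, nat_lit 243],mk [nat_lit 3, nat_lit 9, nat_lit 27, nat_lit 81, nat_lit 243]),(nat_lit 3,nat_lit 162,[nat_lit 2,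 nat_lit 3, nat_lit 6, nat_lit 9, nat_lit 18, nat_lit 27, nat_lit 54, nat_lit 81, nat_lit 162],mk [nat_lit 2, nat_lit 3, nat_lit 6, nat_lit 9, nat_lit 18, nat_lit 27, nat_lit 54, nat_lit 81, nat_lit 162]),(nat_lit 6,nat_lit 81,[nat_lit 3, nat_lit 9, nat_lit 27, nat_lit 81],mk [nat_lit 3, nat_lit 9, nat_lit 27, nat_lit 81]),(nat_lit 9,nat_lit 54,[nat_lit 2, nat_lit 3, nat_lit 6, nat_lit 9, nat_lit 18, nat_lit 27, nat_lit 54],mk [nat_lit 2, nat_lit 3, nat_lit 6, nat_lit 9, nat_lit 18, nat_lit 27, nat_lit 54])]⟩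
def t489 : TE := ⟨nat_lit 489,nat_lit 0,nat_lit 3,[nat_lit 163],[nat_lit 3, nat_lit 163],mk [nat_lit 3, nat_lit 163],mk [nat_lit 163, nat_lit 3],[(nat_lit 1,nat_lit 324,[],mk []),(nat_lit 2,nat_lit 162,[],mk []),(nat_lit 3,nat_lit 108,[],mk []),(nat_lit 4,nat_lit 81,[],mk []),(nat_lit 6,nat_lit 54,[],mk []),(nat_lit 9,nat_lit 36,[],mk [])]⟩
def t497 : TE := ⟨nat_lit 497,nat_lit 0,nat_lit 7,[nat_lit 71],[nat_lit 7, nat_lit 71],mk [nat_lit 7, nat_lit 71],mk [nat_lit 71, nat_lit 7],[(nat_lit 1,nat_lit 420,[],mk []),(nat_lit 2,nat_lit 210,[],mk []),(nat_lit 3,nat_lit 140,[],mk []),(nat_lit 4,nat_lit 105,[],mk []),(nat_lit 5,nat_lit 84,[],mk []),(nat_lit 6,nat_lit 70,[],mk []),(nat_lit 7,nat_lit 60,[],mk []),(nat_lit 10,nat_lit 42,[],mk [])]⟩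
def t502 : TE := ⟨nat_lit 502,nat_lit 0,nat_lit 2,[nat_lit 251],[nat_lit 2, nat_lit 251],mk [nat_lit 2, nat_lit 251],mk [nat_lit 251, nat_lit 2],[(nat_lit 1,nat_lit 250,[],mk []),(nat_lit 2,nat_lit 125,[],mk []),(nat_lit 5,nat_lit 50,[],mk []),(nat_lit 10,nat_lit 25,[],mk [])]⟩
def t503 : TE := ⟨nat_lit 503,nat_lit 503,nat_lit 503,[],[],mk [],mk [],[(nat_lit 1,nat_lit 502,[nat_lit 2, nat_lit 251, nat_lit 502],mk [nat_lit 2, nat_lit 251, nat_lit 502]),(nat_lit 2,nat_lit 251,[nat_lit 251],mk [nat_lit 251])]⟩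
def t505 : TE := ⟨nat_lit 505,nat_lit 0,nat_lit 5,[nat_lit 101],[nat_lit 5, nat_lit 101],mk [nat_lit 5, nat_lit 101],mk [nat_lit 101, nat_lit 5],[(nat_lit 1,nat_lit 400,[],mk []),(nat_lit 2,nat_lit 200,[],mk []),(nat_lit 4,nat_lit 100,[],mk []),(nat_lit 5,nat_lit 80,[],mk []),(nat_lit 8,nat_lit 50,[],mk []),(nat_lit 10,nat_lit 40,[],mk [])]⟩
def t506 : TE := ⟨nat_lit 506,nat_lit 0,nat_lit 2,[nat_lit 23, nat_lit 11],[nat_lit 2, nat_lit 11, nat_lit 22, nat_lit 23, nat_lit 46, nat_lit 253],mk [nat_lit 2, nat_lit 11, nat_lit 22, nat_lit 23, nat_lit 46, nat_lit 253],mk [nat_lit 253, nat_lit 46, nat_lit 22],[(nat_lit 1,nat_lit 220,[],mk []),(nat_lit 2,nat_lit 110,[],mk []),(nat_lit 4,nat_lit 55,[],mk []),(nat_lit 5,nat_lit 44,[],mk []),(nat_lit 10,nat_lit 22,[],mk [])]⟩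
def t507 : TE := ⟨nat_lit 507,nat_lit 0,nat_lit 3,[nat_lit 13],[nat_lit 3, nat_lit 13, nat_lit 39, nat_lit 169],mk [nat_lit 3, nat_lit 13, nat_lit 39, nat_lit 169],mk [nat_lit 169],[(nat_lit 1,nat_lit 312,[],mk []),(nat_lit 2,nat_lit 156,[],mk []),(nat_lit 3,nat_lit 104,[],mk []),(nat_lit 4,nat_lit 78,[],mk []),(nat_lit 6,nat_lit 52,[],mk []),(nat_lit 8,nat_lit 39,[],mk [])]⟩
def t512 : TE := ⟨nat_lit 512,nat_lit 2,nat_lit 2,[],[nat_lit 2, nat_lit 4, nat_lit 8, nat_lit 16, nat_lit 32, nat_lit 64, nat_lit 128, nat_lit 256],mk [nat_lit 2, nat_lit 4, nat_lit 8, nat_lit 16, nat_lit 32, nat_lit 64, nat_lit 128, nat_lit 256],mk [],[(nat_lit 1,nat_lit 256,[],mk []),(nat_lit 2,nat_lit 128,[],mk []),(nat_lit 4,nat_lit 64,[],mk []),(nat_lit 8,nat_lit 32,[],mk [])]⟩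
def t513 : TE := ⟨nat_lit 513,nat_lit 0,nat_lit 3,[nat_lit 19],[nat_lit 3, nat_lit 9, nat_lit 19, nat_lit 27, nat_lit 57, nat_lit 171],mk [nat_lit 3, nat_lit 9, nat_lit 19, nat_lit 27, nat_lit 57, nat_lit 171],mk [nat_lit 27],[(nat_lit 1,nat_lit 324,[],mk []),(nat_lit 2,nat_lit 162,[],mk []),(nat_lit 3,nat_lit 108,[],mk []),(nat_lit 4,nat_lit 81,[],mk []),(nat_lit 6,nat_lit 54,[],mk []),(nat_lit 9,nat_lit 36,[],mk [])]⟩
def t514 : TE := ⟨nat_lit 514,nat_lit 0,nat_lit 2,[nat_lit 257],[nat_lit 2, nat_lit 257],mk [nat_lit 2, nat_lit 257],mk [nat_lit 257, nat_lit 2],[(nat_lit 1,nat_lit 256,[],mk []),(nat_lit 2,nat_lit 128,[],mk []),(nat_lit 4,nat_lit 64,[],mk []),(nat_lit 8,nat_lit 32,[],mk [])]⟩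
def t517 : TE := ⟨nat_lit 517,nat_lit 0,nat_lit 11,[nat_lit 47],[nat_lit 11, nat_lit 47],mk [nat_lit 11, nat_lit 47],mk [nat_lit 47, nat_lit 11],[(nat_lit 1,nat_lit 460,[],mk []),(nat_lit 2,nat_lit 230,[],mk []),(nat_lit 4,nat_lit 115,[],mk []),(nat_lit 5,nat_lit 92,[],mk []),(nat_lit 10,nat_lit 46,[],mk [])]⟩
def t529 : TE := ⟨nat_lit 529,nat_lit 23,nat_lit 23,[],[nat_lit 23],mk [nat_lit 23],mk [],[(nat_lit 1,nat_lit 506,[nat_lit 2, nat_lit 11, nat_lit 22, nat_lit 23, nat_lit 46, nat_lit 253, nat_lit 506],mk [nat_lit 2, nat_lit 11, nat_lit 22, nat_lit 23, nat_lit 46, nat_lit 253, nat_lit 506]),(nat_lit 2,nat_lit 253,[nat_lit 11, nat_lit 23, nat_lit 253],mk [nat_lit 11, nat_lit 23, nat_lit 253])]⟩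
def t553 : TE := ⟨nat_lit 553,nat_lit 0,nat_lit 7,[nat_lit 79],[nat_lit 7, nat_lit 79],mk [nat_lit 7, nat_lit 79],mk [nat_lit 79, nat_lit 7],[(nat_lit 1,nat_lit 468,[],mk []),(nat_lit 2,nat_lit 234,[],mk []),(nat_lit 3,nat_lit 156,[],mk []),(nat_lit 4,nat_lit 117,[],mk []),(nat_lit 6,nat_lit 78,[],mk []),(nat_lit 9,nat_lit 52,[],mk [])]⟩
def t559 : TE := ⟨nat_lit 559,nat_lit 0,nat_lit 13,[nat_lit 43],[nat_lit 13, nat_lit 43],mk [nat_lit 13, nat_lit 43],mk [nat_lit 43, nat_lit 13],[(nat_lit 1,nat_lit 504,[],mk []),(nat_lit 2,nat_lit 252,[],mk []),(nat_lit 3,nat_lit 168,[],mk []),(nat_lit 4,nat_lit 126,[],mk []),(nat_lit 6,nat_lit 84,[],mk []),(nat_lit 7,nat_lit 72,[],mk []),(nat_lit 8,nat_lit 63,[],mk []),(nat_lit 9,nat_lit 56,[],mk [])]⟩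
def t575 : TE := ⟨nat_lit 575,nat_lit 0,nat_lit 5,[nat_lit 23],[nat_lit 5, nat_lit 23, nat_lit 25, nat_lit 115],mk [nat_lit 5, nat_lit 23, nat_lit 25, nat_lit 115],mk [nat_lit 25],[(nat_lit 1,nat_lit 440,[],mk []),(nat_lit 2,nat_lit 220,[],mk []),(nat_lit 4,nat_lit 110,[],mk []),(nat_lit 5,nat_lit 88,[],mk []),(nat_lit 8,nat_lit 55,[],mk []),(nat_lit 10,nat_lit 44,[],mk [])]⟩
def t578 : TE := ⟨nat_lit 578,nat_lit 0,nat_lit 2,[nat_lit 17],[nat_lit 2, nat_lit 17, nat_lit 34, nat_lit 289],mk [nat_lit 2, nat_lit 17, nat_lit 34, nat_lit 289],mk [nat_lit 289],[(nat_lit 1,nat_lit 272,[],mk []),(nat_lit 2,nat_lit 136,[],mk []),(nat_lit 4,nat_lit 68,[],mk []),(nat_lit 8,nat_lit 34,[],mk [])]⟩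
def t591 : TE := ⟨nat_lit 591,nat_lit 0,nat_lit 3,[nat_lit 197],[nat_lit 3, nat_lit 197],mk [nat_lit 3, nat_lit 197],mk [nat_lit 197, nat_lit 3],[(nat_lit 1,nat_lit 392,[],mk []),(nat_lit 2,nat_lit 196,[],mk []),(nat_lit 4,nat_lit 98,[],mk []),(nat_lit 7,nat_lit 56,[],mk []),(nat_lit 8,nat_lit 49,[],mk [])]⟩
def t605 : TE := ⟨nat_lit 605,nat_lit 0,nat_lit 5,[nat_lit 11],[nat_lit 5, nat_lit 11, nat_lit 55, nat_lit 121],mk [nat_lit 5, nat_lit 11, nat_lit 55, nat_lit 121],mk [nat_lit 121],[(nat_lit 1,nat_lit 440,[],mk []),(nat_lit 2,nat_lit 220,[],mk []),(nat_lit 4,nat_lit 110,[],mk []),(nat_lit 5,nat_lit 88,[],mk []),(nat_lit 8,nat_lit 55,[],mk []),(nat_lit 10,nat_lit 44,[],mk [])]⟩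
def t625 : TE := ⟨nat_lit 625,nat_lit 5,nat_lit 5,[],[nat_lit 5, nat_lit 25, nat_lit 125],mk [nat_lit 5, nat_lit 25, nat_lit 125],mk [],[(nat_lit 1,nat_lit 500,[nat_lit 2, nat_lit 4, nat_lit 5, nat_lit 10, nat_lit 20, nat_lit 25, nat_lit 50, nat_lit 100, nat_lit 125, nat_lit 250, nat_lit 500],mk [nat_lit 2, nat_lit 4, nat_lit 5, nat_lit 10, nat_lit 20, nat_lit 25, nat_lit 50, nat_lit 100, nat_lit 125, nat_lit 250, nat_lit 500]),(nat_lit 2,nat_lit 250,[nat_lit 2, nat_lit 5, nat_lit 10, nat_lit 25, nat_lit 50, nat_lit 125, nat_lit 250],mk [nat_lit 2, nat_lit 5, nat_lit 10, nat_lit 25, nat_lit 50, nat_lit 125, nat_lit 250]),(nat_lit 4,nat_lit 125,[nat_lit 5, nat_lit 25, nat_lit 125],mk [nat_lit 5, nat_lit 25, nat_lit 125]),(nat_lit 5,nat_lit 100,[nat_lit 2, nat_lit 4, nat_lit 5, nat_lit 10, nat_lit 20, nat_lit 25, nat_lit 50, nat_lit 100],mk [nat_lit 2, nat_lit 4, nat_lit 5,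 nat_lit 10, nat_lit 20, nat_lit 25, nat_lit 50, nat_lit 100]),(nat_lit 10,nat_lit 50,[nat_lit 2, nat_lit 5, nat_lit 10, nat_lit 25, nat_lit 50],mk [nat_lit 2, nat_lit 5, nat_lit 10, nat_lit 25, nat_lit 50])]⟩
def t637 : TE := ⟨nat_lit 637,nat_lit 0,nat_lit 7,[nat_lit 13],[nat_lit 7, nat_lit 13, nat_lit 49, nat_lit 91],mk [nat_lit 7, nat_lit 13, nat_lit 49, nat_lit 91],mk [nat_lit 49],[(nat_lit 1,nat_lit 504,[],mk []),(nat_lit 2,nat_lit 252,[],mk []),(nat_lit 3,nat_lit 168,[],mk []),(nat_lit 4,nat_lit 126,[],mk []),(nat_lit 6,nat_lit 84,[],mk []),(nat_lit 7,nat_lit 72,[],mk []),(nat_lit 8,nat_lit 63,[],mk []),(nat_lit 9,nat_lit 56,[],mk [])]⟩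
def t652 : TE := ⟨nat_lit 652,nat_lit 0,nat_lit 2,[nat_lit 163],[nat_lit 2, nat_lit 4, nat_lit 163, nat_lit 326],mk [nat_lit 2, nat_lit 4, nat_lit 163, nat_lit 326],mk [nat_lit 4],[(nat_lit 1,nat_lit 324,[],mk []),(nat_lit 2,nat_lit 162,[],mk []),(nat_lit 3,nat_lit 108,[],mk []),(nat_lit 4,nat_lit 81,[],mk []),(nat_lit 6,nat_lit 54,[],mk []),(nat_lit 9,nat_lit 36,[],mk [])]⟩
def t653 : TE := ⟨nat_lit 653,nat_lit 653,nat_lit 653,[],[],mk [],mk [],[(nat_lit 1,nat_lit 652,[nat_lit 2, nat_lit 4, nat_lit 163, nat_lit 326, nat_lit 652],mk [nat_lit 2, nat_lit 4, nat_lit 163, nat_lit 326, nat_lit 652]),(nat_lit 2,nat_lit 326,[nat_lit 2, nat_lit 163, nat_lit 326],mk [nat_lit 2, nat_lit 163, nat_lit 326]),(nat_lit 4,nat_lit 163,[nat_lit 163],mk [nat_lit 163])]⟩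
def t655 : TE := ⟨nat_lit 655,nat_lit 0,nat_lit 5,[nat_lit 131],[nat_lit 5, nat_lit 131],mk [nat_lit 5, nat_lit 131],mk [nat_lit 131, nat_lit 5],[(nat_lit 1,nat_lit 520,[],mk []),(nat_lit 2,nat_lit 260,[],mk []),(nat_lit 4,nat_lit 130,[],mk []),(nat_lit 5,nat_lit 104,[],mk []),(nat_lit 8,nat_lit 65,[],mk []),(nat_lit 10,nat_lit 52,[],mk [])]⟩
def t671 : TE := ⟨nat_lit 671,nat_lit 0,nat_lit 11,[nat_lit 61],[nat_lit 11, nat_lit 61],mk [nat_lit 11, nat_lit 61],mk [nat_lit 61, nat_lit 11],[(nat_lit 1,nat_lit 600,[],mk []),(nat_lit 2,nat_lit 300,[],mk []),(nat_lit 3,nat_lit 200,[],mk []),(nat_lit 4,nat_lit 150,[],mk []),(nat_lit 5,nat_lit 120,[],mk []),(nat_lit 6,nat_lit 100,[],mk []),(nat_lit 8,nat_lit 75,[],mk []),(nat_lit 10,nat_lit 60,[],mk [])]⟩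
def t676 : TE := ⟨nat_lit 676,nat_lit 0,nat_lit 2,[nat_lit 13],[nat_lit 2, nat_lit 4, nat_lit 13, nat_lit 26, nat_lit 52, nat_lit 169, nat_lit 338],mk [nat_lit 2, nat_lit 4, nat_lit 13, nat_lit 26, nat_lit 52, nat_lit 169, nat_lit 338],mk [],[(nat_lit 1,nat_lit 312,[],mk []),(nat_lit 2,nat_lit 156,[],mk []),(nat_lit 3,nat_lit 104,[],mk []),(nat_lit 4,nat_lit 78,[],mk []),(nat_lit 6,nat_lit 52,[],mk []),(nat_lit 8,nat_lit 39,[],mk [])]⟩
def t677 : TE := ⟨nat_lit 677,nat_lit 677,nat_lit 677,[],[],mk [],mk [],[(nat_lit 1,nat_lit 676,[nat_lit 2, nat_lit 4, nat_lit 13, nat_lit 26, nat_lit 52, nat_lit 169, nat_lit 338, nat_lit 676],mk [nat_lit 2, nat_lit 4, nat_lit 13, nat_lit 26, nat_lit 52, nat_lit 169, nat_lit 338, nat_lit 676]),(nat_lit 2,nat_lit 338,[nat_lit 2, nat_lit 13, nat_lit 26, nat_lit 169, nat_lit 338],mk [nat_lit 2, nat_lit 13, nat_lit 26, nat_lit 169, nat_lit 338]),(nat_lit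 4,nat_lit 169,[nat_lit 13, nat_lit 169],mk [nat_lit 13, nat_lit 169])]⟩
def t686 : TE := ⟨nat_lit 686,nat_lit 0,nat_lit 2,[nat_lit 7],[nat_lit 2, nat_lit 7, nat_lit 14, nat_lit 49, nat_lit 98, nat_lit 343],mk [nat_lit 2, nat_lit 7, nat_lit 14, nat_lit 49, nat_lit 98, nat_lit 343],mk [nat_lit 343],[(nat_lit 1,nat_lit 294,[],mk []),(nat_lit 2,nat_lit 147,[],mk []),(nat_lit 3,nat_lit 98,[],mk []),(nat_lit 6,nat_lit 49,[],mk []),(nat_lit 7,nat_lit 42,[],mk [])]⟩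
def t689 : TE := ⟨nat_lit 689,nat_lit 0,nat_lit 13,[nat_lit 53],[nat_lit 13, nat_lit 53],mk [nat_lit 13, nat_lit 53],mk [nat_lit 53, nat_lit 13],[(nat_lit 1,nat_lit 624,[],mk []),(nat_lit 2,nat_lit 312,[],mk []),(nat_lit 3,nat_lit 208,[],mk []),(nat_lit 4,nat_lit 156,[],mk []),(nat_lit 6,nat_lit 104,[],mk []),(nat_lit 8,nat_lit 78,[],mk [])]⟩
def t703 : TE := ⟨nat_lit 703,nat_lit 0,nat_lit 19,[nat_lit 37],[nat_lit 19, nat_lit 37],mk [nat_lit 19, nat_lit 37],mk [nat_lit 37, nat_lit 19],[(nat_lit 1,nat_lit 648,[],mk []),(nat_lit 2,nat_lit 324,[],mk []),(nat_lit 3,nat_lit 216,[],mk []),(nat_lit 4,nat_lit 162,[],mk []),(nat_lit 6,nat_lit 108,[],mk []),(nat_lit 8,nat_lit 81,[],mk []),(nat_lit 9,nat_lit 72,[],mk [])]⟩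
def t722 : TE := ⟨nat_lit 722,nat_lit 0,nat_lit 2,[nat_lit 19],[nat_lit 2, nat_lit 19, nat_lit 38, nat_lit 361],mk [nat_lit 2, nat_lit 19, nat_lit 38, nat_lit 361],mk [nat_lit 361],[(nat_lit 1,nat_lit 342,[],mk []),(nat_lit 2,nat_lit 171,[],mk []),(nat_lit 3,nat_lit 114,[],mk []),(nat_lit 6,nat_lit 57,[],mk []),(nat_lit 9,nat_lit 38,[],mk [])]⟩
def t729 : TE := ⟨nat_lit 729,nat_lit 3,nat_lit 3,[],[nat_lit 3, nat_lit 9, nat_lit 27, nat_lit 81, nat_lit 243],mk [nat_lit 3, nat_lit 9, nat_lit 27, nat_lit 81, nat_lit 243],mk [],[(nat_lit 1,nat_lit 486,[nat_lit 2, nat_lit 3, nat_lit 6, nat_lit 9, nat_lit 18, nat_lit 27, nat_lit 54, nat_lit 81, nat_lit 162, nat_lit 243, nat_lit 486],mk [nat_lit 2, nat_lit 3, nat_lit 6, nat_lit 9, nat_lit 18, nat_lit 27, nat_lit 54, nat_lit 81, nat_lit 162, nat_lit 243, nat_lit 486]),(nat_lit 2,nat_lit 243,[nat_lit 3, nat_lit 9, nat_lit 27, nat_lit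 81, nat_lit 243],mk [nat_lit 3, nat_lit 9, nat_lit 27, nat_lit 81, nat_lit 243]),(nat_lit 3,nat_lit 162,[nat_lit 2, nat_lit 3, nat_lit 6, nat_lit 9, nat_lit 18, nat_lit 27, nat_lit 54, nat_lit 81, nat_lit 162],mk [nat_lit 2, nat_lit 3, nat_lit 6, nat_lit 9, nat_lit 18, nat_lit 27, nat_lit 54, nat_lit 81, nat_lit 162]),(nat_lit 6,nat_lit 81,[nat_lit 3, nat_lit 9, nat_lit 27, nat_lit 81],mk [nat_lit 3, nat_lit 9, nat_lit 27, nat_lit 81]),(nat_lit 9,nat_lit 54,[nat_lit 2, nat_lit 3, nat_lit 6, nat_lit 9, nat_lit 18, nat_lit 27, nat_lit 54],mk [nat_lit 2, nat_lit 3, nat_lit 6, nat_lit 9, nat_lit 18, nat_lit 27, nat_lit 54])]⟩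
def t737 : TE := ⟨nat_lit 737,nat_lit 0,nat_lit 11,[nat_lit 67],[nat_lit 11, nat_lit 67],mk [nat_lit 11, nat_lit 67],mk [nat_lit 67, nat_lit 11],[(nat_lit 1,nat_lit 660,[],mk []),(nat_lit 2,nat_lit 330,[],mk []),(nat_lit 3,nat_lit 220,[],mk []),(nat_lit 4,nat_lit 165,[],mk []),(nat_lit 5,nat_lit 132,[],mk []),(nat_lit 6,nat_lit 110,[],mk []),(nat_lit 10,nat_lit 66,[],mk [])]⟩
def t753 : TE := ⟨nat_lit 753,nat_lit 0,nat_lit 3,[nat_lit 251],[nat_lit 3, nat_lit 251],mk [nat_lit 3, nat_lit 251],mk [nat_lit 251, nat_lit 3],[(nat_lit 1,nat_lit 500,[],mk []),(nat_lit 2,nat_lit 250,[],mk []),(nat_lit 4,nat_lit 125,[],mk []),(nat_lit 5,nat_lit 100,[],mk []),(nat_lit 10,nat_lit 50,[],mk [])]⟩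
def t755 : TE := ⟨nat_lit 755,nat_lit 0,nat_lit 5,[nat_lit 151],[nat_lit 5, nat_lit 151],mk [nat_lit 5, nat_lit 151],mk [nat_lit 151, nat_lit 5],[(nat_lit 1,nat_lit 600,[],mk []),(nat_lit 2,nat_lit 300,[],mk []),(nat_lit 3,nat_lit 200,[],mk []),(nat_lit 4,nat_lit 150,[],mk []),(nat_lit 5,nat_lit 120,[],mk []),(nat_lit 6,nat_lit 100,[],mk []),(nat_lit 8,nat_lit 75,[],mk []),(nat_lit 10,nat_lit 60,[],mk [])]⟩
def t775 : TE := ⟨nat_lit 775,nat_lit 0,nat_lit 5,[nat_lit 31],[nat_lit 5, nat_lit 25, nat_lit 31, nat_lit 155],mk [nat_lit 5, nat_lit 25, nat_lit 31, nat_lit 155],mk [nat_lit 25],[(nat_lit 1,nat_lit 600,[],mk []),(nat_lit 2,nat_lit 300,[],mk []),(nat_lit 3,nat_lit 200,[],mk []),(nat_lit 4,nat_lit 150,[],mk []),(nat_lit 5,nat_lit 120,[],mk []),(nat_lit 6,nat_lit 100,[],mk []),(nat_lit 8,nat_lit 75,[],mk []),(nat_lit 10,nat_lit 60,[],mk [])]⟩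
def t815 : TE := ⟨nat_lit 815,nat_lit 0,nat_lit 5,[nat_lit 163],[nat_lit 5, nat_lit 163],mk [nat_lit 5, nat_lit 163],mk [nat_lit 163, nat_lit 5],[(nat_lit 1,nat_lit 648,[],mk []),(nat_lit 2,nat_lit 324,[],mk []),(nat_lit 3,nat_lit 216,[],mk []),(nat_lit 4,nat_lit 162,[],mk []),(nat_lit 6,nat_lit 108,[],mk []),(nat_lit 8,nat_lit 81,[],mk []),(nat_lit 9,nat_lit 72,[],mk [])]⟩
def t841 : TE := ⟨nat_lit 841,nat_lit 29,nat_lit 29,[],[nat_lit 29],mk [nat_lit 29],mk [],[(nat_lit 1,nat_lit 812,[nat_lit 2, nat_lit 4, nat_lit 7, nat_lit 14, nat_lit 28, nat_lit 29, nat_lit 58, nat_lit 116, nat_lit 203, nat_lit 406, nat_lit 812],mk [nat_lit 2, nat_lit 4, nat_lit 7, nat_lit 14, nat_lit 28, nat_lit 29, nat_lit 58, nat_lit 116, nat_lit 203, nat_lit 406, nat_lit 812]),(nat_lit 2,nat_lit 406,[nat_lit 2, nat_lit 7, nat_lit 14, nat_lit 29, nat_lit 58, nat_lit 203, nat_lit 406],mk [nat_lit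 2, nat_lit 7, nat_lit 14, nat_lit 29, nat_lit 58, nat_lit 203, nat_lit 406]),(nat_lit 4,nat_lit 203,[nat_lit 7, nat_lit 29, nat_lit 203],mk [nat_lit 7, nat_lit 29, nat_lit 203]),(nat_lit 7,nat_lit 116,[nat_lit 2, nat_lit 4, nat_lit 29, nat_lit 58, nat_lit 116],mk [nat_lit 2, nat_lit 4, nat_lit 29, nat_lit 58, nat_lit 116])]⟩
def t845 : TE := ⟨nat_lit 845,nat_lit 0,nat_lit 5,[nat_lit 13],[nat_lit 5, nat_lit 13, nat_lit 65, nat_lit 169],mk [nat_lit 5, nat_lit 13, nat_lit 65, nat_lit 169],mk [nat_lit 169],[(nat_lit 1,nat_lit 624,[],mk []),(nat_lit 2,nat_lit 312,[],mk []),(nat_lit 3,nat_lit 208,[],mk []),(nat_lit 4,nat_lit 156,[],mk []),(nat_lit 6,nat_lit 104,[],mk []),(nat_lit 8,nat_lit 78,[],mk [])]⟩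
def t867 : TE := ⟨nat_lit 867,nat_lit 0,nat_lit 3,[nat_lit 17],[nat_lit 3, nat_lit 17, nat_lit 51, nat_lit 289],mk [nat_lit 3, nat_lit 17, nat_lit 51, nat_lit 289],mk [nat_lit 289],[(nat_lit 1,nat_lit 544,[],mk []),(nat_lit 2,nat_lit 272,[],mk []),(nat_lit 4,nat_lit 136,[],mk []),(nat_lit 8,nat_lit 68,[],mk [])]⟩
def t889 : TE := ⟨nat_lit 889,nat_lit 0,nat_lit 7,[nat_lit 127],[nat_lit 7, nat_lit 127],mk [nat_lit 7, nat_lit 127],mk [nat_lit 127, nat_lit 7],[(nat_lit 1,nat_lit 756,[],mk []),(nat_lit 2,nat_lit 378,[],mk []),(nat_lit 3,nat_lit 252,[],mk []),(nat_lit 4,nat_lit 189,[],mk []),(nat_lit 6,nat_lit 126,[],mk []),(nat_lit 7,nat_lit 108,[],mk []),(nat_lit 9,nat_lit 84,[],mk [])]⟩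
def t903 : TE := ⟨nat_lit 903,nat_lit 0,nat_lit 3,[nat_lit 43, nat_lit 7],[nat_lit 3, nat_lit 7, nat_lit 21, nat_lit 43, nat_lit 129, nat_lit 301],mk [nat_lit 3, nat_lit 7, nat_lit 21, nat_lit 43, nat_lit 129, nat_lit 301],mk [nat_lit 301, nat_lit 129, nat_lit 21],[(nat_lit 1,nat_lit 504,[],mk []),(nat_lit 2,nat_lit 252,[],mk []),(nat_lit 3,nat_lit 168,[],mk []),(nat_lit 4,nat_lit 126,[],mk []),(nat_lit 6,nat_lit 84,[],mk []),(nat_lit 7,nat_lit 72,[],mk []),(nat_lit 8,nat_lit 63,[],mk []),(nat_lit 9,nat_lit 56,[],mk [])]⟩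
def t931 : TE := ⟨nat_lit 931,nat_lit 0,nat_lit 7,[nat_lit 19],[nat_lit 7, nat_lit 19, nat_lit 49, nat_lit 133],mk [nat_lit 7, nat_lit 19, nat_lit 49, nat_lit 133],mk [nat_lit 49],[(nat_lit 1,nat_lit 756,[],mk []),(nat_lit 2,nat_lit 378,[],mk []),(nat_lit 3,nat_lit 252,[],mk []),(nat_lit 4,nat_lit 189,[],mk []),(nat_lit 6,nat_lit 126,[],mk []),(nat_lit 7,nat_lit 108,[],mk []),(nat_lit 9,nat_lit 84,[],mk [])]⟩
def t961 : TE := ⟨nat_lit 961,nat_lit 31,nat_lit 31,[],[nat_lit 31],mk [nat_lit 31],mk [],[(nat_lit 1,nat_lit 930,[nat_lit 2, nat_lit 3, nat_lit 5, nat_lit 6, nat_lit 10, nat_lit 15, nat_lit 30, nat_lit 31, nat_lit 62, nat_lit 93, nat_lit 155, nat_lit 186],mk [nat_lit 2, nat_lit 3, nat_lit 5, nat_lit 6, nat_lit 10, nat_lit 15, nat_lit 30, nat_lit 31, nat_lit 62, nat_lit 93, nat_lit 155, nat_lit 186]),(nat_lit 2,nat_lit 465,[nat_lit 3, nat_lit 5, nat_lit 15, nat_lit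 31, nat_lit 93, nat_lit 155, nat_lit 465],mk [nat_lit 3, nat_lit 5, nat_lit 15, nat_lit 31, nat_lit 93, nat_lit 155, nat_lit 465]),(nat_lit 3,nat_lit 310,[nat_lit 2, nat_lit 5, nat_lit 10, nat_lit 31, nat_lit 62, nat_lit 155, nat_lit 310],mk [nat_lit 2, nat_lit 5, nat_lit 10, nat_lit 31, nat_lit 62, nat_lit 155, nat_lit 310]),(nat_lit 5,nat_lit 186,[nat_lit 2, nat_lit 3, nat_lit 6, nat_lit 31, nat_lit 62, nat_lit 93, nat_lit 186],mk [nat_lit 2, nat_lit 3, nat_lit 6, nat_lit 31, nat_lit 62, nat_lit 93, nat_lit 186]),(nat_lit 6,nat_lit 155,[nat_lit 5, nat_lit 31, nat_lit 155],mk [nat_lit 5, nat_lit 31, nat_lit 155]),(nat_lit 10,nat_lit 93,[nat_lit 3, nat_lit 31, nat_lit 93],mk [nat_lit 3, nat_lit 31, nat_lit 93])]⟩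
def t974 : TE := ⟨nat_lit 974,nat_lit 0,nat_lit 2,[nat_lit 487],[nat_lit 2, nat_lit 487],mk [nat_lit 2, nat_lit 487],mk [nat_lit 487, nat_lit 2],[(nat_lit 1,nat_lit 486,[],mk []),(nat_lit 2,nat_lit 243,[],mk []),(nat_lit 3,nat_lit 162,[],mk []),(nat_lit 6,nat_lit 81,[],mk []),(nat_lit 9,nat_lit 54,[],mk [])]⟩
def t979 : TE := ⟨nat_lit 979,nat_lit 0,nat_lit 11,[nat_lit 89],[nat_lit 11, nat_lit 89],mk [nat_lit 11, nat_lit 89],mk [nat_lit 89, nat_lit 11],[(nat_lit 1,nat_lit 880,[],mk []),(nat_lit 2,nat_lit 440,[],mk []),(nat_lit 4,nat_lit 220,[],mk []),(nat_lit 5,nat_lit 176,[],mk []),(nat_lit 8,nat_lit 110,[],mk []),(nat_lit 10,nat_lit 88,[],mk [])]⟩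
def t981 : TE := ⟨nat_lit 981,nat_lit 0,nat_lit 3,[nat_lit 109],[nat_lit 3, nat_lit 9, nat_lit 109, nat_lit 327],mk [nat_lit 3, nat_lit 9, nat_lit 109, nat_lit 327],mk [nat_lit 9],[(nat_lit 1,nat_lit 648,[],mk []),(nat_lit 2,nat_lit 324,[],mk []),(nat_lit 3,nat_lit 216,[],mk []),(nat_lit 4,nat_lit 162,[],mk []),(nat_lit 6,nat_lit 108,[],mk []),(nat_lit 8,nat_lit 81,[],mk []),(nat_lit 9,nat_lit 72,[],mk [])]⟩
def t1004 : TE := ⟨nat_lit 1004,nat_lit 0,nat_lit 2,[nat_lit 251],[nat_lit 2, nat_lit 4, nat_lit 251, nat_lit 502],mk [nat_lit 2, nat_lit 4, nat_lit 251, nat_lit 502],mk [nat_lit 4],[(nat_lit 1,nat_lit 500,[],mk []),(nat_lit 2,nat_lit 250,[],mk []),(nat_lit 4,nat_lit 125,[],mk []),(nat_lit 5,nat_lit 100,[],mk []),(nat_lit 10,nat_lit 50,[],mk [])]⟩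
def t1006 : TE := ⟨nat_lit 1006,nat_lit 0,nat_lit 2,[nat_lit 503],[nat_lit 2, nat_lit 503],mk [nat_lit 2, nat_lit 503],mk [nat_lit 503, nat_lit 2],[(nat_lit 1,nat_lit 502,[],mk []),(nat_lit 2,nat_lit 251,[],mk [])]⟩
def t1024 : TE := ⟨nat_lit 1024,nat_lit 2,nat_lit 2,[],[nat_lit 2, nat_lit 4, nat_lit 8, nat_lit 16, nat_lit 32, nat_lit 64, nat_lit 128, nat_lit 256, nat_lit 512],mk [nat_lit 2, nat_lit 4, nat_lit 8, nat_lit 16, nat_lit 32, nat_lit 64, nat_lit 128, nat_lit 256, nat_lit 512],mk [],[(nat_lit 1,nat_lit 512,[],mk []),(nat_lit 2,nat_lit 256,[],mk []),(nat_lit 4,nat_lit 128,[],mk []),(nat_lit 8,nat_lit 64,[],mk [])]⟩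
def t1025 : TE := ⟨nat_lit 1025,nat_lit 0,nat_lit 5,[nat_lit 41],[nat_lit 5, nat_lit 25, nat_lit 41, nat_lit 205],mk [nat_lit 5, nat_lit 25, nat_lit 41, nat_lit 205],mk [nat_lit 25],[(nat_lit 1,nat_lit 800,[],mk []),(nat_lit 2,nat_lit 400,[],mk []),(nat_lit 4,nat_lit 200,[],mk []),(nat_lit 5,nat_lit 160,[],mk []),(nat_lit 8,nat_lit 100,[],mk []),(nat_lit 10,nat_lit 80,[],mk [])]⟩
def t1027 : TE := ⟨nat_lit 1027,nat_lit 0,nat_lit 13,[nat_lit 79],[nat_lit 13, nat_lit 79],mk [nat_lit 13, nat_lit 79],mk [nat_lit 79, nat_lit 13],[(nat_lit 1,nat_lit 936,[],mk []),(nat_lit 2,nat_lit 468,[],mk []),(nat_lit 3,nat_lit 312,[],mk []),(nat_lit 4,nat_lit 234,[],mk []),(nat_lit 6,nat_lit 156,[],mk []),(nat_lit 8,nat_lit 117,[],mk []),(nat_lit 9,nat_lit 104,[],mk [])]⟩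
def t1029 : TE := ⟨nat_lit 1029,nat_lit 0,nat_lit 3,[nat_lit 7],[nat_lit 3, nat_lit 7, nat_lit 21, nat_lit 49, nat_lit 147, nat_lit 343],mk [nat_lit 3, nat_lit 7, nat_lit 21, nat_lit 49, nat_lit 147, nat_lit 343],mk [nat_lit 343],[(nat_lit 1,nat_lit 588,[],mk []),(nat_lit 2,nat_lit 294,[],mk []),(nat_lit 3,nat_lit 196,[],mk []),(nat_lit 4,nat_lit 147,[],mk []),(nat_lit 6,nat_lit 98,[],mk []),(nat_lit 7,nat_lit 84,[],mk [])]⟩
def t1058 : TE := ⟨nat_lit 1058,nat_lit 0,nat_lit 2,[nat_lit 23],[nat_lit 2, nat_lit 23, nat_lit 46, nat_lit 529],mk [nat_lit 2, nat_lit 23, nat_lit 46, nat_lit 529],mk [nat_lit 529],[(nat_lit 1,nat_lit 506,[],mk []),(nat_lit 2,nat_lit 253,[],mk [])]⟩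
def t1081 : TE := ⟨nat_lit 1081,nat_lit 0,nat_lit 23,[nat_lit 47],[nat_lit 23, nat_lit 47],mk [nat_lit 23, nat_lit 47],mk [nat_lit 47, nat_lit 23],[(nat_lit 1,nat_lit 1012,[],mk []),(nat_lit 2,nat_lit 506,[],mk []),(nat_lit 4,nat_lit 253,[],mk [])]⟩
def t1083 : TE := ⟨nat_lit 1083,nat_lit 0,nat_lit 3,[nat_lit 19],[nat_lit 3, nat_lit 19, nat_lit 57, nat_lit 361],mk [nat_lit 3, nat_lit 19, nat_lit 57, nat_lit 361],mk [nat_lit 361],[(nat_lit 1,nat_lit 684,[],mk []),(nat_lit 2,nat_lit 342,[],mk []),(nat_lit 3,nat_lit 228,[],mk []),(nat_lit 4,nat_lit 171,[],mk []),(nat_lit 6,nat_lit 114,[],mk []),(nat_lit 9,nat_lit 76,[],mk [])]⟩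
def t1111 : TE := ⟨nat_lit 1111,nat_lit 0,nat_lit 11,[nat_lit 101],[nat_lit 11, nat_lit 101],mk [nat_lit 11, nat_lit 101],mk [nat_lit 101, nat_lit 11],[(nat_lit 1,nat_lit 1000,[],mk []),(nat_lit 2,nat_lit 500,[],mk []),(nat_lit 4,nat_lit 250,[],mk []),(nat_lit 5,nat_lit 200,[],mk []),(nat_lit 8,nat_lit 125,[],mk []),(nat_lit 10,nat_lit 100,[],mk [])]⟩
def t1141 : TE := ⟨nat_lit 1141,nat_lit 0,nat_lit 7,[nat_lit 163],[nat_lit 7, nat_lit 163],mk [nat_lit 7, nat_lit 163],mk [nat_lit 163, nat_lit 7],[(nat_lit 1,nat_lit 972,[],mk []),(nat_lit 2,nat_lit 486,[],mk []),(nat_lit 3,nat_lit 324,[],mk []),(nat_lit 4,nat_lit 243,[],mk []),(nat_lit 6,nat_lit 162,[],mk []),(nat_lit 9,nat_lit 108,[],mk [])]⟩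
def t1156 : TE := ⟨nat_lit 1156,nat_lit 0,nat_lit 2,[nat_lit 17],[nat_lit 2, nat_lit 4, nat_lit 17, nat_lit 34, nat_lit 68, nat_lit 289, nat_lit 578],mk [nat_lit 2, nat_lit 4, nat_lit 17, nat_lit 34, nat_lit 68, nat_lit 289, nat_lit 578],mk [],[(nat_lit 1,nat_lit 544,[],mk []),(nat_lit 2,nat_lit 272,[],mk []),(nat_lit 4,nat_lit 136,[],mk []),(nat_lit 8,nat_lit 68,[],mk [])]⟩
def t1183 : TE := ⟨nat_lit 1183,nat_lit 0,nat_lit 7,[nat_lit 13],[nat_lit 7, nat_lit 13, nat_lit 91, nat_lit 169],mk [nat_lit 7, nat_lit 13, nat_lit 91, nat_lit 169],mk [nat_lit 169],[(nat_lit 1,nat_lit 936,[],mk []),(nat_lit 2,nat_lit 468,[],mk []),(nat_lit 3,nat_lit 312,[],mk []),(nat_lit 4,nat_lit 234,[],mk []),(nat_lit 6,nat_lit 156,[],mk []),(nat_lit 8,nat_lit 117,[],mk []),(nat_lit 9,nat_lit 104,[],mk [])]⟩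
def t1250 : TE := ⟨nat_lit 1250,nat_lit 0,nat_lit 2,[nat_lit 5],[nat_lit 2, nat_lit 5, nat_lit 10, nat_lit 25, nat_lit 50, nat_lit 125, nat_lit 250, nat_lit 625],mk [nat_lit 2, nat_lit 5, nat_lit 10, nat_lit 25, nat_lit 50, nat_lit 125, nat_lit 250, nat_lit 625],mk [nat_lit 625],[(nat_lit 1,nat_lit 500,[],mk []),(nat_lit 2,nat_lit 250,[],mk []),(nat_lit 4,nat_lit 125,[],mk []),(nat_lit 5,nat_lit 100,[],mk []),(nat_lit 10,nat_lit 50,[],mk [])]⟩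
def t1255 : TE := ⟨nat_lit 1255,nat_lit 0,nat_lit 5,[nat_lit 251],[nat_lit 5, nat_lit 251],mk [nat_lit 5, nat_lit 251],mk [nat_lit 251, nat_lit 5],[(nat_lit 1,nat_lit 1000,[],mk []),(nat_lit 2,nat_lit 500,[],mk []),(nat_lit 4,nat_lit 250,[],mk []),(nat_lit 5,nat_lit 200,[],mk []),(nat_lit 8,nat_lit 125,[],mk []),(nat_lit 10,nat_lit 100,[],mk [])]⟩
def t1331 : TE := ⟨nat_lit 1331,nat_lit 11,nat_lit 11,[],[nat_lit 11, nat_lit 121],mk [nat_lit 11, nat_lit 121],mk [],[(nat_lit 1,nat_lit 1210,[nat_lit 2, nat_lit 5, nat_lit 10, nat_lit 11, nat_lit 22, nat_lit 55, nat_lit 110, nat_lit 121, nat_lit 242, nat_lit 605, nat_lit 1210],mk [nat_lit 2, nat_lit 5, nat_lit 10, nat_lit 11, nat_lit 22, nat_lit 55, nat_lit 110, nat_lit 121, nat_lit 242, nat_lit 605, nat_lit 1210]),(nat_lit 2,nat_lit 605,[nat_lit 5, nat_lit 11, nat_lit 55, nat_lit 121, nat_lit 605],mk [nat_lit 5, nat_lit 11,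 nat_lit 55, nat_lit 121, nat_lit 605]),(nat_lit 5,nat_lit 242,[nat_lit 2, nat_lit 11, nat_lit 22, nat_lit 121, nat_lit 242],mk [nat_lit 2, nat_lit 11, nat_lit 22, nat_lit 121, nat_lit 242]),(nat_lit 10,nat_lit 121,[nat_lit 11, nat_lit 121],mk [nat_lit 11, nat_lit 121])]⟩
def t1369 : TE := ⟨nat_lit 1369,nat_lit 37,nat_lit 37,[],[nat_lit 37],mk [nat_lit 37],mk [],[(nat_lit 1,nat_lit 1332,[nat_lit 2, nat_lit 3, nat_lit 4, nat_lit 6, nat_lit 9, nat_lit 12, nat_lit 18, nat_lit 36, nat_lit 37, nat_lit 74, nat_lit 111, nat_lit 148],mk [nat_lit 2, nat_lit 3, nat_lit 4, nat_lit 6, nat_lit 9, nat_lit 12, nat_lit 18, nat_lit 36, nat_lit 37, nat_lit 74, nat_lit 111, nat_lit 148]),(nat_lit 2,nat_lit 666,[nat_lit 2, nat_lit 3, nat_lit 6, nat_lit 9, nat_lit 18, nat_lit 37, nat_lit 74, nat_lit 111, nat_lit 222, nat_lit 333, nat_lit 666],mk [nat_lit 2, nat_lit 3, nat_lit 6, nat_lit 9, nat_lit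 18, nat_lit 37, nat_lit 74, nat_lit 111, nat_lit 222, nat_lit 333, nat_lit 666]),(nat_lit 3,nat_lit 444,[nat_lit 2, nat_lit 3, nat_lit 4, nat_lit 6, nat_lit 12, nat_lit 37, nat_lit 74, nat_lit 111, nat_lit 148, nat_lit 222, nat_lit 444],mk [nat_lit 2, nat_lit 3, nat_lit 4, nat_lit 6, nat_lit 12, nat_lit 37, nat_lit 74, nat_lit 111, nat_lit 148, nat_lit 222, nat_lit 444]),(nat_lit 4,nat_lit 333,[nat_lit 3, nat_lit 9, nat_lit 37, nat_lit 111, nat_lit 333],mk [nat_lit 3, nat_lit 9, nat_lit 37, nat_lit 111, nat_lit 333]),(nat_lit 6,nat_lit 222,[nat_lit 2, nat_lit 3, nat_lit 6, nat_lit 37, nat_lit 74, nat_lit 111, nat_lit 222],mk [nat_lit 2, nat_lit 3, nat_lit 6, nat_lit 37, nat_lit 74, nat_lit 111, nat_lit 222]),(nat_lit 9,nat_lit 148,[nat_lit 2, nat_lit 4, nat_lit 37, nat_lit 74, nat_lit 148],mk [nat_lit 2, nat_lit 4, nat_lit 37, nat_lit 74, nat_lit 148])]⟩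
def t1373 : TE := ⟨nat_lit 1373,nat_lit 1373,nat_lit 1373,[],[],mk [],mk [],[(nat_lit 1,nat_lit 1372,[nat_lit 2, nat_lit 4, nat_lit 7, nat_lit 14, nat_lit 28, nat_lit 49, nat_lit 98, nat_lit 196, nat_lit 343, nat_lit 686, nat_lit 1372],mk [nat_lit 2, nat_lit 4, nat_lit 7, nat_lit 14, nat_lit 28, nat_lit 49, nat_lit 98, nat_lit 196, nat_lit 343, nat_lit 686, nat_lit 1372]),(nat_lit 2,nat_lit 686,[nat_lit 2, nat_lit 7, nat_lit 14, nat_lit 49, nat_lit 98, nat_lit 343, nat_lit 686],mk [nat_lit 2, nat_lit 7, nat_lit 14, nat_lit 49, nat_lit 98, nat_lit 343, nat_lit 686]),(nat_lit 4,nat_lit 343,[nat_lit 7, nat_lit 49, nat_lit 343],mk [nat_lit 7, nat_lit 49, nat_lit 343]),(nat_lit 7,nat_lit 196,[nat_lit 2, nat_lit 4, nat_lit 7, nat_lit 14, nat_lit 28, nat_lit 49, nat_lit 98, nat_lit 196],mk [nat_lit 2, nat_lit 4, nat_lit 7, nat_lit 14, nat_lit 28, nat_lit 49, nat_lit 98, nat_lit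 196])]⟩
def t1375 : TE := ⟨nat_lit 1375,nat_lit 0,nat_lit 5,[nat_lit 11],[nat_lit 5, nat_lit 11, nat_lit 25, nat_lit 55, nat_lit 125, nat_lit 275],mk [nat_lit 5, nat_lit 11, nat_lit 25, nat_lit 55, nat_lit 125, nat_lit 275],mk [nat_lit 125],[(nat_lit 1,nat_lit 1000,[],mk []),(nat_lit 2,nat_lit 500,[],mk []),(nat_lit 4,nat_lit 250,[],mk []),(nat_lit 5,nat_lit 200,[],mk []),(nat_lit 8,nat_lit 125,[],mk []),(nat_lit 10,nat_lit 100,[],mk [])]⟩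
def t1379 : TE := ⟨nat_lit 1379,nat_lit 0,nat_lit 7,[nat_lit 197],[nat_lit 7, nat_lit 197],mk [nat_lit 7, nat_lit 197],mk [nat_lit 197, nat_lit 7],[(nat_lit 1,nat_lit 1176,[],mk []),(nat_lit 2,nat_lit 588,[],mk []),(nat_lit 3,nat_lit 392,[],mk []),(nat_lit 4,nat_lit 294,[],mk []),(nat_lit 6,nat_lit 196,[],mk []),(nat_lit 7,nat_lit 168,[],mk []),(nat_lit 8,nat_lit 147,[],mk [])]⟩
def t1421 : TE := ⟨nat_lit 1421,nat_lit 0,nat_lit 7,[nat_lit 29],[nat_lit 7, nat_lit 29, nat_lit 49, nat_lit 203],mk [nat_lit 7, nat_lit 29, nat_lit 49, nat_lit 203],mk [nat_lit 49],[(nat_lit 1,nat_lit 1176,[],mk []),(nat_lit 2,nat_lit 588,[],mk []),(nat_lit 3,nat_lit 392,[],mk []),(nat_lit 4,nat_lit 294,[],mk []),(nat_lit 6,nat_lit 196,[],mk []),(nat_lit 7,nat_lit 168,[],mk []),(nat_lit 8,nat_lit 147,[],mk [])]⟩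
def t1445 : TE := ⟨nat_lit 1445,nat_lit 0,nat_lit 5,[nat_lit 17],[nat_lit 5, nat_lit 17, nat_lit 85, nat_lit 289],mk [nat_lit 5, nat_lit 17, nat_lit 85, nat_lit 289],mk [nat_lit 289],[(nat_lit 1,nat_lit 1088,[],mk []),(nat_lit 2,nat_lit 544,[],mk []),(nat_lit 4,nat_lit 272,[],mk []),(nat_lit 8,nat_lit 136,[],mk [])]⟩
def t1459 : TE := ⟨nat_lit 1459,nat_lit 1459,nat_lit 1459,[],[],mk [],mk [],[(nat_lit 1,nat_lit 1458,[nat_lit 2, nat_lit 3, nat_lit 6, nat_lit 9, nat_lit 18, nat_lit 27, nat_lit 54, nat_lit 81, nat_lit 162, nat_lit 243, nat_lit 486, nat_lit 729],mk [nat_lit 2, nat_lit 3, nat_lit 6, nat_lit 9, nat_lit 18, nat_lit 27, nat_lit 54, nat_lit 81, nat_lit 162, nat_lit 243, nat_lit 486, nat_lit 729]),(nat_lit 2,nat_lit 729,[nat_lit 3, nat_lit 9, nat_lit 27, nat_lit 81, nat_lit 243, nat_lit 729],mk [nat_lit 3, nat_lit 9, nat_lit 27, nat_lit 81, nat_lit 243, nat_lit 729]),(nat_lit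 3,nat_lit 486,[nat_lit 2, nat_lit 3, nat_lit 6, nat_lit 9, nat_lit 18, nat_lit 27, nat_lit 54, nat_lit 81, nat_lit 162, nat_lit 243, nat_lit 486],mk [nat_lit 2, nat_lit 3, nat_lit 6, nat_lit 9, nat_lit 18, nat_lit 27, nat_lit 54, nat_lit 81, nat_lit 162, nat_lit 243, nat_lit 486]),(nat_lit 6,nat_lit 243,[nat_lit 3, nat_lit 9, nat_lit 27, nat_lit 81, nat_lit 243],mk [nat_lit 3, nat_lit 9, nat_lit 27, nat_lit 81, nat_lit 243]),(nat_lit 9,nat_lit 162,[nat_lit 2, nat_lit 3, nat_lit 6, nat_lit 9, nat_lit 18, nat_lit 27, nat_lit 54, nat_lit 81, nat_lit 162],mk [nat_lit 2, nat_lit 3, nat_lit 6, nat_lit 9, nat_lit 18, nat_lit 27, nat_lit 54, nat_lit 81, nat_lit 162])]⟩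
def t1461 : TE := ⟨nat_lit 1461,nat_lit 0,nat_lit 3,[nat_lit 487],[nat_lit 3, nat_lit 487],mk [nat_lit 3, nat_lit 487],mk [nat_lit 487, nat_lit 3],[(nat_lit 1,nat_lit 972,[],mk []),(nat_lit 2,nat_lit 486,[],mk []),(nat_lit 3,nat_lit 324,[],mk []),(nat_lit 4,nat_lit 243,[],mk []),(nat_lit 6,nat_lit 162,[],mk []),(nat_lit 9,nat_lit 108,[],mk [])]⟩
def t1467 : TE := ⟨nat_lit 1467,nat_lit 0,nat_lit 3,[nat_lit 163],[nat_lit 3, nat_lit 9, nat_lit 163, nat_lit 489],mk [nat_lit 3, nat_lit 9, nat_lit 163, nat_lit 489],mk [nat_lit 9],[(nat_lit 1,nat_lit 972,[],mk []),(nat_lit 2,nat_lit 486,[],mk []),(nat_lit 3,nat_lit 324,[],mk []),(nat_lit 4,nat_lit 243,[],mk []),(nat_lit 6,nat_lit 162,[],mk []),(nat_lit 9,nat_lit 108,[],mk [])]⟩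
def t1649 : TE := ⟨nat_lit 1649,nat_lit 0,nat_lit 17,[nat_lit 97],[nat_lit 17, nat_lit 97],mk [nat_lit 17, nat_lit 97],mk [nat_lit 97, nat_lit 17],[(nat_lit 1,nat_lit 1536,[],mk []),(nat_lit 2,nat_lit 768,[],mk []),(nat_lit 3,nat_lit 512,[],mk []),(nat_lit 4,nat_lit 384,[],mk []),(nat_lit 6,nat_lit 256,[],mk []),(nat_lit 8,nat_lit 192,[],mk [])]⟩
def t1681 : TE := ⟨nat_lit 1681,nat_lit 41,nat_lit 41,[],[nat_lit 41],mk [nat_lit 41],mk [],[(nat_lit 1,nat_lit 1640,[nat_lit 2, nat_lit 4, nat_lit 5, nat_lit 8, nat_lit 10, nat_lit 20, nat_lit 40, nat_lit 41, nat_lit 82, nat_lit 164, nat_lit 205, nat_lit 328],mk [nat_lit 2, nat_lit 4, nat_lit 5, nat_lit 8, nat_lit 10, nat_lit 20, nat_lit 40, nat_lit 41, nat_lit 82, nat_lit 164, nat_lit 205, nat_lit 328]),(nat_lit 2,nat_lit 820,[nat_lit 2, nat_lit 4, nat_lit 5, nat_lit 10, nat_lit 20, nat_lit 41, nat_lit 82, nat_lit 164, nat_lit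 205, nat_lit 410, nat_lit 820],mk [nat_lit 2, nat_lit 4, nat_lit 5, nat_lit 10, nat_lit 20, nat_lit 41, nat_lit 82, nat_lit 164, nat_lit 205, nat_lit 410, nat_lit 820]),(nat_lit 4,nat_lit 410,[nat_lit 2, nat_lit 5, nat_lit 10, nat_lit 41, nat_lit 82, nat_lit 205, nat_lit 410],mk [nat_lit 2, nat_lit 5, nat_lit 10, nat_lit 41, nat_lit 82, nat_lit 205, nat_lit 410]),(nat_lit 5,nat_lit 328,[nat_lit 2, nat_lit 4, nat_lit 8, nat_lit 41, nat_lit 82, nat_lit 164, nat_lit 328],mk [nat_lit 2, nat_lit 4, nat_lit 8, nat_lit 41, nat_lit 82, nat_lit 164, nat_lit 328]),(nat_lit 8,nat_lit 205,[nat_lit 5, nat_lit 41, nat_lit 205],mk [nat_lit 5, nat_lit 41, nat_lit 205]),(nat_lit 10,nat_lit 164,[nat_lit 2, nat_lit 4, nat_lit 41, nat_lit 82, nat_lit 164],mk [nat_lit 2, nat_lit 4, nat_lit 41, nat_lit 82, nat_lit 164])]⟩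
def t1682 : TE := ⟨nat_lit 1682,nat_lit 0,nat_lit 2,[nat_lit 29],[nat_lit 2, nat_lit 29, nat_lit 58, nat_lit 841],mk [nat_lit 2, nat_lit 29, nat_lit 58, nat_lit 841],mk [nat_lit 841],[(nat_lit 1,nat_lit 812,[],mk []),(nat_lit 2,nat_lit 406,[],mk []),(nat_lit 4,nat_lit 203,[],mk []),(nat_lit 7,nat_lit 116,[],mk [])]⟩
def t1703 : TE := ⟨nat_lit 1703,nat_lit 0,nat_lit 13,[nat_lit 131],[nat_lit 13, nat_lit 131],mk [nat_lit 13, nat_lit 131],mk [nat_lit 131, nat_lit 13],[(nat_lit 1,nat_lit 1560,[],mk []),(nat_lit 2,nat_lit 780,[],mk []),(nat_lit 3,nat_lit 520,[],mk []),(nat_lit 4,nat_lit 390,[],mk []),(nat_lit 5,nat_lit 312,[],mk []),(nat_lit 6,nat_lit 260,[],mk []),(nat_lit 8,nat_lit 195,[],mk []),(nat_lit 10,nat_lit 156,[],mk [])]⟩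
def t1711 : TE := ⟨nat_lit 1711,nat_lit 0,nat_lit 29,[nat_lit 59],[nat_lit 29, nat_lit 59],mk [nat_lit 29, nat_lit 59],mk [nat_lit 59, nat_lit 29],[(nat_lit 1,nat_lit 1624,[],mk []),(nat_lit 2,nat_lit 812,[],mk []),(nat_lit 4,nat_lit 406,[],mk []),(nat_lit 7,nat_lit 232,[],mk []),(nat_lit 8,nat_lit 203,[],mk [])]⟩
def t1751 : TE := ⟨nat_lit 1751,nat_lit 0,nat_lit 17,[nat_lit 103],[nat_lit 17, nat_lit 103],mk [nat_lit 17, nat_lit 103],mk [nat_lit 103, nat_lit 17],[(nat_lit 1,nat_lit 1632,[],mk []),(nat_lit 2,nat_lit 816,[],mk []),(nat_lit 3,nat_lit 544,[],mk []),(nat_lit 4,nat_lit 408,[],mk []),(nat_lit 6,nat_lit 272,[],mk []),(nat_lit 8,nat_lit 204,[],mk [])]⟩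
def t1805 : TE := ⟨nat_lit 1805,nat_lit 0,nat_lit 5,[nat_lit 19],[nat_lit 5, nat_lit 19, nat_lit 95, nat_lit 361],mk [nat_lit 5, nat_lit 19, nat_lit 95, nat_lit 361],mk [nat_lit 361],[(nat_lit 1,nat_lit 1368,[],mk []),(nat_lit 2,nat_lit 684,[],mk []),(nat_lit 3,nat_lit 456,[],mk []),(nat_lit 4,nat_lit 342,[],mk []),(nat_lit 6,nat_lit 228,[],mk []),(nat_lit 8,nat_lit 171,[],mk []),(nat_lit 9,nat_lit 152,[],mk [])]⟩
def t1849 : TE := ⟨nat_lit 1849,nat_lit 43,nat_lit 43,[],[nat_lit 43],mk [nat_lit 43],mk [],[(nat_lit 1,nat_lit 1806,[nat_lit 2, nat_lit 3, nat_lit 6, nat_lit 7, nat_lit 14, nat_lit 21, nat_lit 42, nat_lit 43, nat_lit 86, nat_lit 129, nat_lit 258, nat_lit 301],mk [nat_lit 2, nat_lit 3, nat_lit 6, nat_lit 7, nat_lit 14, nat_lit 21, nat_lit 42, nat_lit 43, nat_lit 86, nat_lit 129, nat_lit 258, nat_lit 301]),(nat_lit 2,nat_lit 903,[nat_lit 3, nat_lit 7, nat_lit 21,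 nat_lit 43, nat_lit 129, nat_lit 301, nat_lit 903],mk [nat_lit 3, nat_lit 7, nat_lit 21, nat_lit 43, nat_lit 129, nat_lit 301, nat_lit 903]),(nat_lit 3,nat_lit 602,[nat_lit 2, nat_lit 7, nat_lit 14, nat_lit 43, nat_lit 86, nat_lit 301, nat_lit 602],mk [nat_lit 2, nat_lit 7, nat_lit 14, nat_lit 43, nat_lit 86, nat_lit 301, nat_lit 602]),(nat_lit 6,nat_lit 301,[nat_lit 7, nat_lit 43, nat_lit 301],mk [nat_lit 7, nat_lit 43, nat_lit 301]),(nat_lit 7,nat_lit 258,[nat_lit 2, nat_lit 3, nat_lit 6, nat_lit 43, nat_lit 86, nat_lit 129, nat_lit 258],mk [nat_lit 2, nat_lit 3, nat_lit 6, nat_lit 43, nat_lit 86, nat_lit 129, nat_lit 258])]⟩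
def t1922 : TE := ⟨nat_lit 1922,nat_lit 0,nat_lit 2,[nat_lit 31],[nat_lit 2, nat_lit 31, nat_lit 62, nat_lit 961],mk [nat_lit 2, nat_lit 31, nat_lit 62, nat_lit 961],mk [nat_lit 961],[(nat_lit 1,nat_lit 930,[],mk []),(nat_lit 2,nat_lit 465,[],mk []),(nat_lit 3,nat_lit 310,[],mk []),(nat_lit 5,nat_lit 186,[],mk []),(nat_lit 6,nat_lit 155,[],mk []),(nat_lit 10,nat_lit 93,[],mk [])]⟩
def t2107 : TE := ⟨nat_lit 2107,nat_lit 0,nat_lit 7,[nat_lit 43],[nat_lit 7, nat_lit 43, nat_lit 49, nat_lit 301],mk [nat_lit 7, nat_lit 43, nat_lit 49, nat_lit 301],mk [nat_lit 49],[(nat_lit 1,nat_lit 1764,[],mk []),(nat_lit 2,nat_lit 882,[],mk []),(nat_lit 3,nat_lit 588,[],mk []),(nat_lit 4,nat_lit 441,[],mk []),(nat_lit 6,nat_lit 294,[],mk []),(nat_lit 7,nat_lit 252,[],mk []),(nat_lit 9,nat_lit 196,[],mk [])]⟩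
def t2187 : TE := ⟨nat_lit 2187,nat_lit 3,nat_lit 3,[],[nat_lit 3, nat_lit 9, nat_lit 27, nat_lit 81, nat_lit 243, nat_lit 729],mk [nat_lit 3, nat_lit 9, nat_lit 27, nat_lit 81, nat_lit 243, nat_lit 729],mk [],[(nat_lit 1,nat_lit 1458,[nat_lit 2, nat_lit 3, nat_lit 6, nat_lit 9, nat_lit 18, nat_lit 27, nat_lit 54, nat_lit 81, nat_lit 162, nat_lit 243, nat_lit 486, nat_lit 729],mk [nat_lit 2, nat_lit 3, nat_lit 6, nat_lit 9, nat_lit 18, nat_lit 27, nat_lit 54, nat_lit 81, nat_lit 162, nat_lit 243, nat_lit 486, nat_lit 729]),(nat_lit 2,nat_lit 729,[nat_lit 3, nat_lit 9, nat_lit 27, nat_lit 81, nat_lit 243, nat_lit 729],mk [nat_lit 3, nat_lit 9, nat_lit 27, nat_lit 81, nat_lit 243, nat_lit 729]),(nat_lit 3,nat_lit 486,[nat_lit 2, nat_lit 3, nat_lit 6, nat_lit 9, nat_lit 18, nat_lit 27, nat_lit 54, nat_lit 81, nat_lit 162, nat_lit 243, nat_lit 486],mk [nat_lit 2, nat_lit 3,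 nat_lit 6, nat_lit 9, nat_lit 18, nat_lit 27, nat_lit 54, nat_lit 81, nat_lit 162, nat_lit 243, nat_lit 486]),(nat_lit 6,nat_lit 243,[nat_lit 3, nat_lit 9, nat_lit 27, nat_lit 81, nat_lit 243],mk [nat_lit 3, nat_lit 9, nat_lit 27, nat_lit 81, nat_lit 243]),(nat_lit 9,nat_lit 162,[nat_lit 2, nat_lit 3, nat_lit 6, nat_lit 9, nat_lit 18, nat_lit 27, nat_lit 54, nat_lit 81, nat_lit 162],mk [nat_lit 2, nat_lit 3, nat_lit 6, nat_lit 9, nat_lit 18, nat_lit 27, nat_lit 54, nat_lit 81, nat_lit 162])]⟩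
def t2197 : TE := ⟨nat_lit 2197,nat_lit 13,nat_lit 13,[],[nat_lit 13, nat_lit 169],mk [nat_lit 13, nat_lit 169],mk [],[(nat_lit 1,nat_lit 2028,[nat_lit 2, nat_lit 3, nat_lit 4, nat_lit 6, nat_lit 12, nat_lit 13, nat_lit 26, nat_lit 39, nat_lit 52, nat_lit 78, nat_lit 156, nat_lit 169],mk [nat_lit 2, nat_lit 3, nat_lit 4, nat_lit 6, nat_lit 12, nat_lit 13, nat_lit 26, nat_lit 39, nat_lit 52, nat_lit 78, nat_lit 156, nat_lit 169]),(nat_lit 2,nat_lit 1014,[nat_lit 2, nat_lit 3, nat_lit 6, nat_lit 13, nat_lit 26, nat_lit 39, nat_lit 78, nat_lit 169, nat_lit 338, nat_lit 507, nat_lit 1014],mk [nat_lit 2, nat_lit 3, nat_lit 6, nat_lit 13, nat_lit 26, nat_lit 39, nat_lit 78, nat_lit 169, nat_lit 338, nat_lit 507, nat_lit 1014]),(nat_lit 3,nat_lit 676,[nat_lit 2, nat_lit 4, nat_lit 13, nat_lit 26, nat_lit 52, nat_lit 169, nat_lit 338, nat_lit 676],mk [nat_lit 2, nat_lit 4, nat_lit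 13, nat_lit 26, nat_lit 52, nat_lit 169, nat_lit 338, nat_lit 676]),(nat_lit 4,nat_lit 507,[nat_lit 3, nat_lit 13, nat_lit 39, nat_lit 169, nat_lit 507],mk [nat_lit 3, nat_lit 13, nat_lit 39, nat_lit 169, nat_lit 507]),(nat_lit 6,nat_lit 338,[nat_lit 2, nat_lit 13, nat_lit 26, nat_lit 169, nat_lit 338],mk [nat_lit 2, nat_lit 13, nat_lit 26, nat_lit 169, nat_lit 338])]⟩
def t2209 : TE := ⟨nat_lit 2209,nat_lit 47,nat_lit 47,[],[nat_lit 47],mk [nat_lit 47],mk [],[(nat_lit 1,nat_lit 2162,[nat_lit 2, nat_lit 23, nat_lit 46, nat_lit 47, nat_lit 94, nat_lit 1081, nat_lit 2162],mk [nat_lit 2, nat_lit 23, nat_lit 46, nat_lit 47, nat_lit 94, nat_lit 1081, nat_lit 2162]),(nat_lit 2,nat_lit 1081,[nat_lit 23, nat_lit 47, nat_lit 1081],mk [nat_lit 23, nat_lit 47, nat_lit 1081])]⟩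
def t2329 : TE := ⟨nat_lit 2329,nat_lit 0,nat_lit 17,[nat_lit 137],[nat_lit 17, nat_lit 137],mk [nat_lit 17, nat_lit 137],mk [nat_lit 137, nat_lit 17],[(nat_lit 1,nat_lit 2176,[],mk []),(nat_lit 2,nat_lit 1088,[],mk []),(nat_lit 4,nat_lit 544,[],mk []),(nat_lit 8,nat_lit 272,[],mk [])]⟩
def t2401 : TE := ⟨nat_lit 2401,nat_lit 7,nat_lit 7,[],[nat_lit 7, nat_lit 49, nat_lit 343],mk [nat_lit 7, nat_lit 49, nat_lit 343],mk [],[(nat_lit 1,nat_lit 2058,[nat_lit 2, nat_lit 3, nat_lit 6, nat_lit 7, nat_lit 14, nat_lit 21, nat_lit 42, nat_lit 49, nat_lit 98, nat_lit 147, nat_lit 294, nat_lit 343],mk [nat_lit 2, nat_lit 3, nat_lit 6, nat_lit 7, nat_lit 14, nat_lit 21, nat_lit 42, nat_lit 49, nat_lit 98, nat_lit 147, nat_lit 294, nat_lit 343]),(nat_lit 2,nat_lit 1029,[nat_lit 3, nat_lit 7, nat_lit 21, nat_lit 49, nat_lit 147, nat_lit 343, nat_lit 1029],mk [nat_lit 3, nat_lit 7, nat_lit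 21, nat_lit 49, nat_lit 147, nat_lit 343, nat_lit 1029]),(nat_lit 3,nat_lit 686,[nat_lit 2, nat_lit 7, nat_lit 14, nat_lit 49, nat_lit 98, nat_lit 343, nat_lit 686],mk [nat_lit 2, nat_lit 7, nat_lit 14, nat_lit 49, nat_lit 98, nat_lit 343, nat_lit 686]),(nat_lit 6,nat_lit 343,[nat_lit 7, nat_lit 49, nat_lit 343],mk [nat_lit 7, nat_lit 49, nat_lit 343]),(nat_lit 7,nat_lit 294,[nat_lit 2, nat_lit 3, nat_lit 6, nat_lit 7, nat_lit 14, nat_lit 21, nat_lit 42, nat_lit 49, nat_lit 98, nat_lit 147, nat_lit 294],mk [nat_lit 2, nat_lit 3, nat_lit 6, nat_lit 7, nat_lit 14, nat_lit 21, nat_lit 42, nat_lit 49, nat_lit 98, nat_lit 147, nat_lit 294])]⟩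
def t2515 : TE := ⟨nat_lit 2515,nat_lit 0,nat_lit 5,[nat_lit 503],[nat_lit 5, nat_lit 503],mk [nat_lit 5, nat_lit 503],mk [nat_lit 503, nat_lit 5],[(nat_lit 1,nat_lit 2008,[],mk []),(nat_lit 2,nat_lit 1004,[],mk []),(nat_lit 4,nat_lit 502,[],mk []),(nat_lit 8,nat_lit 251,[],mk [])]⟩
def t2523 : TE := ⟨nat_lit 2523,nat_lit 0,nat_lit 3,[nat_lit 29],[nat_lit 3, nat_lit 29, nat_lit 87, nat_lit 841],mk [nat_lit 3, nat_lit 29, nat_lit 87, nat_lit 841],mk [nat_lit 841],[(nat_lit 1,nat_lit 1624,[],mk []),(nat_lit 2,nat_lit 812,[],mk []),(nat_lit 4,nat_lit 406,[],mk []),(nat_lit 7,nat_lit 232,[],mk []),(nat_lit 8,nat_lit 203,[],mk [])]⟩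
def t2525 : TE := ⟨nat_lit 2525,nat_lit 0,nat_lit 5,[nat_lit 101],[nat_lit 5, nat_lit 25, nat_lit 101, nat_lit 505],mk [nat_lit 5, nat_lit 25, nat_lit 101, nat_lit 505],mk [nat_lit 25],[(nat_lit 1,nat_lit 2000,[],mk []),(nat_lit 2,nat_lit 1000,[],mk []),(nat_lit 4,nat_lit 500,[],mk []),(nat_lit 5,nat_lit 400,[],mk []),(nat_lit 8,nat_lit 250,[],mk []),(nat_lit 10,nat_lit 200,[],mk [])]⟩
def t2527 : TE := ⟨nat_lit 2527,nat_lit 0,nat_lit 7,[nat_lit 19],[nat_lit 7, nat_lit 19, nat_lit 133, nat_lit 361],mk [nat_lit 7, nat_lit 19, nat_lit 133, nat_lit 361],mk [nat_lit 361],[(nat_lit 1,nat_lit 2052,[],mk []),(nat_lit 2,nat_lit 1026,[],mk []),(nat_lit 3,nat_lit 684,[],mk []),(nat_lit 4,nat_lit 513,[],mk []),(nat_lit 6,nat_lit 342,[],mk []),(nat_lit 9,nat_lit 228,[],mk [])]⟩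
def t2645 : TE := ⟨nat_lit 2645,nat_lit 0,nat_lit 5,[nat_lit 23],[nat_lit 5, nat_lit 23, nat_lit 115, nat_lit 529],mk [nat_lit 5, nat_lit 23, nat_lit 115, nat_lit 529],mk [nat_lit 529],[(nat_lit 1,nat_lit 2024,[],mk []),(nat_lit 2,nat_lit 1012,[],mk []),(nat_lit 4,nat_lit 506,[],mk []),(nat_lit 8,nat_lit 253,[],mk [])]⟩
def t2662 : TE := ⟨nat_lit 2662,nat_lit 0,nat_lit 2,[nat_lit 11],[nat_lit 2, nat_lit 11, nat_lit 22, nat_lit 121, nat_lit 242, nat_lit 1331],mk [nat_lit 2, nat_lit 11, nat_lit 22, nat_lit 121, nat_lit 242, nat_lit 1331],mk [nat_lit 1331],[(nat_lit 1,nat_lit 1210,[],mk []),(nat_lit 2,nat_lit 605,[],mk []),(nat_lit 5,nat_lit 242,[],mk []),(nat_lit 10,nat_lit 121,[],mk [])]⟩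
def t2663 : TE := ⟨nat_lit 2663,nat_lit 2663,nat_lit 2663,[],[],mk [],mk [],[(nat_lit 1,nat_lit 2662,[nat_lit 2, nat_lit 11, nat_lit 22, nat_lit 121, nat_lit 242, nat_lit 1331, nat_lit 2662],mk [nat_lit 2, nat_lit 11, nat_lit 22, nat_lit 121, nat_lit 242, nat_lit 1331, nat_lit 2662]),(nat_lit 2,nat_lit 1331,[nat_lit 11, nat_lit 121, nat_lit 1331],mk [nat_lit 11, nat_lit 121, nat_lit 1331])]⟩
def t2738 : TE := ⟨nat_lit 2738,nat_lit 0,nat_lit 2,[nat_lit 37],[nat_lit 2, nat_lit 37, nat_lit 74, nat_lit 1369],mk [nat_lit 2, nat_lit 37, nat_lit 74, nat_lit 1369],mk [nat_lit 1369],[(nat_lit 1,nat_lit 1332,[],mk []),(nat_lit 2,nat_lit 666,[],mk []),(nat_lit 3,nat_lit 444,[],mk []),(nat_lit 4,nat_lit 333,[],mk []),(nat_lit 6,nat_lit 222,[],mk []),(nat_lit 9,nat_lit 148,[],mk [])]⟩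
def t2761 : TE := ⟨nat_lit 2761,nat_lit 0,nat_lit 11,[nat_lit 251],[nat_lit 11, nat_lit 251],mk [nat_lit 11, nat_lit 251],mk [nat_lit 251, nat_lit 11],[(nat_lit 1,nat_lit 2500,[],mk []),(nat_lit 2,nat_lit 1250,[],mk []),(nat_lit 4,nat_lit 625,[],mk []),(nat_lit 5,nat_lit 500,[],mk []),(nat_lit 10,nat_lit 250,[],mk [])]⟩
def t2783 : TE := ⟨nat_lit 2783,nat_lit 0,nat_lit 11,[nat_lit 23],[nat_lit 11, nat_lit 23, nat_lit 121, nat_lit 253],mk [nat_lit 11, nat_lit 23, nat_lit 121, nat_lit 253],mk [nat_lit 121],[(nat_lit 1,nat_lit 2420,[],mk []),(nat_lit 2,nat_lit 1210,[],mk []),(nat_lit 4,nat_lit 605,[],mk []),(nat_lit 5,nat_lit 484,[],mk []),(nat_lit 10,nat_lit 242,[],mk [])]⟩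
def t2809 : TE := ⟨nat_lit 2809,nat_lit 53,nat_lit 53,[],[nat_lit 53],mk [nat_lit 53],mk [],[(nat_lit 1,nat_lit 2756,[nat_lit 2, nat_lit 4, nat_lit 13, nat_lit 26, nat_lit 52, nat_lit 53, nat_lit 106, nat_lit 212, nat_lit 689, nat_lit 1378, nat_lit 2756],mk [nat_lit 2, nat_lit 4, nat_lit 13, nat_lit 26, nat_lit 52, nat_lit 53, nat_lit 106, nat_lit 212, nat_lit 689, nat_lit 1378, nat_lit 2756]),(nat_lit 2,nat_lit 1378,[nat_lit 2, nat_lit 13, nat_lit 26, nat_lit 53, nat_lit 106, nat_lit 689, nat_lit 1378],mk [nat_lit 2, nat_lit 13, nat_lit 26, nat_lit 53, nat_lit 106, nat_lit 689, nat_lit 1378]),(nat_lit 4,nat_lit 689,[nat_lit 13, nat_lit 53, nat_lit 689],mk [nat_lit 13, nat_lit 53, nat_lit 689])]⟩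
def t2883 : TE := ⟨nat_lit 2883,nat_lit 0,nat_lit 3,[nat_lit 31],[nat_lit 3, nat_lit 31, nat_lit 93, nat_lit 961],mk [nat_lit 3, nat_lit 31, nat_lit 93, nat_lit 961],mk [nat_lit 961],[(nat_lit 1,nat_lit 1860,[],mk []),(nat_lit 2,nat_lit 930,[],mk []),(nat_lit 3,nat_lit 620,[],mk []),(nat_lit 4,nat_lit 465,[],mk []),(nat_lit 5,nat_lit 372,[],mk []),(nat_lit 6,nat_lit 310,[],mk []),(nat_lit 10,nat_lit 186,[],mk [])]⟩
def t2918 : TE := ⟨nat_lit 2918,nat_lit 0,nat_lit 2,[nat_lit 1459],[nat_lit 2, nat_lit 1459],mk [nat_lit 2, nat_lit 1459],mk [nat_lit 1459, nat_lit 2],[(nat_lit 1,nat_lit 1458,[],mk []),(nat_lit 2,nat_lit 729,[],mk []),(nat_lit 3,nat_lit 486,[],mk []),(nat_lit 6,nat_lit 243,[],mk []),(nat_lit 9,nat_lit 162,[],mk [])]⟩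
def t3097 : TE := ⟨nat_lit 3097,nat_lit 0,nat_lit 19,[nat_lit 163],[nat_lit 19, nat_lit 163],mk [nat_lit 19, nat_lit 163],mk [nat_lit 163, nat_lit 19],[(nat_lit 1,nat_lit 2916,[],mk []),(nat_lit 2,nat_lit 1458,[],mk []),(nat_lit 3,nat_lit 972,[],mk []),(nat_lit 4,nat_lit 729,[],mk []),(nat_lit 6,nat_lit 486,[],mk []),(nat_lit 9,nat_lit 324,[],mk [])]⟩
def t3125 : TE := ⟨nat_lit 3125,nat_lit 5,nat_lit 5,[],[nat_lit 5, nat_lit 25, nat_lit 125, nat_lit 625],mk [nat_lit 5, nat_lit 25, nat_lit 125, nat_lit 625],mk [],[(nat_lit 1,nat_lit 2500,[nat_lit 2, nat_lit 4, nat_lit 5, nat_lit 10, nat_lit 20, nat_lit 25, nat_lit 50, nat_lit 100, nat_lit 125, nat_lit 250, nat_lit 500, nat_lit 625],mk [nat_lit 2, nat_lit 4, nat_lit 5, nat_lit 10, nat_lit 20, nat_lit 25, nat_lit 50, nat_lit 100, nat_lit 125, nat_lit 250, nat_lit 500, nat_lit 625]),(nat_lit 2,nat_lit 1250,[nat_lit 2, nat_lit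 5, nat_lit 10, nat_lit 25, nat_lit 50, nat_lit 125, nat_lit 250, nat_lit 625, nat_lit 1250],mk [nat_lit 2, nat_lit 5, nat_lit 10, nat_lit 25, nat_lit 50, nat_lit 125, nat_lit 250, nat_lit 625, nat_lit 1250]),(nat_lit 4,nat_lit 625,[nat_lit 5, nat_lit 25, nat_lit 125, nat_lit 625],mk [nat_lit 5, nat_lit 25, nat_lit 125, nat_lit 625]),(nat_lit 5,nat_lit 500,[nat_lit 2, nat_lit 4, nat_lit 5, nat_lit 10, nat_lit 20, nat_lit 25, nat_lit 50, nat_lit 100, nat_lit 125, nat_lit 250, nat_lit 500],mk [nat_lit 2, nat_lit 4, nat_lit 5, nat_lit 10, nat_lit 20, nat_lit 25, nat_lit 50, nat_lit 100, nat_lit 125, nat_lit 250, nat_lit 500]),(nat_lit 10,nat_lit 250,[nat_lit 2, nat_lit 5, nat_lit 10, nat_lit 25, nat_lit 50, nat_lit 125, nat_lit 250],mk [nat_lit 2, nat_lit 5, nat_lit 10, nat_lit 25, nat_lit 50, nat_lit 125, nat_lit 250])]⟩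
def t3249 : TE := ⟨nat_lit 3249,nat_lit 0,nat_lit 3,[nat_lit 19],[nat_lit 3, nat_lit 9, nat_lit 19, nat_lit 57, nat_lit 171, nat_lit 361, nat_lit 1083],mk [nat_lit 3, nat_lit 9, nat_lit 19, nat_lit 57, nat_lit 171, nat_lit 361, nat_lit 1083],mk [],[(nat_lit 1,nat_lit 2052,[],mk []),(nat_lit 2,nat_lit 1026,[],mk []),(nat_lit 3,nat_lit 684,[],mk []),(nat_lit 4,nat_lit 513,[],mk []),(nat_lit 6,nat_lit 342,[],mk []),(nat_lit 9,nat_lit 228,[],mk [])]⟩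
def t3362 : TE := ⟨nat_lit 3362,nat_lit 0,nat_lit 2,[nat_lit 41],[nat_lit 2, nat_lit 41, nat_lit 82, nat_lit 1681],mk [nat_lit 2, nat_lit 41, nat_lit 82, nat_lit 1681],mk [nat_lit 1681],[(nat_lit 1,nat_lit 1640,[],mk []),(nat_lit 2,nat_lit 820,[],mk []),(nat_lit 4,nat_lit 410,[],mk []),(nat_lit 5,nat_lit 328,[],mk []),(nat_lit 8,nat_lit 205,[],mk []),(nat_lit 10,nat_lit 164,[],mk [])]⟩
def t3403 : TE := ⟨nat_lit 3403,nat_lit 0,nat_lit 41,[nat_lit 83],[nat_lit 41, nat_lit 83],mk [nat_lit 41, nat_lit 83],mk [nat_lit 83, nat_lit 41],[(nat_lit 1,nat_lit 3280,[],mk []),(nat_lit 2,nat_lit 1640,[],mk []),(nat_lit 4,nat_lit 820,[],mk []),(nat_lit 5,nat_lit 656,[],mk []),(nat_lit 8,nat_lit 410,[],mk []),(nat_lit 10,nat_lit 328,[],mk [])]⟩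
def t3481 : TE := ⟨nat_lit 3481,nat_lit 59,nat_lit 59,[],[nat_lit 59],mk [nat_lit 59],mk [],[(nat_lit 1,nat_lit 3422,[nat_lit 2, nat_lit 29, nat_lit 58, nat_lit 59, nat_lit 118, nat_lit 1711, nat_lit 3422],mk [nat_lit 2, nat_lit 29, nat_lit 58, nat_lit 59, nat_lit 118, nat_lit 1711, nat_lit 3422]),(nat_lit 2,nat_lit 1711,[nat_lit 29, nat_lit 59, nat_lit 1711],mk [nat_lit 29, nat_lit 59, nat_lit 1711])]⟩
def t3698 : TE := ⟨nat_lit 3698,nat_lit 0,nat_lit 2,[nat_lit 43],[nat_lit 2, nat_lit 43, nat_lit 86, nat_lit 1849],mk [nat_lit 2, nat_lit 43, nat_lit 86, nat_lit 1849],mk [nat_lit 1849],[(nat_lit 1,nat_lit 1806,[],mk []),(nat_lit 2,nat_lit 903,[],mk []),(nat_lit 3,nat_lit 602,[],mk []),(nat_lit 6,nat_lit 301,[],mk []),(nat_lit 7,nat_lit 258,[],mk [])]⟩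
def t3721 : TE := ⟨nat_lit 3721,nat_lit 61,nat_lit 61,[],[nat_lit 61],mk [nat_lit 61],mk [],[(nat_lit 1,nat_lit 3660,[nat_lit 2, nat_lit 3, nat_lit 4, nat_lit 5, nat_lit 6, nat_lit 10, nat_lit 12, nat_lit 15, nat_lit 20, nat_lit 30, nat_lit 60, nat_lit 61],mk [nat_lit 2, nat_lit 3, nat_lit 4, nat_lit 5, nat_lit 6, nat_lit 10, nat_lit 12, nat_lit 15, nat_lit 20, nat_lit 30, nat_lit 60, nat_lit 61]),(nat_lit 2,nat_lit 1830,[nat_lit 2, nat_lit 3, nat_lit 5, nat_lit 6, nat_lit 10, nat_lit 15, nat_lit 30, nat_lit 61, nat_lit 122, nat_lit 183, nat_lit 305, nat_lit 366],mk [nat_lit 2, nat_lit 3, nat_lit 5, nat_lit 6, nat_lit 10, nat_lit 15, nat_lit 30, nat_lit 61, nat_lit 122, nat_lit 183, nat_lit 305, nat_lit 366]),(nat_lit 3,nat_lit 1220,[nat_lit 2, nat_lit 4, nat_lit 5, nat_lit 10, nat_lit 20, nat_lit 61, nat_lit 122, nat_lit 244, nat_lit 305, nat_lit 610, nat_lit 1220],mk [nat_lit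 2, nat_lit 4, nat_lit 5, nat_lit 10, nat_lit 20, nat_lit 61, nat_lit 122, nat_lit 244, nat_lit 305, nat_lit 610, nat_lit 1220]),(nat_lit 4,nat_lit 915,[nat_lit 3, nat_lit 5, nat_lit 15, nat_lit 61, nat_lit 183, nat_lit 305, nat_lit 915],mk [nat_lit 3, nat_lit 5, nat_lit 15, nat_lit 61, nat_lit 183, nat_lit 305, nat_lit 915]),(nat_lit 5,nat_lit 732,[nat_lit 2, nat_lit 3, nat_lit 4, nat_lit 6, nat_lit 12, nat_lit 61, nat_lit 122, nat_lit 183, nat_lit 244, nat_lit 366, nat_lit 732],mk [nat_lit 2, nat_lit 3, nat_lit 4, nat_lit 6, nat_lit 12, nat_lit 61, nat_lit 122, nat_lit 183, nat_lit 244, nat_lit 366, nat_lit 732]),(nat_lit 6,nat_lit 610,[nat_lit 2, nat_lit 5, nat_lit 10, nat_lit 61, nat_lit 122, nat_lit 305, nat_lit 610],mk [nat_lit 2, nat_lit 5, nat_lit 10, nat_lit 61, nat_lit 122, nat_lit 305, nat_lit 610]),(nat_lit 10,nat_lit 366,[nat_lit 2, nat_lit 3, nat_lit 6, nat_lit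 61, nat_lit 122, nat_lit 183, nat_lit 366],mk [nat_lit 2, nat_lit 3, nat_lit 6, nat_lit 61, nat_lit 122, nat_lit 183, nat_lit 366])]⟩
def t4107 : TE := ⟨nat_lit 4107,nat_lit 0,nat_lit 3,[nat_lit 37],[nat_lit 3, nat_lit 37, nat_lit 111, nat_lit 1369],mk [nat_lit 3, nat_lit 37, nat_lit 111, nat_lit 1369],mk [nat_lit 1369],[(nat_lit 1,nat_lit 2664,[],mk []),(nat_lit 2,nat_lit 1332,[],mk []),(nat_lit 3,nat_lit 888,[],mk []),(nat_lit 4,nat_lit 666,[],mk []),(nat_lit 6,nat_lit 444,[],mk []),(nat_lit 8,nat_lit 333,[],mk []),(nat_lit 9,nat_lit 296,[],mk [])]⟩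
def t4377 : TE := ⟨nat_lit 4377,nat_lit 0,nat_lit 3,[nat_lit 1459],[nat_lit 3, nat_lit 1459],mk [nat_lit 3, nat_lit 1459],mk [nat_lit 1459, nat_lit 3],[(nat_lit 1,nat_lit 2916,[],mk []),(nat_lit 2,nat_lit 1458,[],mk []),(nat_lit 3,nat_lit 972,[],mk []),(nat_lit 4,nat_lit 729,[],mk []),(nat_lit 6,nat_lit 486,[],mk []),(nat_lit 9,nat_lit 324,[],mk [])]⟩
def t4383 : TE := ⟨nat_lit 4383,nat_lit 0,nat_lit 3,[nat_lit 487],[nat_lit 3, nat_lit 9, nat_lit 487, nat_lit 1461],mk [nat_lit 3, nat_lit 9, nat_lit 487, nat_lit 1461],mk [nat_lit 9],[(nat_lit 1,nat_lit 2916,[],mk []),(nat_lit 2,nat_lit 1458,[],mk []),(nat_lit 3,nat_lit 972,[],mk []),(nat_lit 4,nat_lit 729,[],mk []),(nat_lit 6,nat_lit 486,[],mk []),(nat_lit 9,nat_lit 324,[],mk [])]⟩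
def t4394 : TE := ⟨nat_lit 4394,nat_lit 0,nat_lit 2,[nat_lit 13],[nat_lit 2, nat_lit 13, nat_lit 26, nat_lit 169, nat_lit 338, nat_lit 2197],mk [nat_lit 2, nat_lit 13, nat_lit 26, nat_lit 169, nat_lit 338, nat_lit 2197],mk [nat_lit 2197],[(nat_lit 1,nat_lit 2028,[],mk []),(nat_lit 2,nat_lit 1014,[],mk []),(nat_lit 3,nat_lit 676,[],mk []),(nat_lit 4,nat_lit 507,[],mk []),(nat_lit 6,nat_lit 338,[],mk [])]⟩
def t4401 : TE := ⟨nat_lit 4401,nat_lit 0,nat_lit 3,[nat_lit 163],[nat_lit 3, nat_lit 9, nat_lit 27, nat_lit 163, nat_lit 489, nat_lit 1467],mk [nat_lit 3, nat_lit 9, nat_lit 27, nat_lit 163, nat_lit 489, nat_lit 1467],mk [nat_lit 27],[(nat_lit 1,nat_lit 2916,[],mk []),(nat_lit 2,nat_lit 1458,[],mk []),(nat_lit 3,nat_lit 972,[],mk []),(nat_lit 4,nat_lit 729,[],mk []),(nat_lit 6,nat_lit 486,[],mk []),(nat_lit 9,nat_lit 324,[],mk [])]⟩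
def t4489 : TE := ⟨nat_lit 4489,nat_lit 67,nat_lit 67,[],[nat_lit 67],mk [nat_lit 67],mk [],[(nat_lit 1,nat_lit 4422,[nat_lit 2, nat_lit 3, nat_lit 6, nat_lit 11, nat_lit 22, nat_lit 33, nat_lit 66, nat_lit 67, nat_lit 134, nat_lit 201, nat_lit 402, nat_lit 737],mk [nat_lit 2, nat_lit 3, nat_lit 6, nat_lit 11, nat_lit 22, nat_lit 33, nat_lit 66, nat_lit 67, nat_lit 134, nat_lit 201, nat_lit 402, nat_lit 737]),(nat_lit 2,nat_lit 2211,[nat_lit 3, nat_lit 11, nat_lit 33, nat_lit 67, nat_lit 201, nat_lit 737, nat_lit 2211],mk [nat_lit 3, nat_lit 11, nat_lit 33, nat_lit 67, nat_lit 201, nat_lit 737, nat_lit 2211]),(nat_lit 3,nat_lit 1474,[nat_lit 2, nat_lit 11, nat_lit 22, nat_lit 67, nat_lit 134, nat_lit 737, nat_lit 1474],mk [nat_lit 2, nat_lit 11, nat_lit 22, nat_lit 67, nat_lit 134, nat_lit 737, nat_lit 1474]),(nat_lit 6,nat_lit 737,[nat_lit 11, nat_lit 67, nat_lit 737],mk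 [nat_lit 11, nat_lit 67, nat_lit 737])]⟩
def t4805 : TE := ⟨nat_lit 4805,nat_lit 0,nat_lit 5,[nat_lit 31],[nat_lit 5, nat_lit 31, nat_lit 155, nat_lit 961],mk [nat_lit 5, nat_lit 31, nat_lit 155, nat_lit 961],mk [nat_lit 961],[(nat_lit 1,nat_lit 3720,[],mk []),(nat_lit 2,nat_lit 1860,[],mk []),(nat_lit 3,nat_lit 1240,[],mk []),(nat_lit 4,nat_lit 930,[],mk []),(nat_lit 5,nat_lit 744,[],mk []),(nat_lit 6,nat_lit 620,[],mk []),(nat_lit 8,nat_lit 465,[],mk []),(nat_lit 10,nat_lit 372,[],mk [])]⟩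
def t4913 : TE := ⟨nat_lit 4913,nat_lit 17,nat_lit 17,[],[nat_lit 17, nat_lit 289],mk [nat_lit 17, nat_lit 289],mk [],[(nat_lit 1,nat_lit 4624,[nat_lit 2, nat_lit 4, nat_lit 8, nat_lit 16, nat_lit 17, nat_lit 34, nat_lit 68, nat_lit 136, nat_lit 272, nat_lit 289, nat_lit 578, nat_lit 1156],mk [nat_lit 2, nat_lit 4, nat_lit 8, nat_lit 16, nat_lit 17, nat_lit 34, nat_lit 68, nat_lit 136, nat_lit 272, nat_lit 289, nat_lit 578, nat_lit 1156]),(nat_lit 2,nat_lit 2312,[nat_lit 2, nat_lit 4, nat_lit 8, nat_lit 17, nat_lit 34, nat_lit 68, nat_lit 136, nat_lit 289, nat_lit 578, nat_lit 1156, nat_lit 2312],mk [nat_lit 2, nat_lit 4, nat_lit 8, nat_lit 17, nat_lit 34, nat_lit 68, nat_lit 136, nat_lit 289, nat_lit 578, nat_lit 1156, nat_lit 2312]),(nat_lit 4,nat_lit 1156,[nat_lit 2, nat_lit 4, nat_lit 17, nat_lit 34, nat_lit 68, nat_lit 289, nat_lit 578, nat_lit 1156],mk [nat_lit 2,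 nat_lit 4, nat_lit 17, nat_lit 34, nat_lit 68, nat_lit 289, nat_lit 578, nat_lit 1156]),(nat_lit 8,nat_lit 578,[nat_lit 2, nat_lit 17, nat_lit 34, nat_lit 289, nat_lit 578],mk [nat_lit 2, nat_lit 17, nat_lit 34, nat_lit 289, nat_lit 578])]⟩
def t5041 : TE := ⟨nat_lit 5041,nat_lit 71,nat_lit 71,[],[nat_lit 71],mk [nat_lit 71],mk [],[(nat_lit 1,nat_lit 4970,[nat_lit 2, nat_lit 5, nat_lit 7, nat_lit 10, nat_lit 14, nat_lit 35, nat_lit 70, nat_lit 71, nat_lit 142, nat_lit 355, nat_lit 497, nat_lit 710],mk [nat_lit 2, nat_lit 5, nat_lit 7, nat_lit 10, nat_lit 14, nat_lit 35, nat_lit 70, nat_lit 71, nat_lit 142, nat_lit 355, nat_lit 497, nat_lit 710]),(nat_lit 2,nat_lit 2485,[nat_lit 5, nat_lit 7, nat_lit 35, nat_lit 71, nat_lit 355, nat_lit 497, nat_lit 2485],mk [nat_lit 5, nat_lit 7, nat_lit 35, nat_lit 71, nat_lit 355, nat_lit 497, nat_lit 2485]),(nat_lit 5,nat_lit 994,[nat_lit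 2, nat_lit 7, nat_lit 14, nat_lit 71, nat_lit 142, nat_lit 497, nat_lit 994],mk [nat_lit 2, nat_lit 7, nat_lit 14, nat_lit 71, nat_lit 142, nat_lit 497, nat_lit 994]),(nat_lit 7,nat_lit 710,[nat_lit 2, nat_lit 5, nat_lit 10, nat_lit 71, nat_lit 142, nat_lit 355, nat_lit 710],mk [nat_lit 2, nat_lit 5, nat_lit 10, nat_lit 71, nat_lit 142, nat_lit 355, nat_lit 710]),(nat_lit 10,nat_lit 497,[nat_lit 7, nat_lit 71, nat_lit 497],mk [nat_lit 7, nat_lit 71, nat_lit 497])]⟩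
def t5326 : TE := ⟨nat_lit 5326,nat_lit 0,nat_lit 2,[nat_lit 2663],[nat_lit 2, nat_lit 2663],mk [nat_lit 2, nat_lit 2663],mk [nat_lit 2663, nat_lit 2],[(nat_lit 1,nat_lit 2662,[],mk []),(nat_lit 2,nat_lit 1331,[],mk [])]⟩
def t5329 : TE := ⟨nat_lit 5329,nat_lit 73,nat_lit 73,[],[nat_lit 73],mk [nat_lit 73],mk [],[(nat_lit 1,nat_lit 5256,[nat_lit 2, nat_lit 3, nat_lit 4, nat_lit 6, nat_lit 8, nat_lit 9, nat_lit 12, nat_lit 18, nat_lit 24, nat_lit 36, nat_lit 72, nat_lit 73],mk [nat_lit 2, nat_lit 3, nat_lit 4, nat_lit 6, nat_lit 8, nat_lit 9, nat_lit 12, nat_lit 18, nat_lit 24, nat_lit 36, nat_lit 72, nat_lit 73]),(nat_lit 2,nat_lit 2628,[nat_lit 2, nat_lit 3, nat_lit 4, nat_lit 6, nat_lit 9, nat_lit 12, nat_lit 18, nat_lit 36, nat_lit 73, nat_lit 146, nat_lit 219, nat_lit 292],mk [nat_lit 2, nat_lit 3, nat_lit 4, nat_lit 6, nat_lit 9, nat_lit 12, nat_lit 18, nat_lit 36,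 nat_lit 73, nat_lit 146, nat_lit 219, nat_lit 292]),(nat_lit 3,nat_lit 1752,[nat_lit 2, nat_lit 3, nat_lit 4, nat_lit 6, nat_lit 8, nat_lit 12, nat_lit 24, nat_lit 73, nat_lit 146, nat_lit 219, nat_lit 292, nat_lit 438],mk [nat_lit 2, nat_lit 3, nat_lit 4, nat_lit 6, nat_lit 8, nat_lit 12, nat_lit 24, nat_lit 73, nat_lit 146, nat_lit 219, nat_lit 292, nat_lit 438]),(nat_lit 4,nat_lit 1314,[nat_lit 2, nat_lit 3, nat_lit 6, nat_lit 9, nat_lit 18, nat_lit 73, nat_lit 146, nat_lit 219, nat_lit 438, nat_lit 657, nat_lit 1314],mk [nat_lit 2, nat_lit 3, nat_lit 6, nat_lit 9, nat_lit 18, nat_lit 73, nat_lit 146, nat_lit 219, nat_lit 438, nat_lit 657, nat_lit 1314]),(nat_lit 6,nat_lit 876,[nat_lit 2, nat_lit 3, nat_lit 4, nat_lit 6, nat_lit 12, nat_lit 73, nat_lit 146, nat_lit 219, nat_lit 292, nat_lit 438, nat_lit 876],mk [nat_lit 2, nat_lit 3, nat_lit 4, nat_lit 6, nat_lit 12,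 nat_lit 73, nat_lit 146, nat_lit 219, nat_lit 292, nat_lit 438, nat_lit 876]),(nat_lit 8,nat_lit 657,[nat_lit 3, nat_lit 9, nat_lit 73, nat_lit 219, nat_lit 657],mk [nat_lit 3, nat_lit 9, nat_lit 73, nat_lit 219, nat_lit 657]),(nat_lit 9,nat_lit 584,[nat_lit 2, nat_lit 4, nat_lit 8, nat_lit 73, nat_lit 146, nat_lit 292, nat_lit 584],mk [nat_lit 2, nat_lit 4, nat_lit 8, nat_lit 73, nat_lit 146, nat_lit 292, nat_lit 584])]⟩
def t5547 : TE := ⟨nat_lit 5547,nat_lit 0,nat_lit 3,[nat_lit 43],[nat_lit 3, nat_lit 43, nat_lit 129, nat_lit 1849],mk [nat_lit 3, nat_lit 43, nat_lit 129, nat_lit 1849],mk [nat_lit 1849],[(nat_lit 1,nat_lit 3612,[],mk []),(nat_lit 2,nat_lit 1806,[],mk []),(nat_lit 3,nat_lit 1204,[],mk []),(nat_lit 4,nat_lit 903,[],mk []),(nat_lit 6,nat_lit 602,[],mk []),(nat_lit 7,nat_lit 516,[],mk [])]⟩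
def t5819 : TE := ⟨nat_lit 5819,nat_lit 0,nat_lit 11,[nat_lit 23],[nat_lit 11, nat_lit 23, nat_lit 253, nat_lit 529],mk [nat_lit 11, nat_lit 23, nat_lit 253, nat_lit 529],mk [nat_lit 529],[(nat_lit 1,nat_lit 5060,[],mk []),(nat_lit 2,nat_lit 2530,[],mk []),(nat_lit 4,nat_lit 1265,[],mk []),(nat_lit 5,nat_lit 1012,[],mk []),(nat_lit 10,nat_lit 506,[],mk [])]⟩
def t5887 : TE := ⟨nat_lit 5887,nat_lit 0,nat_lit 7,[nat_lit 29],[nat_lit 7, nat_lit 29, nat_lit 203, nat_lit 841],mk [nat_lit 7, nat_lit 29, nat_lit 203, nat_lit 841],mk [nat_lit 841],[(nat_lit 1,nat_lit 4872,[],mk []),(nat_lit 2,nat_lit 2436,[],mk []),(nat_lit 3,nat_lit 1624,[],mk []),(nat_lit 4,nat_lit 1218,[],mk []),(nat_lit 6,nat_lit 812,[],mk []),(nat_lit 7,nat_lit 696,[],mk []),(nat_lit 8,nat_lit 609,[],mk [])]⟩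
def t6241 : TE := ⟨nat_lit 6241,nat_lit 79,nat_lit 79,[],[nat_lit 79],mk [nat_lit 79],mk [],[(nat_lit 1,nat_lit 6162,[nat_lit 2, nat_lit 3, nat_lit 6, nat_lit 13, nat_lit 26, nat_lit 39, nat_lit 78, nat_lit 79, nat_lit 158, nat_lit 237, nat_lit 474, nat_lit 1027],mk [nat_lit 2, nat_lit 3, nat_lit 6, nat_lit 13, nat_lit 26, nat_lit 39, nat_lit 78, nat_lit 79, nat_lit 158, nat_lit 237, nat_lit 474, nat_lit 1027]),(nat_lit 2,nat_lit 3081,[nat_lit 3, nat_lit 13, nat_lit 39, nat_lit 79, nat_lit 237, nat_lit 1027, nat_lit 3081],mk [nat_lit 3, nat_lit 13, nat_lit 39, nat_lit 79, nat_lit 237, nat_lit 1027, nat_lit 3081]),(nat_lit 3,nat_lit 2054,[nat_lit 2, nat_lit 13, nat_lit 26, nat_lit 79, nat_lit 158, nat_lit 1027, nat_lit 2054],mk [nat_lit 2, nat_lit 13, nat_lit 26, nat_lit 79, nat_lit 158, nat_lit 1027, nat_lit 2054]),(nat_lit 6,nat_lit 1027,[nat_lit 13, nat_lit 79, nat_lit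 1027],mk [nat_lit 13, nat_lit 79, nat_lit 1027])]⟩
def t6275 : TE := ⟨nat_lit 6275,nat_lit 0,nat_lit 5,[nat_lit 251],[nat_lit 5, nat_lit 25, nat_lit 251, nat_lit 1255],mk [nat_lit 5, nat_lit 25, nat_lit 251, nat_lit 1255],mk [nat_lit 25],[(nat_lit 1,nat_lit 5000,[],mk []),(nat_lit 2,nat_lit 2500,[],mk []),(nat_lit 4,nat_lit 1250,[],mk []),(nat_lit 5,nat_lit 1000,[],mk []),(nat_lit 8,nat_lit 625,[],mk []),(nat_lit 10,nat_lit 500,[],mk [])]⟩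
def t6561 : TE := ⟨nat_lit 6561,nat_lit 3,nat_lit 3,[],[nat_lit 3, nat_lit 9, nat_lit 27, nat_lit 81, nat_lit 243, nat_lit 729, nat_lit 2187],mk [nat_lit 3, nat_lit 9, nat_lit 27, nat_lit 81, nat_lit 243, nat_lit 729, nat_lit 2187],mk [],[(nat_lit 1,nat_lit 4374,[nat_lit 2, nat_lit 3, nat_lit 6, nat_lit 9, nat_lit 18, nat_lit 27, nat_lit 54, nat_lit 81, nat_lit 162, nat_lit 243, nat_lit 486, nat_lit 729],mk [nat_lit 2, nat_lit 3, nat_lit 6, nat_lit 9, nat_lit 18, nat_lit 27, nat_lit 54, nat_lit 81, nat_lit 162, nat_lit 243, nat_lit 486, nat_lit 729]),(nat_lit 2,nat_lit 2187,[nat_lit 3, nat_lit 9, nat_lit 27, nat_lit 81, nat_lit 243, nat_lit 729, nat_lit 2187],mk [nat_lit 3, nat_lit 9, nat_lit 27, nat_lit 81, nat_lit 243, nat_lit 729, nat_lit 2187]),(nat_lit 3,nat_lit 1458,[nat_lit 2, nat_lit 3, nat_lit 6, nat_lit 9, nat_lit 18, nat_lit 27, nat_lit 54, nat_lit 81, nat_lit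 162, nat_lit 243, nat_lit 486, nat_lit 729],mk [nat_lit 2, nat_lit 3, nat_lit 6, nat_lit 9, nat_lit 18, nat_lit 27, nat_lit 54, nat_lit 81, nat_lit 162, nat_lit 243, nat_lit 486, nat_lit 729]),(nat_lit 6,nat_lit 729,[nat_lit 3, nat_lit 9, nat_lit 27, nat_lit 81, nat_lit 243, nat_lit 729],mk [nat_lit 3, nat_lit 9, nat_lit 27, nat_lit 81, nat_lit 243, nat_lit 729]),(nat_lit 9,nat_lit 486,[nat_lit 2, nat_lit 3, nat_lit 6, nat_lit 9, nat_lit 18, nat_lit 27, nat_lit 54, nat_lit 81, nat_lit 162, nat_lit 243, nat_lit 486],mk [nat_lit 2, nat_lit 3, nat_lit 6, nat_lit 9, nat_lit 18, nat_lit 27, nat_lit 54, nat_lit 81, nat_lit 162, nat_lit 243, nat_lit 486])]⟩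
def t6591 : TE := ⟨nat_lit 6591,nat_lit 0,nat_lit 3,[nat_lit 13],[nat_lit 3, nat_lit 13, nat_lit 39, nat_lit 169, nat_lit 507, nat_lit 2197],mk [nat_lit 3, nat_lit 13, nat_lit 39, nat_lit 169, nat_lit 507, nat_lit 2197],mk [nat_lit 2197],[(nat_lit 1,nat_lit 4056,[],mk []),(nat_lit 2,nat_lit 2028,[],mk []),(nat_lit 3,nat_lit 1352,[],mk []),(nat_lit 4,nat_lit 1014,[],mk []),(nat_lit 6,nat_lit 676,[],mk []),(nat_lit 8,nat_lit 507,[],mk [])]⟩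
def t6655 : TE := ⟨nat_lit 6655,nat_lit 0,nat_lit 5,[nat_lit 11],[nat_lit 5, nat_lit 11, nat_lit 55, nat_lit 121, nat_lit 605, nat_lit 1331],mk [nat_lit 5, nat_lit 11, nat_lit 55, nat_lit 121, nat_lit 605, nat_lit 1331],mk [nat_lit 1331],[(nat_lit 1,nat_lit 4840,[],mk []),(nat_lit 2,nat_lit 2420,[],mk []),(nat_lit 4,nat_lit 1210,[],mk []),(nat_lit 5,nat_lit 968,[],mk []),(nat_lit 8,nat_lit 605,[],mk []),(nat_lit 10,nat_lit 484,[],mk [])]⟩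
def t6859 : TE := ⟨nat_lit 6859,nat_lit 19,nat_lit 19,[],[nat_lit 19, nat_lit 361],mk [nat_lit 19, nat_lit 361],mk [],[(nat_lit 1,nat_lit 6498,[nat_lit 2, nat_lit 3, nat_lit 6, nat_lit 9, nat_lit 18, nat_lit 19, nat_lit 38, nat_lit 57, nat_lit 114, nat_lit 171, nat_lit 342, nat_lit 361],mk [nat_lit 2, nat_lit 3, nat_lit 6, nat_lit 9, nat_lit 18, nat_lit 19, nat_lit 38, nat_lit 57, nat_lit 114, nat_lit 171, nat_lit 342, nat_lit 361]),(nat_lit 2,nat_lit 3249,[nat_lit 3, nat_lit 9, nat_lit 19, nat_lit 57, nat_lit 171, nat_lit 361, nat_lit 1083, nat_lit 3249],mk [nat_lit 3, nat_lit 9, nat_lit 19, nat_lit 57, nat_lit 171, nat_lit 361, nat_lit 1083, nat_lit 3249]),(nat_lit 3,nat_lit 2166,[nat_lit 2, nat_lit 3, nat_lit 6, nat_lit 19, nat_lit 38, nat_lit 57, nat_lit 114, nat_lit 361, nat_lit 722, nat_lit 1083, nat_lit 2166],mk [nat_lit 2, nat_lit 3, nat_lit 6, nat_lit 19, nat_lit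 38, nat_lit 57, nat_lit 114, nat_lit 361, nat_lit 722, nat_lit 1083, nat_lit 2166]),(nat_lit 6,nat_lit 1083,[nat_lit 3, nat_lit 19, nat_lit 57, nat_lit 361, nat_lit 1083],mk [nat_lit 3, nat_lit 19, nat_lit 57, nat_lit 361, nat_lit 1083]),(nat_lit 9,nat_lit 722,[nat_lit 2, nat_lit 19, nat_lit 38, nat_lit 361, nat_lit 722],mk [nat_lit 2, nat_lit 19, nat_lit 38, nat_lit 361, nat_lit 722])]⟩
def t6889 : TE := ⟨nat_lit 6889,nat_lit 83,nat_lit 83,[],[nat_lit 83],mk [nat_lit 83],mk [],[(nat_lit 1,nat_lit 6806,[nat_lit 2, nat_lit 41, nat_lit 82, nat_lit 83, nat_lit 166, nat_lit 3403, nat_lit 6806],mk [nat_lit 2, nat_lit 41, nat_lit 82, nat_lit 83, nat_lit 166, nat_lit 3403, nat_lit 6806]),(nat_lit 2,nat_lit 3403,[nat_lit 41, nat_lit 83, nat_lit 3403],mk [nat_lit 41, nat_lit 83, nat_lit 3403])]⟩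
def t7921 : TE := ⟨nat_lit 7921,nat_lit 89,nat_lit 89,[],[nat_lit 89],mk [nat_lit 89],mk [],[(nat_lit 1,nat_lit 7832,[nat_lit 2, nat_lit 4, nat_lit 8, nat_lit 11, nat_lit 22, nat_lit 44, nat_lit 88, nat_lit 89, nat_lit 178, nat_lit 356, nat_lit 712, nat_lit 979],mk [nat_lit 2, nat_lit 4, nat_lit 8, nat_lit 11, nat_lit 22, nat_lit 44, nat_lit 88, nat_lit 89, nat_lit 178, nat_lit 356, nat_lit 712, nat_lit 979]),(nat_lit 2,nat_lit 3916,[nat_lit 2, nat_lit 4, nat_lit 11, nat_lit 22, nat_lit 44, nat_lit 89, nat_lit 178, nat_lit 356, nat_lit 979, nat_lit 1958, nat_lit 3916],mk [nat_lit 2, nat_lit 4, nat_lit 11, nat_lit 22, nat_lit 44, nat_lit 89, nat_lit 178, nat_lit 356, nat_lit 979, nat_lit 1958, nat_lit 3916]),(nat_lit 4,nat_lit 1958,[nat_lit 2, nat_lit 11, nat_lit 22, nat_lit 89, nat_lit 178, nat_lit 979, nat_lit 1958],mk [nat_lit 2, nat_lit 11, nat_lit 22, nat_lit 89, nat_lit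 178, nat_lit 979, nat_lit 1958]),(nat_lit 8,nat_lit 979,[nat_lit 11, nat_lit 89, nat_lit 979],mk [nat_lit 11, nat_lit 89, nat_lit 979])]⟩
def t8405 : TE := ⟨nat_lit 8405,nat_lit 0,nat_lit 5,[nat_lit 41],[nat_lit 5, nat_lit 41, nat_lit 205, nat_lit 1681],mk [nat_lit 5, nat_lit 41, nat_lit 205, nat_lit 1681],mk [nat_lit 1681],[(nat_lit 1,nat_lit 6560,[],mk []),(nat_lit 2,nat_lit 3280,[],mk []),(nat_lit 4,nat_lit 1640,[],mk []),(nat_lit 5,nat_lit 1312,[],mk []),(nat_lit 8,nat_lit 820,[],mk []),(nat_lit 10,nat_lit 656,[],mk [])]⟩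
def t9409 : TE := ⟨nat_lit 9409,nat_lit 97,nat_lit 97,[],[nat_lit 97],mk [nat_lit 97],mk [],[(nat_lit 1,nat_lit 9312,[nat_lit 2, nat_lit 3, nat_lit 4, nat_lit 6, nat_lit 8, nat_lit 12, nat_lit 16, nat_lit 24, nat_lit 32, nat_lit 48, nat_lit 96, nat_lit 97],mk [nat_lit 2, nat_lit 3, nat_lit 4, nat_lit 6, nat_lit 8, nat_lit 12, nat_lit 16, nat_lit 24, nat_lit 32, nat_lit 48, nat_lit 96, nat_lit 97]),(nat_lit 2,nat_lit 4656,[nat_lit 2, nat_lit 3, nat_lit 4, nat_lit 6, nat_lit 8, nat_lit 12, nat_lit 16, nat_lit 24, nat_lit 48, nat_lit 97, nat_lit 194, nat_lit 291],mk [nat_lit 2, nat_lit 3, nat_lit 4, nat_lit 6, nat_lit 8, nat_lit 12, nat_lit 16, nat_lit 24, nat_lit 48, nat_lit 97, nat_lit 194, nat_lit 291]),(nat_lit 3,nat_lit 3104,[nat_lit 2, nat_lit 4, nat_lit 8, nat_lit 16, nat_lit 32, nat_lit 97, nat_lit 194, nat_lit 388, nat_lit 776, nat_lit 1552, nat_lit 3104],mk [nat_lit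 2, nat_lit 4, nat_lit 8, nat_lit 16, nat_lit 32, nat_lit 97, nat_lit 194, nat_lit 388, nat_lit 776, nat_lit 1552, nat_lit 3104]),(nat_lit 4,nat_lit 2328,[nat_lit 2, nat_lit 3, nat_lit 4, nat_lit 6, nat_lit 8, nat_lit 12, nat_lit 24, nat_lit 97, nat_lit 194, nat_lit 291, nat_lit 388, nat_lit 582],mk [nat_lit 2, nat_lit 3, nat_lit 4, nat_lit 6, nat_lit 8, nat_lit 12, nat_lit 24, nat_lit 97, nat_lit 194, nat_lit 291, nat_lit 388, nat_lit 582]),(nat_lit 6,nat_lit 1552,[nat_lit 2, nat_lit 4, nat_lit 8, nat_lit 16, nat_lit 97, nat_lit 194, nat_lit 388, nat_lit 776, nat_lit 1552],mk [nat_lit 2, nat_lit 4, nat_lit 8, nat_lit 16, nat_lit 97, nat_lit 194, nat_lit 388, nat_lit 776, nat_lit 1552]),(nat_lit 8,nat_lit 1164,[nat_lit 2, nat_lit 3, nat_lit 4, nat_lit 6, nat_lit 12, nat_lit 97, nat_lit 194, nat_lit 291, nat_lit 388, nat_lit 582, nat_lit 1164],mk [nat_lit 2, nat_lit 3, nat_lit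 4, nat_lit 6, nat_lit 12, nat_lit 97, nat_lit 194, nat_lit 291, nat_lit 388, nat_lit 582, nat_lit 1164])]⟩
def t9826 : TE := ⟨nat_lit 9826,nat_lit 0,nat_lit 2,[nat_lit 17],[nat_lit 2, nat_lit 17, nat_lit 34, nat_lit 289, nat_lit 578, nat_lit 4913],mk [nat_lit 2, nat_lit 17, nat_lit 34, nat_lit 289, nat_lit 578, nat_lit 4913],mk [nat_lit 4913],[(nat_lit 1,nat_lit 4624,[],mk []),(nat_lit 2,nat_lit 2312,[],mk []),(nat_lit 4,nat_lit 1156,[],mk []),(nat_lit 8,nat_lit 578,[],mk [])]⟩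
def t10201 : TE := ⟨nat_lit 10201,nat_lit 101,nat_lit 101,[],[nat_lit 101],mk [nat_lit 101],mk [],[(nat_lit 1,nat_lit 10100,[nat_lit 2, nat_lit 4, nat_lit 5, nat_lit 10, nat_lit 20, nat_lit 25, nat_lit 50, nat_lit 100, nat_lit 101, nat_lit 202, nat_lit 404, nat_lit 505],mk [nat_lit 2, nat_lit 4, nat_lit 5, nat_lit 10, nat_lit 20, nat_lit 25, nat_lit 50, nat_lit 100, nat_lit 101, nat_lit 202, nat_lit 404, nat_lit 505]),(nat_lit 2,nat_lit 5050,[nat_lit 2, nat_lit 5, nat_lit 10, nat_lit 25, nat_lit 50, nat_lit 101, nat_lit 202, nat_lit 505, nat_lit 1010, nat_lit 2525, nat_lit 5050],mk [nat_lit 2, nat_lit 5, nat_lit 10, nat_lit 25, nat_lit 50, nat_lit 101, nat_lit 202, nat_lit 505, nat_lit 1010, nat_lit 2525, nat_lit 5050]),(nat_lit 4,nat_lit 2525,[nat_lit 5, nat_lit 25, nat_lit 101, nat_lit 505, nat_lit 2525],mk [nat_lit 5, nat_lit 25, nat_lit 101, nat_lit 505, nat_lit 2525]),(nat_lit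 5,nat_lit 2020,[nat_lit 2, nat_lit 4, nat_lit 5, nat_lit 10, nat_lit 20, nat_lit 101, nat_lit 202, nat_lit 404, nat_lit 505, nat_lit 1010, nat_lit 2020],mk [nat_lit 2, nat_lit 4, nat_lit 5, nat_lit 10, nat_lit 20, nat_lit 101, nat_lit 202, nat_lit 404, nat_lit 505, nat_lit 1010, nat_lit 2020]),(nat_lit 10,nat_lit 1010,[nat_lit 2, nat_lit 5, nat_lit 10, nat_lit 101, nat_lit 202, nat_lit 505, nat_lit 1010],mk [nat_lit 2, nat_lit 5, nat_lit 10, nat_lit 101, nat_lit 202, nat_lit 505, nat_lit 1010])]⟩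
def t10609 : TE := ⟨nat_lit 10609,nat_lit 103,nat_lit 103,[],[nat_lit 103],mk [nat_lit 103],mk [],[(nat_lit 1,nat_lit 10506,[nat_lit 2, nat_lit 3, nat_lit 6, nat_lit 17, nat_lit 34, nat_lit 51, nat_lit 102, nat_lit 103, nat_lit 206, nat_lit 309, nat_lit 618, nat_lit 1751],mk [nat_lit 2, nat_lit 3, nat_lit 6, nat_lit 17, nat_lit 34, nat_lit 51, nat_lit 102, nat_lit 103, nat_lit 206, nat_lit 309, nat_lit 618, nat_lit 1751]),(nat_lit 2,nat_lit 5253,[nat_lit 3, nat_lit 17, nat_lit 51, nat_lit 103, nat_lit 309, nat_lit 1751, nat_lit 5253],mk [nat_lit 3, nat_lit 17, nat_lit 51, nat_lit 103, nat_lit 309, nat_lit 1751, nat_lit 5253]),(nat_lit 3,nat_lit 3502,[nat_lit 2, nat_lit 17, nat_lit 34, nat_lit 103, nat_lit 206, nat_lit 1751, nat_lit 3502],mk [nat_lit 2, nat_lit 17, nat_lit 34, nat_lit 103, nat_lit 206, nat_lit 1751, nat_lit 3502]),(nat_lit 6,nat_lit 1751,[nat_lit 17, nat_lit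 103, nat_lit 1751],mk [nat_lit 17, nat_lit 103, nat_lit 1751])]⟩
def t11881 : TE := ⟨nat_lit 11881,nat_lit 109,nat_lit 109,[],[nat_lit 109],mk [nat_lit 109],mk [],[(nat_lit 1,nat_lit 11772,[nat_lit 2, nat_lit 3, nat_lit 4, nat_lit 6, nat_lit 9, nat_lit 12, nat_lit 18, nat_lit 27, nat_lit 36, nat_lit 54, nat_lit 108, nat_lit 109],mk [nat_lit 2, nat_lit 3, nat_lit 4, nat_lit 6, nat_lit 9, nat_lit 12, nat_lit 18, nat_lit 27, nat_lit 36, nat_lit 54, nat_lit 108, nat_lit 109]),(nat_lit 2,nat_lit 5886,[nat_lit 2, nat_lit 3, nat_lit 6, nat_lit 9, nat_lit 18, nat_lit 27, nat_lit 54, nat_lit 109, nat_lit 218, nat_lit 327, nat_lit 654, nat_lit 981],mk [nat_lit 2, nat_lit 3, nat_lit 6, nat_lit 9, nat_lit 18, nat_lit 27, nat_lit 54, nat_lit 109, nat_lit 218, nat_lit 327, nat_lit 654, nat_lit 981]),(nat_lit 3,nat_lit 3924,[nat_lit 2, nat_lit 3, nat_lit 4, nat_lit 6, nat_lit 9, nat_lit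 12, nat_lit 18, nat_lit 36, nat_lit 109, nat_lit 218, nat_lit 327, nat_lit 436],mk [nat_lit 2, nat_lit 3, nat_lit 4, nat_lit 6, nat_lit 9, nat_lit 12, nat_lit 18, nat_lit 36, nat_lit 109, nat_lit 218, nat_lit 327, nat_lit 436]),(nat_lit 4,nat_lit 2943,[nat_lit 3, nat_lit 9, nat_lit 27, nat_lit 109, nat_lit 327, nat_lit 981, nat_lit 2943],mk [nat_lit 3, nat_lit 9, nat_lit 27, nat_lit 109, nat_lit 327, nat_lit 981, nat_lit 2943]),(nat_lit 6,nat_lit 1962,[nat_lit 2, nat_lit 3, nat_lit 6, nat_lit 9, nat_lit 18, nat_lit 109, nat_lit 218, nat_lit 327, nat_lit 654, nat_lit 981, nat_lit 1962],mk [nat_lit 2, nat_lit 3, nat_lit 6, nat_lit 9, nat_lit 18, nat_lit 109, nat_lit 218, nat_lit 327, nat_lit 654, nat_lit 981, nat_lit 1962]),(nat_lit 9,nat_lit 1308,[nat_lit 2, nat_lit 3, nat_lit 4, nat_lit 6, nat_lit 12, nat_lit 109, nat_lit 218, nat_lit 327, nat_lit 436, nat_lit 654, nat_lit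 1308],mk [nat_lit 2, nat_lit 3, nat_lit 4, nat_lit 6, nat_lit 12, nat_lit 109, nat_lit 218, nat_lit 327, nat_lit 436, nat_lit 654, nat_lit 1308])]⟩
def t12167 : TE := ⟨nat_lit 12167,nat_lit 23,nat_lit 23,[],[nat_lit 23, nat_lit 529],mk [nat_lit 23, nat_lit 529],mk [],[(nat_lit 1,nat_lit 11638,[nat_lit 2, nat_lit 11, nat_lit 22, nat_lit 23, nat_lit 46, nat_lit 253, nat_lit 506, nat_lit 529, nat_lit 1058, nat_lit 5819, nat_lit 11638],mk [nat_lit 2, nat_lit 11, nat_lit 22, nat_lit 23, nat_lit 46, nat_lit 253, nat_lit 506, nat_lit 529, nat_lit 1058, nat_lit 5819, nat_lit 11638]),(nat_lit 2,nat_lit 5819,[nat_lit 11, nat_lit 23, nat_lit 253, nat_lit 529, nat_lit 5819],mk [nat_lit 11, nat_lit 23, nat_lit 253, nat_lit 529, nat_lit 5819])]⟩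
def t12943 : TE := ⟨nat_lit 12943,nat_lit 0,nat_lit 7,[nat_lit 43],[nat_lit 7, nat_lit 43, nat_lit 301, nat_lit 1849],mk [nat_lit 7, nat_lit 43, nat_lit 301, nat_lit 1849],mk [nat_lit 1849],[(nat_lit 1,nat_lit 10836,[],mk []),(nat_lit 2,nat_lit 5418,[],mk []),(nat_lit 3,nat_lit 3612,[],mk []),(nat_lit 4,nat_lit 2709,[],mk []),(nat_lit 6,nat_lit 1806,[],mk []),(nat_lit 7,nat_lit 1548,[],mk []),(nat_lit 9,nat_lit 1204,[],mk [])]⟩
def t13315 : TE := ⟨nat_lit 13315,nat_lit 0,nat_lit 5,[nat_lit 2663],[nat_lit 5, nat_lit 2663],mk [nat_lit 5, nat_lit 2663],mk [nat_lit 2663, nat_lit 5],[(nat_lit 1,nat_lit 10648,[],mk []),(nat_lit 2,nat_lit 5324,[],mk []),(nat_lit 4,nat_lit 2662,[],mk []),(nat_lit 8,nat_lit 1331,[],mk [])]⟩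
def t13718 : TE := ⟨nat_lit 13718,nat_lit 0,nat_lit 2,[nat_lit 19],[nat_lit 2, nat_lit 19, nat_lit 38, nat_lit 361, nat_lit 722, nat_lit 6859],mk [nat_lit 2, nat_lit 19, nat_lit 38, nat_lit 361, nat_lit 722, nat_lit 6859],mk [nat_lit 6859],[(nat_lit 1,nat_lit 6498,[],mk []),(nat_lit 2,nat_lit 3249,[],mk []),(nat_lit 3,nat_lit 2166,[],mk []),(nat_lit 6,nat_lit 1083,[],mk []),(nat_lit 9,nat_lit 722,[],mk [])]⟩
def t14641 : TE := ⟨nat_lit 14641,nat_lit 11,nat_lit 11,[],[nat_lit 11, nat_lit 121, nat_lit 1331],mk [nat_lit 11, nat_lit 121, nat_lit 1331],mk [],[(nat_lit 1,nat_lit 13310,[nat_lit 2, nat_lit 5, nat_lit 10, nat_lit 11, nat_lit 22, nat_lit 55, nat_lit 110, nat_lit 121, nat_lit 242, nat_lit 605, nat_lit 1210, nat_lit 1331],mk [nat_lit 2, nat_lit 5, nat_lit 10, nat_lit 11, nat_lit 22, nat_lit 55, nat_lit 110, nat_lit 121, nat_lit 242, nat_lit 605, nat_lit 1210, nat_lit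 1331]),(nat_lit 2,nat_lit 6655,[nat_lit 5, nat_lit 11, nat_lit 55, nat_lit 121, nat_lit 605, nat_lit 1331, nat_lit 6655],mk [nat_lit 5, nat_lit 11, nat_lit 55, nat_lit 121, nat_lit 605, nat_lit 1331, nat_lit 6655]),(nat_lit 5,nat_lit 2662,[nat_lit 2, nat_lit 11, nat_lit 22, nat_lit 121, nat_lit 242, nat_lit 1331, nat_lit 2662],mk [nat_lit 2, nat_lit 11, nat_lit 22, nat_lit 121, nat_lit 242, nat_lit 1331, nat_lit 2662]),(nat_lit 10,nat_lit 1331,[nat_lit 11, nat_lit 121, nat_lit 1331],mk [nat_lit 11, nat_lit 121, nat_lit 1331])]⟩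
def t15625 : TE := ⟨nat_lit 15625,nat_lit 5,nat_lit 5,[],[nat_lit 5, nat_lit 25, nat_lit 125, nat_lit 625, nat_lit 3125],mk [nat_lit 5, nat_lit 25, nat_lit 125, nat_lit 625, nat_lit 3125],mk [],[(nat_lit 1,nat_lit 12500,[nat_lit 2, nat_lit 4, nat_lit 5, nat_lit 10, nat_lit 20, nat_lit 25, nat_lit 50, nat_lit 100, nat_lit 125, nat_lit 250, nat_lit 500, nat_lit 625],mk [nat_lit 2, nat_lit 4, nat_lit 5, nat_lit 10, nat_lit 20, nat_lit 25, nat_lit 50, nat_lit 100, nat_lit 125, nat_lit 250, nat_lit 500, nat_lit 625]),(nat_lit 2,nat_lit 6250,[nat_lit 2, nat_lit 5, nat_lit 10, nat_lit 25, nat_lit 50, nat_lit 125, nat_lit 250, nat_lit 625, nat_lit 1250, nat_lit 3125, nat_lit 6250],mk [nat_lit 2, nat_lit 5, nat_lit 10, nat_lit 25, nat_lit 50, nat_lit 125, nat_lit 250, nat_lit 625, nat_lit 1250, nat_lit 3125, nat_lit 6250]),(nat_lit 4,nat_lit 3125,[nat_lit 5, nat_lit 25, nat_lit 125,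 nat_lit 625, nat_lit 3125],mk [nat_lit 5, nat_lit 25, nat_lit 125, nat_lit 625, nat_lit 3125]),(nat_lit 5,nat_lit 2500,[nat_lit 2, nat_lit 4, nat_lit 5, nat_lit 10, nat_lit 20, nat_lit 25, nat_lit 50, nat_lit 100, nat_lit 125, nat_lit 250, nat_lit 500, nat_lit 625],mk [nat_lit 2, nat_lit 4, nat_lit 5, nat_lit 10, nat_lit 20, nat_lit 25, nat_lit 50, nat_lit 100, nat_lit 125, nat_lit 250, nat_lit 500, nat_lit 625]),(nat_lit 10,nat_lit 1250,[nat_lit 2, nat_lit 5, nat_lit 10, nat_lit 25, nat_lit 50, nat_lit 125, nat_lit 250, nat_lit 625, nat_lit 1250],mk [nat_lit 2, nat_lit 5, nat_lit 10, nat_lit 25, nat_lit 50, nat_lit 125, nat_lit 250, nat_lit 625, nat_lit 1250])]⟩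
def t16129 : TE := ⟨nat_lit 16129,nat_lit 127,nat_lit 127,[],[nat_lit 127],mk [nat_lit 127],mk [],[(nat_lit 1,nat_lit 16002,[nat_lit 2, nat_lit 3, nat_lit 6, nat_lit 7, nat_lit 9, nat_lit 14, nat_lit 18, nat_lit 21, nat_lit 42, nat_lit 63, nat_lit 126, nat_lit 127],mk [nat_lit 2, nat_lit 3, nat_lit 6, nat_lit 7, nat_lit 9, nat_lit 14, nat_lit 18, nat_lit 21, nat_lit 42, nat_lit 63, nat_lit 126, nat_lit 127]),(nat_lit 2,nat_lit 8001,[nat_lit 3, nat_lit 7, nat_lit 9, nat_lit 21, nat_lit 63, nat_lit 127, nat_lit 381, nat_lit 889, nat_lit 1143, nat_lit 2667, nat_lit 8001],mk [nat_lit 3, nat_lit 7, nat_lit 9, nat_lit 21, nat_lit 63, nat_lit 127, nat_lit 381, nat_lit 889, nat_lit 1143, nat_lit 2667, nat_lit 8001]),(nat_lit 3,nat_lit 5334,[nat_lit 2, nat_lit 3, nat_lit 6, nat_lit 7, nat_lit 14, nat_lit 21, nat_lit 42, nat_lit 127, nat_lit 254, nat_lit 381, nat_lit 762, nat_lit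 889],mk [nat_lit 2, nat_lit 3, nat_lit 6, nat_lit 7, nat_lit 14, nat_lit 21, nat_lit 42, nat_lit 127, nat_lit 254, nat_lit 381, nat_lit 762, nat_lit 889]),(nat_lit 6,nat_lit 2667,[nat_lit 3, nat_lit 7, nat_lit 21, nat_lit 127, nat_lit 381, nat_lit 889, nat_lit 2667],mk [nat_lit 3, nat_lit 7, nat_lit 21, nat_lit 127, nat_lit 381, nat_lit 889, nat_lit 2667]),(nat_lit 7,nat_lit 2286,[nat_lit 2, nat_lit 3, nat_lit 6, nat_lit 9, nat_lit 18, nat_lit 127, nat_lit 254, nat_lit 381, nat_lit 762, nat_lit 1143, nat_lit 2286],mk [nat_lit 2, nat_lit 3, nat_lit 6, nat_lit 9, nat_lit 18, nat_lit 127, nat_lit 254, nat_lit 381, nat_lit 762, nat_lit 1143, nat_lit 2286]),(nat_lit 9,nat_lit 1778,[nat_lit 2, nat_lit 7, nat_lit 14, nat_lit 127, nat_lit 254, nat_lit 889, nat_lit 1778],mk [nat_lit 2, nat_lit 7, nat_lit 14, nat_lit 127, nat_lit 254, nat_lit 889, nat_lit 1778])]⟩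
def t16807 : TE := ⟨nat_lit 16807,nat_lit 7,nat_lit 7,[],[nat_lit 7, nat_lit 49, nat_lit 343, nat_lit 2401],mk [nat_lit 7, nat_lit 49, nat_lit 343, nat_lit 2401],mk [],[(nat_lit 1,nat_lit 14406,[nat_lit 2, nat_lit 3, nat_lit 6, nat_lit 7, nat_lit 14, nat_lit 21, nat_lit 42, nat_lit 49, nat_lit 98, nat_lit 147, nat_lit 294, nat_lit 343],mk [nat_lit 2, nat_lit 3, nat_lit 6, nat_lit 7, nat_lit 14, nat_lit 21, nat_lit 42, nat_lit 49, nat_lit 98, nat_lit 147, nat_lit 294, nat_lit 343]),(nat_lit 2,nat_lit 7203,[nat_lit 3, nat_lit 7, nat_lit 21, nat_lit 49, nat_lit 147, nat_lit 343, nat_lit 1029, nat_lit 2401, nat_lit 7203],mk [nat_lit 3, nat_lit 7, nat_lit 21, nat_lit 49, nat_lit 147, nat_lit 343, nat_lit 1029, nat_lit 2401, nat_lit 7203]),(nat_lit 3,nat_lit 4802,[nat_lit 2, nat_lit 7, nat_lit 14, nat_lit 49, nat_lit 98, nat_lit 343, nat_lit 686, nat_lit 2401, nat_lit 4802],mk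 [nat_lit 2, nat_lit 7, nat_lit 14, nat_lit 49, nat_lit 98, nat_lit 343, nat_lit 686, nat_lit 2401, nat_lit 4802]),(nat_lit 6,nat_lit 2401,[nat_lit 7, nat_lit 49, nat_lit 343, nat_lit 2401],mk [nat_lit 7, nat_lit 49, nat_lit 343, nat_lit 2401]),(nat_lit 7,nat_lit 2058,[nat_lit 2, nat_lit 3, nat_lit 6, nat_lit 7, nat_lit 14, nat_lit 21, nat_lit 42, nat_lit 49, nat_lit 98, nat_lit 147, nat_lit 294, nat_lit 343],mk [nat_lit 2, nat_lit 3, nat_lit 6, nat_lit 7, nat_lit 14, nat_lit 21, nat_lit 42, nat_lit 49, nat_lit 98, nat_lit 147, nat_lit 294, nat_lit 343])]⟩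
def t17161 : TE := ⟨nat_lit 17161,nat_lit 131,nat_lit 131,[],[nat_lit 131],mk [nat_lit 131],mk [],[(nat_lit 1,nat_lit 17030,[nat_lit 2, nat_lit 5, nat_lit 10, nat_lit 13, nat_lit 26, nat_lit 65, nat_lit 130, nat_lit 131, nat_lit 262, nat_lit 655, nat_lit 1310, nat_lit 1703],mk [nat_lit 2, nat_lit 5, nat_lit 10, nat_lit 13, nat_lit 26, nat_lit 65, nat_lit 130, nat_lit 131, nat_lit 262, nat_lit 655, nat_lit 1310, nat_lit 1703]),(nat_lit 2,nat_lit 8515,[nat_lit 5, nat_lit 13, nat_lit 65, nat_lit 131, nat_lit 655, nat_lit 1703, nat_lit 8515],mk [nat_lit 5, nat_lit 13, nat_lit 65, nat_lit 131, nat_lit 655, nat_lit 1703, nat_lit 8515]),(nat_lit 5,nat_lit 3406,[nat_lit 2, nat_lit 13, nat_lit 26, nat_lit 131, nat_lit 262, nat_lit 1703, nat_lit 3406],mk [nat_lit 2, nat_lit 13, nat_lit 26, nat_lit 131, nat_lit 262, nat_lit 1703, nat_lit 3406]),(nat_lit 10,nat_lit 1703,[nat_lit 13,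 nat_lit 131, nat_lit 1703],mk [nat_lit 13, nat_lit 131, nat_lit 1703])]⟩
def t18769 : TE := ⟨nat_lit 18769,nat_lit 137,nat_lit 137,[],[nat_lit 137],mk [nat_lit 137],mk [],[(nat_lit 1,nat_lit 18632,[nat_lit 2, nat_lit 4, nat_lit 8, nat_lit 17, nat_lit 34, nat_lit 68, nat_lit 136, nat_lit 137, nat_lit 274, nat_lit 548, nat_lit 1096, nat_lit 2329],mk [nat_lit 2, nat_lit 4, nat_lit 8, nat_lit 17, nat_lit 34, nat_lit 68, nat_lit 136, nat_lit 137, nat_lit 274, nat_lit 548, nat_lit 1096, nat_lit 2329]),(nat_lit 2,nat_lit 9316,[nat_lit 2, nat_lit 4, nat_lit 17, nat_lit 34, nat_lit 68, nat_lit 137, nat_lit 274, nat_lit 548, nat_lit 2329, nat_lit 4658, nat_lit 9316],mk [nat_lit 2, nat_lit 4, nat_lit 17, nat_lit 34, nat_lit 68, nat_lit 137, nat_lit 274, nat_lit 548, nat_lit 2329, nat_lit 4658, nat_lit 9316]),(nat_lit 4,nat_lit 4658,[nat_lit 2, nat_lit 17, nat_lit 34, nat_lit 137, nat_lit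 274, nat_lit 2329, nat_lit 4658],mk [nat_lit 2, nat_lit 17, nat_lit 34, nat_lit 137, nat_lit 274, nat_lit 2329, nat_lit 4658]),(nat_lit 8,nat_lit 2329,[nat_lit 17, nat_lit 137, nat_lit 2329],mk [nat_lit 17, nat_lit 137, nat_lit 2329])]⟩
def t19683 : TE := ⟨nat_lit 19683,nat_lit 3,nat_lit 3,[],[nat_lit 3, nat_lit 9, nat_lit 27, nat_lit 81, nat_lit 243, nat_lit 729, nat_lit 2187, nat_lit 6561],mk [nat_lit 3, nat_lit 9, nat_lit 27, nat_lit 81, nat_lit 243, nat_lit 729, nat_lit 2187, nat_lit 6561],mk [],[(nat_lit 1,nat_lit 13122,[nat_lit 2, nat_lit 3, nat_lit 6, nat_lit 9, nat_lit 18, nat_lit 27, nat_lit 54, nat_lit 81, nat_lit 162, nat_lit 243, nat_lit 486, nat_lit 729],mk [nat_lit 2, nat_lit 3, nat_lit 6, nat_lit 9, nat_lit 18, nat_lit 27, nat_lit 54, nat_lit 81, nat_lit 162, nat_lit 243, nat_lit 486, nat_lit 729]),(nat_lit 2,nat_lit 6561,[nat_lit 3, nat_lit 9, nat_lit 27,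 nat_lit 81, nat_lit 243, nat_lit 729, nat_lit 2187, nat_lit 6561],mk [nat_lit 3, nat_lit 9, nat_lit 27, nat_lit 81, nat_lit 243, nat_lit 729, nat_lit 2187, nat_lit 6561]),(nat_lit 3,nat_lit 4374,[nat_lit 2, nat_lit 3, nat_lit 6, nat_lit 9, nat_lit 18, nat_lit 27, nat_lit 54, nat_lit 81, nat_lit 162, nat_lit 243, nat_lit 486, nat_lit 729],mk [nat_lit 2, nat_lit 3, nat_lit 6, nat_lit 9, nat_lit 18, nat_lit 27, nat_lit 54, nat_lit 81, nat_lit 162, nat_lit 243, nat_lit 486, nat_lit 729]),(nat_lit 6,nat_lit 2187,[nat_lit 3, nat_lit 9, nat_lit 27, nat_lit 81, nat_lit 243, nat_lit 729, nat_lit 2187],mk [nat_lit 3, nat_lit 9, nat_lit 27, nat_lit 81, nat_lit 243, nat_lit 729, nat_lit 2187]),(nat_lit 9,nat_lit 1458,[nat_lit 2, nat_lit 3, nat_lit 6, nat_lit 9, nat_lit 18, nat_lit 27, nat_lit 54, nat_lit 81, nat_lit 162, nat_lit 243, nat_lit 486, nat_lit 729],mk [nat_lit 2, nat_lit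 3, nat_lit 6, nat_lit 9, nat_lit 18, nat_lit 27, nat_lit 54, nat_lit 81, nat_lit 162, nat_lit 243, nat_lit 486, nat_lit 729])]⟩
def t20577 : TE := ⟨nat_lit 20577,nat_lit 0,nat_lit 3,[nat_lit 19],[nat_lit 3, nat_lit 19, nat_lit 57, nat_lit 361, nat_lit 1083, nat_lit 6859],mk [nat_lit 3, nat_lit 19, nat_lit 57, nat_lit 361, nat_lit 1083, nat_lit 6859],mk [nat_lit 6859],[(nat_lit 1,nat_lit 12996,[],mk []),(nat_lit 2,nat_lit 6498,[],mk []),(nat_lit 3,nat_lit 4332,[],mk []),(nat_lit 4,nat_lit 3249,[],mk []),(nat_lit 6,nat_lit 2166,[],mk []),(nat_lit 9,nat_lit 1444,[],mk [])]⟩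
def t22801 : TE := ⟨nat_lit 22801,nat_lit 151,nat_lit 151,[],[nat_lit 151],mk [nat_lit 151],mk [],[(nat_lit 1,nat_lit 22650,[nat_lit 2, nat_lit 3, nat_lit 5, nat_lit 6, nat_lit 10, nat_lit 15, nat_lit 25, nat_lit 30, nat_lit 50, nat_lit 75, nat_lit 150, nat_lit 151],mk [nat_lit 2, nat_lit 3, nat_lit 5, nat_lit 6, nat_lit 10, nat_lit 15, nat_lit 25, nat_lit 30, nat_lit 50, nat_lit 75, nat_lit 150, nat_lit 151]),(nat_lit 2,nat_lit 11325,[nat_lit 3, nat_lit 5, nat_lit 15, nat_lit 25, nat_lit 75, nat_lit 151, nat_lit 453, nat_lit 755, nat_lit 2265, nat_lit 3775, nat_lit 11325],mk [nat_lit 3, nat_lit 5, nat_lit 15, nat_lit 25, nat_lit 75, nat_lit 151, nat_lit 453, nat_lit 755, nat_lit 2265, nat_lit 3775, nat_lit 11325]),(nat_lit 3,nat_lit 7550,[nat_lit 2, nat_lit 5, nat_lit 10, nat_lit 25, nat_lit 50, nat_lit 151, nat_lit 302, nat_lit 755, nat_lit 1510, nat_lit 3775, nat_lit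 7550],mk [nat_lit 2, nat_lit 5, nat_lit 10, nat_lit 25, nat_lit 50, nat_lit 151, nat_lit 302, nat_lit 755, nat_lit 1510, nat_lit 3775, nat_lit 7550]),(nat_lit 5,nat_lit 4530,[nat_lit 2, nat_lit 3, nat_lit 5, nat_lit 6, nat_lit 10, nat_lit 15, nat_lit 30, nat_lit 151, nat_lit 302, nat_lit 453, nat_lit 755, nat_lit 906],mk [nat_lit 2, nat_lit 3, nat_lit 5, nat_lit 6, nat_lit 10, nat_lit 15, nat_lit 30, nat_lit 151, nat_lit 302, nat_lit 453, nat_lit 755, nat_lit 906]),(nat_lit 6,nat_lit 3775,[nat_lit 5, nat_lit 25, nat_lit 151, nat_lit 755, nat_lit 3775],mk [nat_lit 5, nat_lit 25, nat_lit 151, nat_lit 755, nat_lit 3775]),(nat_lit 10,nat_lit 2265,[nat_lit 3, nat_lit 5, nat_lit 15, nat_lit 151, nat_lit 453, nat_lit 755, nat_lit 2265],mk [nat_lit 3, nat_lit 5, nat_lit 15, nat_lit 151, nat_lit 453, nat_lit 755, nat_lit 2265])]⟩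
def t24389 : TE := ⟨nat_lit 24389,nat_lit 29,nat_lit 29,[],[nat_lit 29, nat_lit 841],mk [nat_lit 29, nat_lit 841],mk [],[(nat_lit 1,nat_lit 23548,[nat_lit 2, nat_lit 4, nat_lit 7, nat_lit 14, nat_lit 28, nat_lit 29, nat_lit 58, nat_lit 116, nat_lit 203, nat_lit 406, nat_lit 812, nat_lit 841],mk [nat_lit 2, nat_lit 4, nat_lit 7, nat_lit 14, nat_lit 28, nat_lit 29, nat_lit 58, nat_lit 116, nat_lit 203, nat_lit 406, nat_lit 812, nat_lit 841]),(nat_lit 2,nat_lit 11774,[nat_lit 2, nat_lit 7, nat_lit 14, nat_lit 29, nat_lit 58, nat_lit 203, nat_lit 406, nat_lit 841, nat_lit 1682, nat_lit 5887, nat_lit 11774],mk [nat_lit 2, nat_lit 7, nat_lit 14, nat_lit 29, nat_lit 58, nat_lit 203, nat_lit 406, nat_lit 841, nat_lit 1682, nat_lit 5887, nat_lit 11774]),(nat_lit 4,nat_lit 5887,[nat_lit 7, nat_lit 29, nat_lit 203, nat_lit 841, nat_lit 5887],mk [nat_lit 7, nat_lit 29, nat_lit 203,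 nat_lit 841, nat_lit 5887]),(nat_lit 7,nat_lit 3364,[nat_lit 2, nat_lit 4, nat_lit 29, nat_lit 58, nat_lit 116, nat_lit 841, nat_lit 1682, nat_lit 3364],mk [nat_lit 2, nat_lit 4, nat_lit 29, nat_lit 58, nat_lit 116, nat_lit 841, nat_lit 1682, nat_lit 3364])]⟩
def t26569 : TE := ⟨nat_lit 26569,nat_lit 163,nat_lit 163,[],[nat_lit 163],mk [nat_lit 163],mk [],[(nat_lit 1,nat_lit 26406,[nat_lit 2, nat_lit 3, nat_lit 6, nat_lit 9, nat_lit 18, nat_lit 27, nat_lit 54, nat_lit 81, nat_lit 162, nat_lit 163, nat_lit 326, nat_lit 489],mk [nat_lit 2, nat_lit 3, nat_lit 6, nat_lit 9, nat_lit 18, nat_lit 27, nat_lit 54, nat_lit 81, nat_lit 162, nat_lit 163, nat_lit 326, nat_lit 489]),(nat_lit 2,nat_lit 13203,[nat_lit 3, nat_lit 9, nat_lit 27, nat_lit 81, nat_lit 163, nat_lit 489, nat_lit 1467, nat_lit 4401, nat_lit 13203],mk [nat_lit 3, nat_lit 9, nat_lit 27, nat_lit 81, nat_lit 163, nat_lit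 489, nat_lit 1467, nat_lit 4401, nat_lit 13203]),(nat_lit 3,nat_lit 8802,[nat_lit 2, nat_lit 3, nat_lit 6, nat_lit 9, nat_lit 18, nat_lit 27, nat_lit 54, nat_lit 163, nat_lit 326, nat_lit 489, nat_lit 978, nat_lit 1467],mk [nat_lit 2, nat_lit 3, nat_lit 6, nat_lit 9, nat_lit 18, nat_lit 27, nat_lit 54, nat_lit 163, nat_lit 326, nat_lit 489, nat_lit 978, nat_lit 1467]),(nat_lit 6,nat_lit 4401,[nat_lit 3, nat_lit 9, nat_lit 27, nat_lit 163, nat_lit 489, nat_lit 1467, nat_lit 4401],mk [nat_lit 3, nat_lit 9, nat_lit 27, nat_lit 163, nat_lit 489, nat_lit 1467, nat_lit 4401]),(nat_lit 9,nat_lit 2934,[nat_lit 2, nat_lit 3, nat_lit 6, nat_lit 9, nat_lit 18, nat_lit 163, nat_lit 326, nat_lit 489, nat_lit 978, nat_lit 1467, nat_lit 2934],mk [nat_lit 2, nat_lit 3, nat_lit 6, nat_lit 9, nat_lit 18, nat_lit 163, nat_lit 326, nat_lit 489, nat_lit 978, nat_lit 1467, nat_lit 2934])]⟩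
def t28561 : TE := ⟨nat_lit 28561,nat_lit 13,nat_lit 13,[],[nat_lit 13, nat_lit 169, nat_lit 2197],mk [nat_lit 13, nat_lit 169, nat_lit 2197],mk [],[(nat_lit 1,nat_lit 26364,[nat_lit 2, nat_lit 3, nat_lit 4, nat_lit 6, nat_lit 12, nat_lit 13, nat_lit 26, nat_lit 39, nat_lit 52, nat_lit 78, nat_lit 156, nat_lit 169],mk [nat_lit 2, nat_lit 3, nat_lit 4, nat_lit 6, nat_lit 12, nat_lit 13, nat_lit 26, nat_lit 39, nat_lit 52, nat_lit 78, nat_lit 156, nat_lit 169]),(nat_lit 2,nat_lit 13182,[nat_lit 2, nat_lit 3, nat_lit 6, nat_lit 13, nat_lit 26, nat_lit 39, nat_lit 78, nat_lit 169, nat_lit 338, nat_lit 507, nat_lit 1014, nat_lit 2197],mk [nat_lit 2, nat_lit 3, nat_lit 6, nat_lit 13, nat_lit 26, nat_lit 39, nat_lit 78, nat_lit 169, nat_lit 338, nat_lit 507, nat_lit 1014, nat_lit 2197]),(nat_lit 3,nat_lit 8788,[nat_lit 2, nat_lit 4, nat_lit 13, nat_lit 26, nat_lit 52, nat_lit 169,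 nat_lit 338, nat_lit 676, nat_lit 2197, nat_lit 4394, nat_lit 8788],mk [nat_lit 2, nat_lit 4, nat_lit 13, nat_lit 26, nat_lit 52, nat_lit 169, nat_lit 338, nat_lit 676, nat_lit 2197, nat_lit 4394, nat_lit 8788]),(nat_lit 4,nat_lit 6591,[nat_lit 3, nat_lit 13, nat_lit 39, nat_lit 169, nat_lit 507, nat_lit 2197, nat_lit 6591],mk [nat_lit 3, nat_lit 13, nat_lit 39, nat_lit 169, nat_lit 507, nat_lit 2197, nat_lit 6591]),(nat_lit 6,nat_lit 4394,[nat_lit 2, nat_lit 13, nat_lit 26, nat_lit 169, nat_lit 338, nat_lit 2197, nat_lit 4394],mk [nat_lit 2, nat_lit 13, nat_lit 26, nat_lit 169, nat_lit 338, nat_lit 2197, nat_lit 4394])]⟩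
def t29293 : TE := ⟨nat_lit 29293,nat_lit 0,nat_lit 11,[nat_lit 2663],[nat_lit 11, nat_lit 2663],mk [nat_lit 11, nat_lit 2663],mk [nat_lit 2663, nat_lit 11],[(nat_lit 1,nat_lit 26620,[],mk []),(nat_lit 2,nat_lit 13310,[],mk []),(nat_lit 4,nat_lit 6655,[],mk []),(nat_lit 5,nat_lit 5324,[],mk []),(nat_lit 10,nat_lit 2662,[],mk [])]⟩
def t29791 : TE := ⟨nat_lit 29791,nat_lit 31,nat_lit 31,[],[nat_lit 31, nat_lit 961],mk [nat_lit 31, nat_lit 961],mk [],[(nat_lit 1,nat_lit 28830,[nat_lit 2, nat_lit 3, nat_lit 5, nat_lit 6, nat_lit 10, nat_lit 15, nat_lit 30, nat_lit 31, nat_lit 62, nat_lit 93, nat_lit 155, nat_lit 186],mk [nat_lit 2, nat_lit 3, nat_lit 5, nat_lit 6, nat_lit 10, nat_lit 15, nat_lit 30, nat_lit 31, nat_lit 62, nat_lit 93, nat_lit 155, nat_lit 186]),(nat_lit 2,nat_lit 14415,[nat_lit 3, nat_lit 5, nat_lit 15, nat_lit 31, nat_lit 93, nat_lit 155, nat_lit 465, nat_lit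 961, nat_lit 2883, nat_lit 4805, nat_lit 14415],mk [nat_lit 3, nat_lit 5, nat_lit 15, nat_lit 31, nat_lit 93, nat_lit 155, nat_lit 465, nat_lit 961, nat_lit 2883, nat_lit 4805, nat_lit 14415]),(nat_lit 3,nat_lit 9610,[nat_lit 2, nat_lit 5, nat_lit 10, nat_lit 31, nat_lit 62, nat_lit 155, nat_lit 310, nat_lit 961, nat_lit 1922, nat_lit 4805, nat_lit 9610],mk [nat_lit 2, nat_lit 5, nat_lit 10, nat_lit 31, nat_lit 62, nat_lit 155, nat_lit 310, nat_lit 961, nat_lit 1922, nat_lit 4805, nat_lit 9610]),(nat_lit 5,nat_lit 5766,[nat_lit 2, nat_lit 3, nat_lit 6, nat_lit 31, nat_lit 62, nat_lit 93, nat_lit 186, nat_lit 961, nat_lit 1922, nat_lit 2883, nat_lit 5766],mk [nat_lit 2, nat_lit 3, nat_lit 6, nat_lit 31, nat_lit 62, nat_lit 93, nat_lit 186, nat_lit 961, nat_lit 1922, nat_lit 2883, nat_lit 5766]),(nat_lit 6,nat_lit 4805,[nat_lit 5, nat_lit 31, nat_lit 155, nat_lit 961, nat_lit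 4805],mk [nat_lit 5, nat_lit 31, nat_lit 155, nat_lit 961, nat_lit 4805]),(nat_lit 10,nat_lit 2883,[nat_lit 3, nat_lit 31, nat_lit 93, nat_lit 961, nat_lit 2883],mk [nat_lit 3, nat_lit 31, nat_lit 93, nat_lit 961, nat_lit 2883])]⟩
def t31375 : TE := ⟨nat_lit 31375,nat_lit 0,nat_lit 5,[nat_lit 251],[nat_lit 5, nat_lit 25, nat_lit 125, nat_lit 251, nat_lit 1255, nat_lit 6275],mk [nat_lit 5, nat_lit 25, nat_lit 125, nat_lit 251, nat_lit 1255, nat_lit 6275],mk [nat_lit 125],[(nat_lit 1,nat_lit 25000,[],mk []),(nat_lit 2,nat_lit 12500,[],mk []),(nat_lit 4,nat_lit 6250,[],mk []),(nat_lit 5,nat_lit 5000,[],mk []),(nat_lit 8,nat_lit 3125,[],mk []),(nat_lit 10,nat_lit 2500,[],mk [])]⟩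
def t37249 : TE := ⟨nat_lit 37249,nat_lit 193,nat_lit 193,[],[nat_lit 193],mk [nat_lit 193],mk [],[(nat_lit 1,nat_lit 37056,[nat_lit 2, nat_lit 3, nat_lit 4, nat_lit 6, nat_lit 8, nat_lit 12, nat_lit 16, nat_lit 24, nat_lit 32, nat_lit 48, nat_lit 64, nat_lit 96],mk [nat_lit 2, nat_lit 3, nat_lit 4, nat_lit 6, nat_lit 8, nat_lit 12, nat_lit 16, nat_lit 24, nat_lit 32, nat_lit 48, nat_lit 64, nat_lit 96]),(nat_lit 2,nat_lit 18528,[nat_lit 2, nat_lit 3, nat_lit 4, nat_lit 6, nat_lit 8, nat_lit 12, nat_lit 16, nat_lit 24, nat_lit 32, nat_lit 48, nat_lit 96, nat_lit 193],mk [nat_lit 2, nat_lit 3, nat_lit 4, nat_lit 6, nat_lit 8, nat_lit 12, nat_lit 16, nat_lit 24, nat_lit 32, nat_lit 48, nat_lit 96, nat_lit 193]),(nat_lit 3,nat_lit 12352,[nat_lit 2, nat_lit 4, nat_lit 8, nat_lit 16, nat_lit 32, nat_lit 64, nat_lit 193, nat_lit 386, nat_lit 772, nat_lit 1544, nat_lit 3088, nat_lit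 6176],mk [nat_lit 2, nat_lit 4, nat_lit 8, nat_lit 16, nat_lit 32, nat_lit 64, nat_lit 193, nat_lit 386, nat_lit 772, nat_lit 1544, nat_lit 3088, nat_lit 6176]),(nat_lit 4,nat_lit 9264,[nat_lit 2, nat_lit 3, nat_lit 4, nat_lit 6, nat_lit 8, nat_lit 12, nat_lit 16, nat_lit 24, nat_lit 48, nat_lit 193, nat_lit 386, nat_lit 579],mk [nat_lit 2, nat_lit 3, nat_lit 4, nat_lit 6, nat_lit 8, nat_lit 12, nat_lit 16, nat_lit 24, nat_lit 48, nat_lit 193, nat_lit 386, nat_lit 579]),(nat_lit 6,nat_lit 6176,[nat_lit 2, nat_lit 4, nat_lit 8, nat_lit 16, nat_lit 32, nat_lit 193, nat_lit 386, nat_lit 772, nat_lit 1544, nat_lit 3088, nat_lit 6176],mk [nat_lit 2, nat_lit 4, nat_lit 8, nat_lit 16, nat_lit 32, nat_lit 193, nat_lit 386, nat_lit 772, nat_lit 1544, nat_lit 3088, nat_lit 6176]),(nat_lit 8,nat_lit 4632,[nat_lit 2, nat_lit 3, nat_lit 4, nat_lit 6, nat_lit 8, nat_lit 12, nat_lit 24,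 nat_lit 193, nat_lit 386, nat_lit 579, nat_lit 772, nat_lit 1158],mk [nat_lit 2, nat_lit 3, nat_lit 4, nat_lit 6, nat_lit 8, nat_lit 12, nat_lit 24, nat_lit 193, nat_lit 386, nat_lit 579, nat_lit 772, nat_lit 1158])]⟩
def t38809 : TE := ⟨nat_lit 38809,nat_lit 197,nat_lit 197,[],[nat_lit 197],mk [nat_lit 197],mk [],[(nat_lit 1,nat_lit 38612,[nat_lit 2, nat_lit 4, nat_lit 7, nat_lit 14, nat_lit 28, nat_lit 49, nat_lit 98, nat_lit 196, nat_lit 197, nat_lit 394, nat_lit 788, nat_lit 1379],mk [nat_lit 2, nat_lit 4, nat_lit 7, nat_lit 14, nat_lit 28, nat_lit 49, nat_lit 98, nat_lit 196, nat_lit 197, nat_lit 394, nat_lit 788, nat_lit 1379]),(nat_lit 2,nat_lit 19306,[nat_lit 2, nat_lit 7, nat_lit 14, nat_lit 49, nat_lit 98, nat_lit 197, nat_lit 394, nat_lit 1379, nat_lit 2758, nat_lit 9653, nat_lit 19306],mk [nat_lit 2, nat_lit 7, nat_lit 14, nat_lit 49, nat_lit 98, nat_lit 197,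 nat_lit 394, nat_lit 1379, nat_lit 2758, nat_lit 9653, nat_lit 19306]),(nat_lit 4,nat_lit 9653,[nat_lit 7, nat_lit 49, nat_lit 197, nat_lit 1379, nat_lit 9653],mk [nat_lit 7, nat_lit 49, nat_lit 197, nat_lit 1379, nat_lit 9653]),(nat_lit 7,nat_lit 5516,[nat_lit 2, nat_lit 4, nat_lit 7, nat_lit 14, nat_lit 28, nat_lit 197, nat_lit 394, nat_lit 788, nat_lit 1379, nat_lit 2758, nat_lit 5516],mk [nat_lit 2, nat_lit 4, nat_lit 7, nat_lit 14, nat_lit 28, nat_lit 197, nat_lit 394, nat_lit 788, nat_lit 1379, nat_lit 2758, nat_lit 5516])]⟩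
def t50653 : TE := ⟨nat_lit 50653,nat_lit 37,nat_lit 37,[],[nat_lit 37, nat_lit 1369],mk [nat_lit 37, nat_lit 1369],mk [],[(nat_lit 1,nat_lit 49284,[nat_lit 2, nat_lit 3, nat_lit 4, nat_lit 6, nat_lit 9, nat_lit 12, nat_lit 18, nat_lit 36, nat_lit 37, nat_lit 74, nat_lit 111, nat_lit 148],mk [nat_lit 2, nat_lit 3, nat_lit 4, nat_lit 6, nat_lit 9, nat_lit 12, nat_lit 18, nat_lit 36, nat_lit 37, nat_lit 74, nat_lit 111, nat_lit 148]),(nat_lit 2,nat_lit 24642,[nat_lit 2, nat_lit 3, nat_lit 6, nat_lit 9, nat_lit 18, nat_lit 37, nat_lit 74, nat_lit 111, nat_lit 222, nat_lit 333, nat_lit 666, nat_lit 1369],mk [nat_lit 2, nat_lit 3, nat_lit 6, nat_lit 9, nat_lit 18, nat_lit 37, nat_lit 74, nat_lit 111, nat_lit 222, nat_lit 333, nat_lit 666, nat_lit 1369]),(nat_lit 3,nat_lit 16428,[nat_lit 2, nat_lit 3, nat_lit 4, nat_lit 6, nat_lit 12, nat_lit 37, nat_lit 74, nat_lit 111, nat_lit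 148, nat_lit 222, nat_lit 444, nat_lit 1369],mk [nat_lit 2, nat_lit 3, nat_lit 4, nat_lit 6, nat_lit 12, nat_lit 37, nat_lit 74, nat_lit 111, nat_lit 148, nat_lit 222, nat_lit 444, nat_lit 1369]),(nat_lit 4,nat_lit 12321,[nat_lit 3, nat_lit 9, nat_lit 37, nat_lit 111, nat_lit 333, nat_lit 1369, nat_lit 4107, nat_lit 12321],mk [nat_lit 3, nat_lit 9, nat_lit 37, nat_lit 111, nat_lit 333, nat_lit 1369, nat_lit 4107, nat_lit 12321]),(nat_lit 6,nat_lit 8214,[nat_lit 2, nat_lit 3, nat_lit 6, nat_lit 37, nat_lit 74, nat_lit 111, nat_lit 222, nat_lit 1369, nat_lit 2738, nat_lit 4107, nat_lit 8214],mk [nat_lit 2, nat_lit 3, nat_lit 6, nat_lit 37, nat_lit 74, nat_lit 111, nat_lit 222, nat_lit 1369, nat_lit 2738, nat_lit 4107, nat_lit 8214]),(nat_lit 9,nat_lit 5476,[nat_lit 2, nat_lit 4, nat_lit 37, nat_lit 74, nat_lit 148, nat_lit 1369, nat_lit 2738, nat_lit 5476],mk [nat_lit 2, nat_lit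 4, nat_lit 37, nat_lit 74, nat_lit 148, nat_lit 1369, nat_lit 2738, nat_lit 5476])]⟩
def t53138 : TE := ⟨nat_lit 53138,nat_lit 0,nat_lit 2,[nat_lit 163],[nat_lit 2, nat_lit 163, nat_lit 326, nat_lit 26569],mk [nat_lit 2, nat_lit 163, nat_lit 326, nat_lit 26569],mk [nat_lit 26569],[(nat_lit 1,nat_lit 26406,[],mk []),(nat_lit 2,nat_lit 13203,[],mk []),(nat_lit 3,nat_lit 8802,[],mk []),(nat_lit 6,nat_lit 4401,[],mk []),(nat_lit 9,nat_lit 2934,[],mk [])]⟩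
def t63001 : TE := ⟨nat_lit 63001,nat_lit 251,nat_lit 251,[],[nat_lit 251],mk [nat_lit 251],mk [],[(nat_lit 1,nat_lit 62750,[nat_lit 2, nat_lit 5, nat_lit 10, nat_lit 25, nat_lit 50, nat_lit 125, nat_lit 250, nat_lit 251, nat_lit 502, nat_lit 1255, nat_lit 2510, nat_lit 6275],mk [nat_lit 2, nat_lit 5, nat_lit 10, nat_lit 25, nat_lit 50, nat_lit 125, nat_lit 250, nat_lit 251, nat_lit 502, nat_lit 1255, nat_lit 2510, nat_lit 6275]),(nat_lit 2,nat_lit 31375,[nat_lit 5, nat_lit 25, nat_lit 125, nat_lit 251, nat_lit 1255, nat_lit 6275, nat_lit 31375],mk [nat_lit 5, nat_lit 25, nat_lit 125, nat_lit 251, nat_lit 1255, nat_lit 6275, nat_lit 31375]),(nat_lit 5,nat_lit 12550,[nat_lit 2, nat_lit 5, nat_lit 10, nat_lit 25, nat_lit 50, nat_lit 251, nat_lit 502, nat_lit 1255, nat_lit 2510, nat_lit 6275, nat_lit 12550],mk [nat_lit 2, nat_lit 5, nat_lit 10, nat_lit 25, nat_lit 50, nat_lit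 251, nat_lit 502, nat_lit 1255, nat_lit 2510, nat_lit 6275, nat_lit 12550]),(nat_lit 10,nat_lit 6275,[nat_lit 5, nat_lit 25, nat_lit 251, nat_lit 1255, nat_lit 6275],mk [nat_lit 5, nat_lit 25, nat_lit 251, nat_lit 1255, nat_lit 6275])]⟩
def t66049 : TE := ⟨nat_lit 66049,nat_lit 257,nat_lit 257,[],[nat_lit 257],mk [nat_lit 257],mk [],[(nat_lit 1,nat_lit 65792,[nat_lit 2, nat_lit 4, nat_lit 8, nat_lit 16, nat_lit 32, nat_lit 64, nat_lit 128, nat_lit 256, nat_lit 257, nat_lit 514, nat_lit 1028, nat_lit 2056],mk [nat_lit 2, nat_lit 4, nat_lit 8, nat_lit 16, nat_lit 32, nat_lit 64, nat_lit 128, nat_lit 256, nat_lit 257, nat_lit 514, nat_lit 1028, nat_lit 2056]),(nat_lit 2,nat_lit 32896,[nat_lit 2, nat_lit 4, nat_lit 8, nat_lit 16, nat_lit 32, nat_lit 64, nat_lit 128, nat_lit 257, nat_lit 514, nat_lit 1028, nat_lit 2056, nat_lit 4112],mk [nat_lit 2, nat_lit 4, nat_lit 8, nat_lit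 16, nat_lit 32, nat_lit 64, nat_lit 128, nat_lit 257, nat_lit 514, nat_lit 1028, nat_lit 2056, nat_lit 4112]),(nat_lit 4,nat_lit 16448,[nat_lit 2, nat_lit 4, nat_lit 8, nat_lit 16, nat_lit 32, nat_lit 64, nat_lit 257, nat_lit 514, nat_lit 1028, nat_lit 2056, nat_lit 4112, nat_lit 8224],mk [nat_lit 2, nat_lit 4, nat_lit 8, nat_lit 16, nat_lit 32, nat_lit 64, nat_lit 257, nat_lit 514, nat_lit 1028, nat_lit 2056, nat_lit 4112, nat_lit 8224]),(nat_lit 8,nat_lit 8224,[nat_lit 2, nat_lit 4, nat_lit 8, nat_lit 16, nat_lit 32, nat_lit 257, nat_lit 514, nat_lit 1028, nat_lit 2056, nat_lit 4112, nat_lit 8224],mk [nat_lit 2, nat_lit 4, nat_lit 8, nat_lit 16, nat_lit 32, nat_lit 257, nat_lit 514, nat_lit 1028, nat_lit 2056, nat_lit 4112, nat_lit 8224])]⟩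
def t68921 : TE := ⟨nat_lit 68921,nat_lit 41,nat_lit 41,[],[nat_lit 41, nat_lit 1681],mk [nat_lit 41, nat_lit 1681],mk [],[(nat_lit 1,nat_lit 67240,[nat_lit 2, nat_lit 4, nat_lit 5, nat_lit 8, nat_lit 10, nat_lit 20, nat_lit 40, nat_lit 41, nat_lit 82, nat_lit 164, nat_lit 205, nat_lit 328],mk [nat_lit 2, nat_lit 4, nat_lit 5, nat_lit 8, nat_lit 10, nat_lit 20, nat_lit 40, nat_lit 41, nat_lit 82, nat_lit 164, nat_lit 205, nat_lit 328]),(nat_lit 2,nat_lit 33620,[nat_lit 2, nat_lit 4, nat_lit 5, nat_lit 10, nat_lit 20, nat_lit 41, nat_lit 82, nat_lit 164, nat_lit 205, nat_lit 410, nat_lit 820, nat_lit 1681],mk [nat_lit 2, nat_lit 4, nat_lit 5, nat_lit 10, nat_lit 20, nat_lit 41, nat_lit 82, nat_lit 164, nat_lit 205, nat_lit 410, nat_lit 820, nat_lit 1681]),(nat_lit 4,nat_lit 16810,[nat_lit 2, nat_lit 5, nat_lit 10, nat_lit 41, nat_lit 82, nat_lit 205, nat_lit 410, nat_lit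 1681, nat_lit 3362, nat_lit 8405, nat_lit 16810],mk [nat_lit 2, nat_lit 5, nat_lit 10, nat_lit 41, nat_lit 82, nat_lit 205, nat_lit 410, nat_lit 1681, nat_lit 3362, nat_lit 8405, nat_lit 16810]),(nat_lit 5,nat_lit 13448,[nat_lit 2, nat_lit 4, nat_lit 8, nat_lit 41, nat_lit 82, nat_lit 164, nat_lit 328, nat_lit 1681, nat_lit 3362, nat_lit 6724, nat_lit 13448],mk [nat_lit 2, nat_lit 4, nat_lit 8, nat_lit 41, nat_lit 82, nat_lit 164, nat_lit 328, nat_lit 1681, nat_lit 3362, nat_lit 6724, nat_lit 13448]),(nat_lit 8,nat_lit 8405,[nat_lit 5, nat_lit 41, nat_lit 205, nat_lit 1681, nat_lit 8405],mk [nat_lit 5, nat_lit 41, nat_lit 205, nat_lit 1681, nat_lit 8405]),(nat_lit 10,nat_lit 6724,[nat_lit 2, nat_lit 4, nat_lit 41, nat_lit 82, nat_lit 164, nat_lit 1681, nat_lit 3362, nat_lit 6724],mk [nat_lit 2, nat_lit 4, nat_lit 41, nat_lit 82, nat_lit 164, nat_lit 1681, nat_lit 3362, nat_lit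 6724])]⟩
def t78125 : TE := ⟨nat_lit 78125,nat_lit 5,nat_lit 5,[],[nat_lit 5, nat_lit 25, nat_lit 125, nat_lit 625, nat_lit 3125, nat_lit 15625],mk [nat_lit 5, nat_lit 25, nat_lit 125, nat_lit 625, nat_lit 3125, nat_lit 15625],mk [],[(nat_lit 1,nat_lit 62500,[nat_lit 2, nat_lit 4, nat_lit 5, nat_lit 10, nat_lit 20, nat_lit 25, nat_lit 50, nat_lit 100, nat_lit 125, nat_lit 250, nat_lit 500, nat_lit 625],mk [nat_lit 2, nat_lit 4, nat_lit 5, nat_lit 10, nat_lit 20, nat_lit 25, nat_lit 50, nat_lit 100, nat_lit 125, nat_lit 250, nat_lit 500, nat_lit 625]),(nat_lit 2,nat_lit 31250,[nat_lit 2, nat_lit 5, nat_lit 10, nat_lit 25, nat_lit 50, nat_lit 125, nat_lit 250, nat_lit 625, nat_lit 1250, nat_lit 3125, nat_lit 6250, nat_lit 15625],mk [nat_lit 2, nat_lit 5, nat_lit 10, nat_lit 25, nat_lit 50, nat_lit 125, nat_lit 250, nat_lit 625, nat_lit 1250, nat_lit 3125, nat_lit 6250, nat_lit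 15625]),(nat_lit 4,nat_lit 15625,[nat_lit 5, nat_lit 25, nat_lit 125, nat_lit 625, nat_lit 3125, nat_lit 15625],mk [nat_lit 5, nat_lit 25, nat_lit 125, nat_lit 625, nat_lit 3125, nat_lit 15625]),(nat_lit 5,nat_lit 12500,[nat_lit 2, nat_lit 4, nat_lit 5, nat_lit 10, nat_lit 20, nat_lit 25, nat_lit 50, nat_lit 100, nat_lit 125, nat_lit 250, nat_lit 500, nat_lit 625],mk [nat_lit 2, nat_lit 4, nat_lit 5, nat_lit 10, nat_lit 20, nat_lit 25, nat_lit 50, nat_lit 100, nat_lit 125, nat_lit 250, nat_lit 500, nat_lit 625]),(nat_lit 10,nat_lit 6250,[nat_lit 2, nat_lit 5, nat_lit 10, nat_lit 25, nat_lit 50, nat_lit 125, nat_lit 250, nat_lit 625, nat_lit 1250, nat_lit 3125, nat_lit 6250],mk [nat_lit 2, nat_lit 5, nat_lit 10, nat_lit 25, nat_lit 50, nat_lit 125, nat_lit 250, nat_lit 625, nat_lit 1250, nat_lit 3125, nat_lit 6250])]⟩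
def t79507 : TE := ⟨nat_lit 79507,nat_lit 43,nat_lit 43,[],[nat_lit 43, nat_lit 1849],mk [nat_lit 43, nat_lit 1849],mk [],[(nat_lit 1,nat_lit 77658,[nat_lit 2, nat_lit 3, nat_lit 6, nat_lit 7, nat_lit 14, nat_lit 21, nat_lit 42, nat_lit 43, nat_lit 86, nat_lit 129, nat_lit 258, nat_lit 301],mk [nat_lit 2, nat_lit 3, nat_lit 6, nat_lit 7, nat_lit 14, nat_lit 21, nat_lit 42, nat_lit 43, nat_lit 86, nat_lit 129, nat_lit 258, nat_lit 301]),(nat_lit 2,nat_lit 38829,[nat_lit 3, nat_lit 7, nat_lit 21, nat_lit 43, nat_lit 129, nat_lit 301, nat_lit 903, nat_lit 1849, nat_lit 5547, nat_lit 12943, nat_lit 38829],mk [nat_lit 3, nat_lit 7, nat_lit 21, nat_lit 43, nat_lit 129, nat_lit 301, nat_lit 903, nat_lit 1849, nat_lit 5547, nat_lit 12943, nat_lit 38829]),(nat_lit 3,nat_lit 25886,[nat_lit 2, nat_lit 7, nat_lit 14, nat_lit 43, nat_lit 86, nat_lit 301, nat_lit 602, nat_lit 1849, nat_lit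 3698, nat_lit 12943, nat_lit 25886],mk [nat_lit 2, nat_lit 7, nat_lit 14, nat_lit 43, nat_lit 86, nat_lit 301, nat_lit 602, nat_lit 1849, nat_lit 3698, nat_lit 12943, nat_lit 25886]),(nat_lit 6,nat_lit 12943,[nat_lit 7, nat_lit 43, nat_lit 301, nat_lit 1849, nat_lit 12943],mk [nat_lit 7, nat_lit 43, nat_lit 301, nat_lit 1849, nat_lit 12943]),(nat_lit 7,nat_lit 11094,[nat_lit 2, nat_lit 3, nat_lit 6, nat_lit 43, nat_lit 86, nat_lit 129, nat_lit 258, nat_lit 1849, nat_lit 3698, nat_lit 5547, nat_lit 11094],mk [nat_lit 2, nat_lit 3, nat_lit 6, nat_lit 43, nat_lit 86, nat_lit 129, nat_lit 258, nat_lit 1849, nat_lit 3698, nat_lit 5547, nat_lit 11094])]⟩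
def t79707 : TE := ⟨nat_lit 79707,nat_lit 0,nat_lit 3,[nat_lit 163],[nat_lit 3, nat_lit 163, nat_lit 489, nat_lit 26569],mk [nat_lit 3, nat_lit 163, nat_lit 489, nat_lit 26569],mk [nat_lit 26569],[(nat_lit 1,nat_lit 52812,[],mk []),(nat_lit 2,nat_lit 26406,[],mk []),(nat_lit 3,nat_lit 17604,[],mk []),(nat_lit 4,nat_lit 13203,[],mk []),(nat_lit 6,nat_lit 8802,[],mk []),(nat_lit 9,nat_lit 5868,[],mk [])]⟩
def t83521 : TE := ⟨nat_lit 83521,nat_lit 17,nat_lit 17,[],[nat_lit 17, nat_lit 289, nat_lit 4913],mk [nat_lit 17, nat_lit 289, nat_lit 4913],mk [],[(nat_lit 1,nat_lit 78608,[nat_lit 2, nat_lit 4, nat_lit 8, nat_lit 16, nat_lit 17, nat_lit 34, nat_lit 68, nat_lit 136, nat_lit 272, nat_lit 289, nat_lit 578, nat_lit 1156],mk [nat_lit 2, nat_lit 4, nat_lit 8, nat_lit 16, nat_lit 17, nat_lit 34, nat_lit 68, nat_lit 136, nat_lit 272, nat_lit 289, nat_lit 578, nat_lit 1156]),(nat_lit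 2,nat_lit 39304,[nat_lit 2, nat_lit 4, nat_lit 8, nat_lit 17, nat_lit 34, nat_lit 68, nat_lit 136, nat_lit 289, nat_lit 578, nat_lit 1156, nat_lit 2312, nat_lit 4913],mk [nat_lit 2, nat_lit 4, nat_lit 8, nat_lit 17, nat_lit 34, nat_lit 68, nat_lit 136, nat_lit 289, nat_lit 578, nat_lit 1156, nat_lit 2312, nat_lit 4913]),(nat_lit 4,nat_lit 19652,[nat_lit 2, nat_lit 4, nat_lit 17, nat_lit 34, nat_lit 68, nat_lit 289, nat_lit 578, nat_lit 1156, nat_lit 4913, nat_lit 9826, nat_lit 19652],mk [nat_lit 2, nat_lit 4, nat_lit 17, nat_lit 34, nat_lit 68, nat_lit 289, nat_lit 578, nat_lit 1156, nat_lit 4913, nat_lit 9826, nat_lit 19652]),(nat_lit 8,nat_lit 9826,[nat_lit 2, nat_lit 17, nat_lit 34, nat_lit 289, nat_lit 578, nat_lit 4913, nat_lit 9826],mk [nat_lit 2, nat_lit 17, nat_lit 34, nat_lit 289, nat_lit 578, nat_lit 4913, nat_lit 9826])]⟩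
def t117649 : TE := ⟨nat_lit 117649,nat_lit 7,nat_lit 7,[],[nat_lit 7, nat_lit 49, nat_lit 343, nat_lit 2401, nat_lit 16807],mk [nat_lit 7, nat_lit 49, nat_lit 343, nat_lit 2401, nat_lit 16807],mk [],[(nat_lit 1,nat_lit 100842,[nat_lit 2, nat_lit 3, nat_lit 6, nat_lit 7, nat_lit 14, nat_lit 21, nat_lit 42, nat_lit 49, nat_lit 98, nat_lit 147, nat_lit 294, nat_lit 343],mk [nat_lit 2, nat_lit 3, nat_lit 6, nat_lit 7, nat_lit 14, nat_lit 21, nat_lit 42, nat_lit 49, nat_lit 98, nat_lit 147, nat_lit 294, nat_lit 343]),(nat_lit 2,nat_lit 50421,[nat_lit 3, nat_lit 7, nat_lit 21, nat_lit 49, nat_lit 147, nat_lit 343, nat_lit 1029, nat_lit 2401, nat_lit 7203, nat_lit 16807, nat_lit 50421],mk [nat_lit 3, nat_lit 7, nat_lit 21, nat_lit 49, nat_lit 147, nat_lit 343, nat_lit 1029, nat_lit 2401, nat_lit 7203, nat_lit 16807, nat_lit 50421]),(nat_lit 3,nat_lit 33614,[nat_lit 2, nat_lit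 7, nat_lit 14, nat_lit 49, nat_lit 98, nat_lit 343, nat_lit 686, nat_lit 2401, nat_lit 4802, nat_lit 16807, nat_lit 33614],mk [nat_lit 2, nat_lit 7, nat_lit 14, nat_lit 49, nat_lit 98, nat_lit 343, nat_lit 686, nat_lit 2401, nat_lit 4802, nat_lit 16807, nat_lit 33614]),(nat_lit 6,nat_lit 16807,[nat_lit 7, nat_lit 49, nat_lit 343, nat_lit 2401, nat_lit 16807],mk [nat_lit 7, nat_lit 49, nat_lit 343, nat_lit 2401, nat_lit 16807]),(nat_lit 7,nat_lit 14406,[nat_lit 2, nat_lit 3, nat_lit 6, nat_lit 7, nat_lit 14, nat_lit 21, nat_lit 42, nat_lit 49, nat_lit 98, nat_lit 147, nat_lit 294, nat_lit 343],mk [nat_lit 2, nat_lit 3, nat_lit 6, nat_lit 7, nat_lit 14, nat_lit 21, nat_lit 42, nat_lit 49, nat_lit 98, nat_lit 147, nat_lit 294, nat_lit 343])]⟩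
def t126002 : TE := ⟨nat_lit 126002,nat_lit 0,nat_lit 2,[nat_lit 251],[nat_lit 2, nat_lit 251, nat_lit 502, nat_lit 63001],mk [nat_lit 2, nat_lit 251, nat_lit 502, nat_lit 63001],mk [nat_lit 63001],[(nat_lit 1,nat_lit 62750,[],mk []),(nat_lit 2,nat_lit 31375,[],mk []),(nat_lit 5,nat_lit 12550,[],mk []),(nat_lit 10,nat_lit 6275,[],mk [])]⟩
def t126253 : TE := ⟨nat_lit 126253,nat_lit 0,nat_lit 251,[nat_lit 503],[nat_lit 251, nat_lit 503],mk [nat_lit 251, nat_lit 503],mk [nat_lit 503, nat_lit 251],[(nat_lit 1,nat_lit 125500,[],mk []),(nat_lit 2,nat_lit 62750,[],mk []),(nat_lit 4,nat_lit 31375,[],mk []),(nat_lit 5,nat_lit 25100,[],mk []),(nat_lit 10,nat_lit 12550,[],mk [])]⟩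
def t130321 : TE := ⟨nat_lit 130321,nat_lit 19,nat_lit 19,[],[nat_lit 19, nat_lit 361, nat_lit 6859],mk [nat_lit 19, nat_lit 361, nat_lit 6859],mk [],[(nat_lit 1,nat_lit 123462,[nat_lit 2, nat_lit 3, nat_lit 6, nat_lit 9, nat_lit 18, nat_lit 19, nat_lit 38, nat_lit 57, nat_lit 114, nat_lit 171, nat_lit 342, nat_lit 361],mk [nat_lit 2, nat_lit 3, nat_lit 6, nat_lit 9, nat_lit 18, nat_lit 19, nat_lit 38, nat_lit 57, nat_lit 114, nat_lit 171, nat_lit 342, nat_lit 361]),(nat_lit 2,nat_lit 61731,[nat_lit 3, nat_lit 9, nat_lit 19, nat_lit 57, nat_lit 171, nat_lit 361, nat_lit 1083, nat_lit 3249, nat_lit 6859, nat_lit 20577, nat_lit 61731],mk [nat_lit 3, nat_lit 9, nat_lit 19, nat_lit 57, nat_lit 171, nat_lit 361, nat_lit 1083, nat_lit 3249, nat_lit 6859, nat_lit 20577, nat_lit 61731]),(nat_lit 3,nat_lit 41154,[nat_lit 2, nat_lit 3, nat_lit 6, nat_lit 19, nat_lit 38, nat_lit 57,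 nat_lit 114, nat_lit 361, nat_lit 722, nat_lit 1083, nat_lit 2166, nat_lit 6859],mk [nat_lit 2, nat_lit 3, nat_lit 6, nat_lit 19, nat_lit 38, nat_lit 57, nat_lit 114, nat_lit 361, nat_lit 722, nat_lit 1083, nat_lit 2166, nat_lit 6859]),(nat_lit 6,nat_lit 20577,[nat_lit 3, nat_lit 19, nat_lit 57, nat_lit 361, nat_lit 1083, nat_lit 6859, nat_lit 20577],mk [nat_lit 3, nat_lit 19, nat_lit 57, nat_lit 361, nat_lit 1083, nat_lit 6859, nat_lit 20577]),(nat_lit 9,nat_lit 13718,[nat_lit 2, nat_lit 19, nat_lit 38, nat_lit 361, nat_lit 722, nat_lit 6859, nat_lit 13718],mk [nat_lit 2, nat_lit 19, nat_lit 38, nat_lit 361, nat_lit 722, nat_lit 6859, nat_lit 13718])]⟩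
def t148877 : TE := ⟨nat_lit 148877,nat_lit 53,nat_lit 53,[],[nat_lit 53, nat_lit 2809],mk [nat_lit 53, nat_lit 2809],mk [],[(nat_lit 1,nat_lit 146068,[nat_lit 2, nat_lit 4, nat_lit 13, nat_lit 26, nat_lit 52, nat_lit 53, nat_lit 106, nat_lit 212, nat_lit 689, nat_lit 1378, nat_lit 2756, nat_lit 2809],mk [nat_lit 2, nat_lit 4, nat_lit 13, nat_lit 26, nat_lit 52, nat_lit 53, nat_lit 106, nat_lit 212, nat_lit 689, nat_lit 1378, nat_lit 2756, nat_lit 2809]),(nat_lit 2,nat_lit 73034,[nat_lit 2, nat_lit 13, nat_lit 26, nat_lit 53, nat_lit 106, nat_lit 689, nat_lit 1378, nat_lit 2809, nat_lit 5618, nat_lit 36517, nat_lit 73034],mk [nat_lit 2, nat_lit 13, nat_lit 26, nat_lit 53, nat_lit 106, nat_lit 689, nat_lit 1378, nat_lit 2809, nat_lit 5618, nat_lit 36517, nat_lit 73034]),(nat_lit 4,nat_lit 36517,[nat_lit 13, nat_lit 53, nat_lit 689, nat_lit 2809, nat_lit 36517],mk [nat_lit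 13, nat_lit 53, nat_lit 689, nat_lit 2809, nat_lit 36517])]⟩
def t161051 : TE := ⟨nat_lit 161051,nat_lit 11,nat_lit 11,[],[nat_lit 11, nat_lit 121, nat_lit 1331, nat_lit 14641],mk [nat_lit 11, nat_lit 121, nat_lit 1331, nat_lit 14641],mk [],[(nat_lit 1,nat_lit 146410,[nat_lit 2, nat_lit 5, nat_lit 10, nat_lit 11, nat_lit 22, nat_lit 55, nat_lit 110, nat_lit 121, nat_lit 242, nat_lit 605, nat_lit 1210, nat_lit 1331],mk [nat_lit 2, nat_lit 5, nat_lit 10, nat_lit 11, nat_lit 22, nat_lit 55, nat_lit 110, nat_lit 121, nat_lit 242, nat_lit 605, nat_lit 1210, nat_lit 1331]),(nat_lit 2,nat_lit 73205,[nat_lit 5, nat_lit 11, nat_lit 55, nat_lit 121, nat_lit 605, nat_lit 1331, nat_lit 6655, nat_lit 14641, nat_lit 73205],mk [nat_lit 5, nat_lit 11, nat_lit 55, nat_lit 121, nat_lit 605, nat_lit 1331, nat_lit 6655, nat_lit 14641, nat_lit 73205]),(nat_lit 5,nat_lit 29282,[nat_lit 2, nat_lit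 11, nat_lit 22, nat_lit 121, nat_lit 242, nat_lit 1331, nat_lit 2662, nat_lit 14641, nat_lit 29282],mk [nat_lit 2, nat_lit 11, nat_lit 22, nat_lit 121, nat_lit 242, nat_lit 1331, nat_lit 2662, nat_lit 14641, nat_lit 29282]),(nat_lit 10,nat_lit 14641,[nat_lit 11, nat_lit 121, nat_lit 1331, nat_lit 14641],mk [nat_lit 11, nat_lit 121, nat_lit 1331, nat_lit 14641])]⟩
def t226981 : TE := ⟨nat_lit 226981,nat_lit 61,nat_lit 61,[],[nat_lit 61, nat_lit 3721],mk [nat_lit 61, nat_lit 3721],mk [],[(nat_lit 1,nat_lit 223260,[nat_lit 2, nat_lit 3, nat_lit 4, nat_lit 5, nat_lit 6, nat_lit 10, nat_lit 12, nat_lit 15, nat_lit 20, nat_lit 30, nat_lit 60, nat_lit 61],mk [nat_lit 2, nat_lit 3, nat_lit 4, nat_lit 5, nat_lit 6, nat_lit 10, nat_lit 12, nat_lit 15, nat_lit 20, nat_lit 30, nat_lit 60, nat_lit 61]),(nat_lit 2,nat_lit 111630,[nat_lit 2, nat_lit 3, nat_lit 5, nat_lit 6, nat_lit 10,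 nat_lit 15, nat_lit 30, nat_lit 61, nat_lit 122, nat_lit 183, nat_lit 305, nat_lit 366],mk [nat_lit 2, nat_lit 3, nat_lit 5, nat_lit 6, nat_lit 10, nat_lit 15, nat_lit 30, nat_lit 61, nat_lit 122, nat_lit 183, nat_lit 305, nat_lit 366]),(nat_lit 3,nat_lit 74420,[nat_lit 2, nat_lit 4, nat_lit 5, nat_lit 10, nat_lit 20, nat_lit 61, nat_lit 122, nat_lit 244, nat_lit 305, nat_lit 610, nat_lit 1220, nat_lit 3721],mk [nat_lit 2, nat_lit 4, nat_lit 5, nat_lit 10, nat_lit 20, nat_lit 61, nat_lit 122, nat_lit 244, nat_lit 305, nat_lit 610, nat_lit 1220, nat_lit 3721]),(nat_lit 4,nat_lit 55815,[nat_lit 3, nat_lit 5, nat_lit 15, nat_lit 61, nat_lit 183, nat_lit 305, nat_lit 915, nat_lit 3721, nat_lit 11163, nat_lit 18605, nat_lit 55815],mk [nat_lit 3, nat_lit 5, nat_lit 15, nat_lit 61, nat_lit 183, nat_lit 305, nat_lit 915, nat_lit 3721, nat_lit 11163, nat_lit 18605, nat_lit 55815]),(nat_lit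 5,nat_lit 44652,[nat_lit 2, nat_lit 3, nat_lit 4, nat_lit 6, nat_lit 12, nat_lit 61, nat_lit 122, nat_lit 183, nat_lit 244, nat_lit 366, nat_lit 732, nat_lit 3721],mk [nat_lit 2, nat_lit 3, nat_lit 4, nat_lit 6, nat_lit 12, nat_lit 61, nat_lit 122, nat_lit 183, nat_lit 244, nat_lit 366, nat_lit 732, nat_lit 3721]),(nat_lit 6,nat_lit 37210,[nat_lit 2, nat_lit 5, nat_lit 10, nat_lit 61, nat_lit 122, nat_lit 305, nat_lit 610, nat_lit 3721, nat_lit 7442, nat_lit 18605, nat_lit 37210],mk [nat_lit 2, nat_lit 5, nat_lit 10, nat_lit 61, nat_lit 122, nat_lit 305, nat_lit 610, nat_lit 3721, nat_lit 7442, nat_lit 18605, nat_lit 37210]),(nat_lit 10,nat_lit 22326,[nat_lit 2, nat_lit 3, nat_lit 6, nat_lit 61, nat_lit 122, nat_lit 183, nat_lit 366, nat_lit 3721, nat_lit 7442, nat_lit 11163, nat_lit 22326],mk [nat_lit 2, nat_lit 3, nat_lit 6, nat_lit 61, nat_lit 122, nat_lit 183, nat_lit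 366, nat_lit 3721, nat_lit 7442, nat_lit 11163, nat_lit 22326])]⟩
def t237169 : TE := ⟨nat_lit 237169,nat_lit 487,nat_lit 487,[],[nat_lit 487],mk [nat_lit 487],mk [],[(nat_lit 1,nat_lit 236682,[nat_lit 2, nat_lit 3, nat_lit 6, nat_lit 9, nat_lit 18, nat_lit 27, nat_lit 54, nat_lit 81, nat_lit 162, nat_lit 243, nat_lit 486, nat_lit 487],mk [nat_lit 2, nat_lit 3, nat_lit 6, nat_lit 9, nat_lit 18, nat_lit 27, nat_lit 54, nat_lit 81, nat_lit 162, nat_lit 243, nat_lit 486, nat_lit 487]),(nat_lit 2,nat_lit 118341,[nat_lit 3, nat_lit 9, nat_lit 27, nat_lit 81, nat_lit 243, nat_lit 487, nat_lit 1461, nat_lit 4383, nat_lit 13149, nat_lit 39447, nat_lit 118341],mk [nat_lit 3, nat_lit 9, nat_lit 27, nat_lit 81, nat_lit 243, nat_lit 487, nat_lit 1461, nat_lit 4383, nat_lit 13149, nat_lit 39447, nat_lit 118341]),(nat_lit 3,nat_lit 78894,[nat_lit 2, nat_lit 3, nat_lit 6, nat_lit 9, nat_lit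 18, nat_lit 27, nat_lit 54, nat_lit 81, nat_lit 162, nat_lit 487, nat_lit 974, nat_lit 1461],mk [nat_lit 2, nat_lit 3, nat_lit 6, nat_lit 9, nat_lit 18, nat_lit 27, nat_lit 54, nat_lit 81, nat_lit 162, nat_lit 487, nat_lit 974, nat_lit 1461]),(nat_lit 6,nat_lit 39447,[nat_lit 3, nat_lit 9, nat_lit 27, nat_lit 81, nat_lit 487, nat_lit 1461, nat_lit 4383, nat_lit 13149, nat_lit 39447],mk [nat_lit 3, nat_lit 9, nat_lit 27, nat_lit 81, nat_lit 487, nat_lit 1461, nat_lit 4383, nat_lit 13149, nat_lit 39447]),(nat_lit 9,nat_lit 26298,[nat_lit 2, nat_lit 3, nat_lit 6, nat_lit 9, nat_lit 18, nat_lit 27, nat_lit 54, nat_lit 487, nat_lit 974, nat_lit 1461, nat_lit 2922, nat_lit 4383],mk [nat_lit 2, nat_lit 3, nat_lit 6, nat_lit 9, nat_lit 18, nat_lit 27, nat_lit 54, nat_lit 487, nat_lit 974, nat_lit 1461, nat_lit 2922, nat_lit 4383])]⟩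
def t253009 : TE := ⟨nat_lit 253009,nat_lit 503,nat_lit 503,[],[nat_lit 503],mk [nat_lit 503],mk [],[(nat_lit 1,nat_lit 252506,[nat_lit 2, nat_lit 251, nat_lit 502, nat_lit 503, nat_lit 1006, nat_lit 126253, nat_lit 252506],mk [nat_lit 2, nat_lit 251, nat_lit 502, nat_lit 503, nat_lit 1006, nat_lit 126253, nat_lit 252506]),(nat_lit 2,nat_lit 126253,[nat_lit 251, nat_lit 503, nat_lit 126253],mk [nat_lit 251, nat_lit 503, nat_lit 126253])]⟩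
def t279841 : TE := ⟨nat_lit 279841,nat_lit 23,nat_lit 23,[],[nat_lit 23, nat_lit 529, nat_lit 12167],mk [nat_lit 23, nat_lit 529, nat_lit 12167],mk [],[(nat_lit 1,nat_lit 267674,[nat_lit 2, nat_lit 11, nat_lit 22, nat_lit 23, nat_lit 46, nat_lit 253, nat_lit 506, nat_lit 529, nat_lit 1058, nat_lit 5819, nat_lit 11638, nat_lit 12167],mk [nat_lit 2, nat_lit 11, nat_lit 22, nat_lit 23, nat_lit 46, nat_lit 253, nat_lit 506, nat_lit 529, nat_lit 1058, nat_lit 5819, nat_lit 11638, nat_lit 12167]),(nat_lit 2,nat_lit 133837,[nat_lit 11, nat_lit 23, nat_lit 253, nat_lit 529, nat_lit 5819, nat_lit 12167, nat_lit 133837],mk [nat_lit 11, nat_lit 23, nat_lit 253, nat_lit 529, nat_lit 5819, nat_lit 12167, nat_lit 133837])]⟩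
def t315005 : TE := ⟨nat_lit 315005,nat_lit 0,nat_lit 5,[nat_lit 251],[nat_lit 5, nat_lit 251, nat_lit 1255, nat_lit 63001],mk [nat_lit 5, nat_lit 251, nat_lit 1255, nat_lit 63001],mk [nat_lit 63001],[(nat_lit 1,nat_lit 251000,[],mk []),(nat_lit 2,nat_lit 125500,[],mk []),(nat_lit 4,nat_lit 62750,[],mk []),(nat_lit 5,nat_lit 50200,[],mk []),(nat_lit 8,nat_lit 31375,[],mk []),(nat_lit 10,nat_lit 25100,[],mk [])]⟩
def t371293 : TE := ⟨nat_lit 371293,nat_lit 13,nat_lit 13,[],[nat_lit 13, nat_lit 169, nat_lit 2197, nat_lit 28561],mk [nat_lit 13, nat_lit 169, nat_lit 2197, nat_lit 28561],mk [],[(nat_lit 1,nat_lit 342732,[nat_lit 2, nat_lit 3, nat_lit 4, nat_lit 6, nat_lit 12, nat_lit 13, nat_lit 26, nat_lit 39, nat_lit 52, nat_lit 78, nat_lit 156, nat_lit 169],mk [nat_lit 2, nat_lit 3, nat_lit 4, nat_lit 6, nat_lit 12, nat_lit 13, nat_lit 26, nat_lit 39, nat_lit 52, nat_lit 78,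 nat_lit 156, nat_lit 169]),(nat_lit 2,nat_lit 171366,[nat_lit 2, nat_lit 3, nat_lit 6, nat_lit 13, nat_lit 26, nat_lit 39, nat_lit 78, nat_lit 169, nat_lit 338, nat_lit 507, nat_lit 1014, nat_lit 2197],mk [nat_lit 2, nat_lit 3, nat_lit 6, nat_lit 13, nat_lit 26, nat_lit 39, nat_lit 78, nat_lit 169, nat_lit 338, nat_lit 507, nat_lit 1014, nat_lit 2197]),(nat_lit 3,nat_lit 114244,[nat_lit 2, nat_lit 4, nat_lit 13, nat_lit 26, nat_lit 52, nat_lit 169, nat_lit 338, nat_lit 676, nat_lit 2197, nat_lit 4394, nat_lit 8788, nat_lit 28561],mk [nat_lit 2, nat_lit 4, nat_lit 13, nat_lit 26, nat_lit 52, nat_lit 169, nat_lit 338, nat_lit 676, nat_lit 2197, nat_lit 4394, nat_lit 8788, nat_lit 28561]),(nat_lit 4,nat_lit 85683,[nat_lit 3, nat_lit 13, nat_lit 39, nat_lit 169, nat_lit 507, nat_lit 2197, nat_lit 6591, nat_lit 28561, nat_lit 85683],mk [nat_lit 3, nat_lit 13, nat_lit 39, nat_lit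 169, nat_lit 507, nat_lit 2197, nat_lit 6591, nat_lit 28561, nat_lit 85683]),(nat_lit 6,nat_lit 57122,[nat_lit 2, nat_lit 13, nat_lit 26, nat_lit 169, nat_lit 338, nat_lit 2197, nat_lit 4394, nat_lit 28561, nat_lit 57122],mk [nat_lit 2, nat_lit 13, nat_lit 26, nat_lit 169, nat_lit 338, nat_lit 2197, nat_lit 4394, nat_lit 28561, nat_lit 57122])]⟩
def t390625 : TE := ⟨nat_lit 390625,nat_lit 5,nat_lit 5,[],[nat_lit 5, nat_lit 25, nat_lit 125, nat_lit 625, nat_lit 3125, nat_lit 15625, nat_lit 78125],mk [nat_lit 5, nat_lit 25, nat_lit 125, nat_lit 625, nat_lit 3125, nat_lit 15625, nat_lit 78125],mk [],[(nat_lit 1,nat_lit 312500,[nat_lit 2, nat_lit 4, nat_lit 5, nat_lit 10, nat_lit 20, nat_lit 25, nat_lit 50, nat_lit 100, nat_lit 125, nat_lit 250, nat_lit 500, nat_lit 625],mk [nat_lit 2, nat_lit 4, nat_lit 5, nat_lit 10, nat_lit 20, nat_lit 25, nat_lit 50, nat_lit 100, nat_lit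 125, nat_lit 250, nat_lit 500, nat_lit 625]),(nat_lit 2,nat_lit 156250,[nat_lit 2, nat_lit 5, nat_lit 10, nat_lit 25, nat_lit 50, nat_lit 125, nat_lit 250, nat_lit 625, nat_lit 1250, nat_lit 3125, nat_lit 6250, nat_lit 15625],mk [nat_lit 2, nat_lit 5, nat_lit 10, nat_lit 25, nat_lit 50, nat_lit 125, nat_lit 250, nat_lit 625, nat_lit 1250, nat_lit 3125, nat_lit 6250, nat_lit 15625]),(nat_lit 4,nat_lit 78125,[nat_lit 5, nat_lit 25, nat_lit 125, nat_lit 625, nat_lit 3125, nat_lit 15625, nat_lit 78125],mk [nat_lit 5, nat_lit 25, nat_lit 125, nat_lit 625, nat_lit 3125, nat_lit 15625, nat_lit 78125]),(nat_lit 5,nat_lit 62500,[nat_lit 2, nat_lit 4, nat_lit 5, nat_lit 10, nat_lit 20, nat_lit 25, nat_lit 50, nat_lit 100, nat_lit 125, nat_lit 250, nat_lit 500, nat_lit 625],mk [nat_lit 2, nat_lit 4, nat_lit 5, nat_lit 10, nat_lit 20, nat_lit 25, nat_lit 50, nat_lit 100, nat_lit 125,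 nat_lit 250, nat_lit 500, nat_lit 625]),(nat_lit 10,nat_lit 31250,[nat_lit 2, nat_lit 5, nat_lit 10, nat_lit 25, nat_lit 50, nat_lit 125, nat_lit 250, nat_lit 625, nat_lit 1250, nat_lit 3125, nat_lit 6250, nat_lit 15625],mk [nat_lit 2, nat_lit 5, nat_lit 10, nat_lit 25, nat_lit 50, nat_lit 125, nat_lit 250, nat_lit 625, nat_lit 1250, nat_lit 3125, nat_lit 6250, nat_lit 15625])]⟩
def t493039 : TE := ⟨nat_lit 493039,nat_lit 79,nat_lit 79,[],[nat_lit 79, nat_lit 6241],mk [nat_lit 79, nat_lit 6241],mk [],[(nat_lit 1,nat_lit 486798,[nat_lit 2, nat_lit 3, nat_lit 6, nat_lit 13, nat_lit 26, nat_lit 39, nat_lit 78, nat_lit 79, nat_lit 158, nat_lit 237, nat_lit 474, nat_lit 1027],mk [nat_lit 2, nat_lit 3, nat_lit 6, nat_lit 13, nat_lit 26, nat_lit 39, nat_lit 78, nat_lit 79, nat_lit 158, nat_lit 237, nat_lit 474, nat_lit 1027]),(nat_lit 2,nat_lit 243399,[nat_lit 3, nat_lit 13, nat_lit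 39, nat_lit 79, nat_lit 237, nat_lit 1027, nat_lit 3081, nat_lit 6241, nat_lit 18723, nat_lit 81133, nat_lit 243399],mk [nat_lit 3, nat_lit 13, nat_lit 39, nat_lit 79, nat_lit 237, nat_lit 1027, nat_lit 3081, nat_lit 6241, nat_lit 18723, nat_lit 81133, nat_lit 243399]),(nat_lit 3,nat_lit 162266,[nat_lit 2, nat_lit 13, nat_lit 26, nat_lit 79, nat_lit 158, nat_lit 1027, nat_lit 2054, nat_lit 6241, nat_lit 12482, nat_lit 81133, nat_lit 162266],mk [nat_lit 2, nat_lit 13, nat_lit 26, nat_lit 79, nat_lit 158, nat_lit 1027, nat_lit 2054, nat_lit 6241, nat_lit 12482, nat_lit 81133, nat_lit 162266]),(nat_lit 6,nat_lit 81133,[nat_lit 13, nat_lit 79, nat_lit 1027, nat_lit 6241, nat_lit 81133],mk [nat_lit 13, nat_lit 79, nat_lit 1027, nat_lit 6241, nat_lit 81133])]⟩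
def t707281 : TE := ⟨nat_lit 707281,nat_lit 29,nat_lit 29,[],[nat_lit 29, nat_lit 841, nat_lit 24389],mk [nat_lit 29, nat_lit 841, nat_lit 24389],mk [],[(nat_lit 1,nat_lit 682892,[nat_lit 2, nat_lit 4, nat_lit 7, nat_lit 14, nat_lit 28, nat_lit 29, nat_lit 58, nat_lit 116, nat_lit 203, nat_lit 406, nat_lit 812, nat_lit 841],mk [nat_lit 2, nat_lit 4, nat_lit 7, nat_lit 14, nat_lit 28, nat_lit 29, nat_lit 58, nat_lit 116, nat_lit 203, nat_lit 406, nat_lit 812, nat_lit 841]),(nat_lit 2,nat_lit 341446,[nat_lit 2, nat_lit 7, nat_lit 14, nat_lit 29, nat_lit 58, nat_lit 203, nat_lit 406, nat_lit 841, nat_lit 1682, nat_lit 5887, nat_lit 11774, nat_lit 24389],mk [nat_lit 2, nat_lit 7, nat_lit 14, nat_lit 29, nat_lit 58, nat_lit 203, nat_lit 406, nat_lit 841, nat_lit 1682, nat_lit 5887, nat_lit 11774, nat_lit 24389]),(nat_lit 4,nat_lit 170723,[nat_lit 7, nat_lit 29, nat_lit 203, nat_lit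 841, nat_lit 5887, nat_lit 24389, nat_lit 170723],mk [nat_lit 7, nat_lit 29, nat_lit 203, nat_lit 841, nat_lit 5887, nat_lit 24389, nat_lit 170723]),(nat_lit 7,nat_lit 97556,[nat_lit 2, nat_lit 4, nat_lit 29, nat_lit 58, nat_lit 116, nat_lit 841, nat_lit 1682, nat_lit 3364, nat_lit 24389, nat_lit 48778, nat_lit 97556],mk [nat_lit 2, nat_lit 4, nat_lit 29, nat_lit 58, nat_lit 116, nat_lit 841, nat_lit 1682, nat_lit 3364, nat_lit 24389, nat_lit 48778, nat_lit 97556])]⟩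
def t823543 : TE := ⟨nat_lit 823543,nat_lit 7,nat_lit 7,[],[nat_lit 7, nat_lit 49, nat_lit 343, nat_lit 2401, nat_lit 16807, nat_lit 117649],mk [nat_lit 7, nat_lit 49, nat_lit 343, nat_lit 2401, nat_lit 16807, nat_lit 117649],mk [],[(nat_lit 1,nat_lit 705894,[nat_lit 2, nat_lit 3, nat_lit 6, nat_lit 7, nat_lit 14, nat_lit 21, nat_lit 42, nat_lit 49, nat_lit 98, nat_lit 147, nat_lit 294, nat_lit 343],mk [nat_lit 2, nat_lit 3, nat_lit 6, nat_lit 7, nat_lit 14, nat_lit 21, nat_lit 42, nat_lit 49, nat_lit 98, nat_lit 147, nat_lit 294, nat_lit 343]),(nat_lit 2,nat_lit 352947,[nat_lit 3, nat_lit 7, nat_lit 21, nat_lit 49, nat_lit 147, nat_lit 343, nat_lit 1029, nat_lit 2401, nat_lit 7203, nat_lit 16807, nat_lit 50421, nat_lit 117649],mk [nat_lit 3, nat_lit 7, nat_lit 21, nat_lit 49, nat_lit 147, nat_lit 343, nat_lit 1029, nat_lit 2401, nat_lit 7203, nat_lit 16807, nat_lit 50421,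 nat_lit 117649]),(nat_lit 3,nat_lit 235298,[nat_lit 2, nat_lit 7, nat_lit 14, nat_lit 49, nat_lit 98, nat_lit 343, nat_lit 686, nat_lit 2401, nat_lit 4802, nat_lit 16807, nat_lit 33614, nat_lit 117649],mk [nat_lit 2, nat_lit 7, nat_lit 14, nat_lit 49, nat_lit 98, nat_lit 343, nat_lit 686, nat_lit 2401, nat_lit 4802, nat_lit 16807, nat_lit 33614, nat_lit 117649]),(nat_lit 6,nat_lit 117649,[nat_lit 7, nat_lit 49, nat_lit 343, nat_lit 2401, nat_lit 16807, nat_lit 117649],mk [nat_lit 7, nat_lit 49, nat_lit 343, nat_lit 2401, nat_lit 16807, nat_lit 117649]),(nat_lit 7,nat_lit 100842,[nat_lit 2, nat_lit 3, nat_lit 6, nat_lit 7, nat_lit 14, nat_lit 21, nat_lit 42, nat_lit 49, nat_lit 98, nat_lit 147, nat_lit 294, nat_lit 343],mk [nat_lit 2, nat_lit 3, nat_lit 6, nat_lit 7, nat_lit 14, nat_lit 21, nat_lit 42, nat_lit 49, nat_lit 98, nat_lit 147, nat_lit 294, nat_lit 343])]⟩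
def t912673 : TE := ⟨nat_lit 912673,nat_lit 97,nat_lit 97,[],[nat_lit 97, nat_lit 9409],mk [nat_lit 97, nat_lit 9409],mk [],[(nat_lit 1,nat_lit 903264,[nat_lit 2, nat_lit 3, nat_lit 4, nat_lit 6, nat_lit 8, nat_lit 12, nat_lit 16, nat_lit 24, nat_lit 32, nat_lit 48, nat_lit 96, nat_lit 97],mk [nat_lit 2, nat_lit 3, nat_lit 4, nat_lit 6, nat_lit 8, nat_lit 12, nat_lit 16, nat_lit 24, nat_lit 32, nat_lit 48, nat_lit 96, nat_lit 97]),(nat_lit 2,nat_lit 451632,[nat_lit 2, nat_lit 3, nat_lit 4, nat_lit 6, nat_lit 8, nat_lit 12, nat_lit 16, nat_lit 24, nat_lit 48, nat_lit 97, nat_lit 194, nat_lit 291],mk [nat_lit 2, nat_lit 3, nat_lit 4, nat_lit 6, nat_lit 8, nat_lit 12, nat_lit 16, nat_lit 24, nat_lit 48, nat_lit 97, nat_lit 194, nat_lit 291]),(nat_lit 3,nat_lit 301088,[nat_lit 2, nat_lit 4, nat_lit 8, nat_lit 16, nat_lit 32, nat_lit 97, nat_lit 194, nat_lit 388, nat_lit 776,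 nat_lit 1552, nat_lit 3104, nat_lit 9409],mk [nat_lit 2, nat_lit 4, nat_lit 8, nat_lit 16, nat_lit 32, nat_lit 97, nat_lit 194, nat_lit 388, nat_lit 776, nat_lit 1552, nat_lit 3104, nat_lit 9409]),(nat_lit 4,nat_lit 225816,[nat_lit 2, nat_lit 3, nat_lit 4, nat_lit 6, nat_lit 8, nat_lit 12, nat_lit 24, nat_lit 97, nat_lit 194, nat_lit 291, nat_lit 388, nat_lit 582],mk [nat_lit 2, nat_lit 3, nat_lit 4, nat_lit 6, nat_lit 8, nat_lit 12, nat_lit 24, nat_lit 97, nat_lit 194, nat_lit 291, nat_lit 388, nat_lit 582]),(nat_lit 6,nat_lit 150544,[nat_lit 2, nat_lit 4, nat_lit 8, nat_lit 16, nat_lit 97, nat_lit 194, nat_lit 388, nat_lit 776, nat_lit 1552, nat_lit 9409, nat_lit 18818, nat_lit 37636],mk [nat_lit 2, nat_lit 4, nat_lit 8, nat_lit 16, nat_lit 97, nat_lit 194, nat_lit 388, nat_lit 776, nat_lit 1552, nat_lit 9409, nat_lit 18818, nat_lit 37636]),(nat_lit 8,nat_lit 112908,[nat_lit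 2, nat_lit 3, nat_lit 4, nat_lit 6, nat_lit 12, nat_lit 97, nat_lit 194, nat_lit 291, nat_lit 388, nat_lit 582, nat_lit 1164, nat_lit 9409],mk [nat_lit 2, nat_lit 3, nat_lit 4, nat_lit 6, nat_lit 12, nat_lit 97, nat_lit 194, nat_lit 291, nat_lit 388, nat_lit 582, nat_lit 1164, nat_lit 9409])]⟩
def t923521 : TE := ⟨nat_lit 923521,nat_lit 31,nat_lit 31,[],[nat_lit 31, nat_lit 961, nat_lit 29791],mk [nat_lit 31, nat_lit 961, nat_lit 29791],mk [],[(nat_lit 1,nat_lit 893730,[nat_lit 2, nat_lit 3, nat_lit 5, nat_lit 6, nat_lit 10, nat_lit 15, nat_lit 30, nat_lit 31, nat_lit 62, nat_lit 93, nat_lit 155, nat_lit 186],mk [nat_lit 2, nat_lit 3, nat_lit 5, nat_lit 6, nat_lit 10, nat_lit 15, nat_lit 30, nat_lit 31, nat_lit 62, nat_lit 93, nat_lit 155, nat_lit 186]),(nat_lit 2,nat_lit 446865,[nat_lit 3, nat_lit 5, nat_lit 15, nat_lit 31, nat_lit 93, nat_lit 155, nat_lit 465, nat_lit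 961, nat_lit 2883, nat_lit 4805, nat_lit 14415, nat_lit 29791],mk [nat_lit 3, nat_lit 5, nat_lit 15, nat_lit 31, nat_lit 93, nat_lit 155, nat_lit 465, nat_lit 961, nat_lit 2883, nat_lit 4805, nat_lit 14415, nat_lit 29791]),(nat_lit 3,nat_lit 297910,[nat_lit 2, nat_lit 5, nat_lit 10, nat_lit 31, nat_lit 62, nat_lit 155, nat_lit 310, nat_lit 961, nat_lit 1922, nat_lit 4805, nat_lit 9610, nat_lit 29791],mk [nat_lit 2, nat_lit 5, nat_lit 10, nat_lit 31, nat_lit 62, nat_lit 155, nat_lit 310, nat_lit 961, nat_lit 1922, nat_lit 4805, nat_lit 9610, nat_lit 29791]),(nat_lit 5,nat_lit 178746,[nat_lit 2, nat_lit 3, nat_lit 6, nat_lit 31, nat_lit 62, nat_lit 93, nat_lit 186, nat_lit 961, nat_lit 1922, nat_lit 2883, nat_lit 5766, nat_lit 29791],mk [nat_lit 2, nat_lit 3, nat_lit 6, nat_lit 31, nat_lit 62, nat_lit 93, nat_lit 186, nat_lit 961, nat_lit 1922, nat_lit 2883, nat_lit 5766,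 nat_lit 29791]),(nat_lit 6,nat_lit 148955,[nat_lit 5, nat_lit 31, nat_lit 155, nat_lit 961, nat_lit 4805, nat_lit 29791, nat_lit 148955],mk [nat_lit 5, nat_lit 31, nat_lit 155, nat_lit 961, nat_lit 4805, nat_lit 29791, nat_lit 148955]),(nat_lit 10,nat_lit 89373,[nat_lit 3, nat_lit 31, nat_lit 93, nat_lit 961, nat_lit 2883, nat_lit 29791, nat_lit 89373],mk [nat_lit 3, nat_lit 31, nat_lit 93, nat_lit 961, nat_lit 2883, nat_lit 29791, nat_lit 89373])]⟩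
def t1030301 : TE := ⟨nat_lit 1030301,nat_lit 101,nat_lit 101,[],[nat_lit 101, nat_lit 10201],mk [nat_lit 101, nat_lit 10201],mk [],[(nat_lit 1,nat_lit 1020100,[nat_lit 2, nat_lit 4, nat_lit 5, nat_lit 10, nat_lit 20, nat_lit 25, nat_lit 50, nat_lit 100, nat_lit 101, nat_lit 202, nat_lit 404, nat_lit 505],mk [nat_lit 2, nat_lit 4, nat_lit 5, nat_lit 10, nat_lit 20, nat_lit 25, nat_lit 50, nat_lit 100, nat_lit 101, nat_lit 202, nat_lit 404, nat_lit 505]),(nat_lit 2,nat_lit 510050,[nat_lit 2, nat_lit 5, nat_lit 10, nat_lit 25, nat_lit 50, nat_lit 101, nat_lit 202, nat_lit 505, nat_lit 1010, nat_lit 2525, nat_lit 5050, nat_lit 10201],mk [nat_lit 2, nat_lit 5, nat_lit 10, nat_lit 25, nat_lit 50, nat_lit 101, nat_lit 202, nat_lit 505, nat_lit 1010, nat_lit 2525, nat_lit 5050, nat_lit 10201]),(nat_lit 4,nat_lit 255025,[nat_lit 5, nat_lit 25, nat_lit 101, nat_lit 505, nat_lit 2525,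 nat_lit 10201, nat_lit 51005, nat_lit 255025],mk [nat_lit 5, nat_lit 25, nat_lit 101, nat_lit 505, nat_lit 2525, nat_lit 10201, nat_lit 51005, nat_lit 255025]),(nat_lit 5,nat_lit 204020,[nat_lit 2, nat_lit 4, nat_lit 5, nat_lit 10, nat_lit 20, nat_lit 101, nat_lit 202, nat_lit 404, nat_lit 505, nat_lit 1010, nat_lit 2020, nat_lit 10201],mk [nat_lit 2, nat_lit 4, nat_lit 5, nat_lit 10, nat_lit 20, nat_lit 101, nat_lit 202, nat_lit 404, nat_lit 505, nat_lit 1010, nat_lit 2020, nat_lit 10201]),(nat_lit 10,nat_lit 102010,[nat_lit 2, nat_lit 5, nat_lit 10, nat_lit 101, nat_lit 202, nat_lit 505, nat_lit 1010, nat_lit 10201, nat_lit 20402, nat_lit 51005, nat_lit 102010],mk [nat_lit 2, nat_lit 5, nat_lit 10, nat_lit 101, nat_lit 202, nat_lit 505, nat_lit 1010, nat_lit 10201, nat_lit 20402, nat_lit 51005, nat_lit 102010])]⟩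
def t1295029 : TE := ⟨nat_lit 1295029,nat_lit 109,nat_lit 109,[],[nat_lit 109, nat_lit 11881],mk [nat_lit 109, nat_lit 11881],mk [],[(nat_lit 1,nat_lit 1283148,[nat_lit 2, nat_lit 3, nat_lit 4, nat_lit 6, nat_lit 9, nat_lit 12, nat_lit 18, nat_lit 27, nat_lit 36, nat_lit 54, nat_lit 108, nat_lit 109],mk [nat_lit 2, nat_lit 3, nat_lit 4, nat_lit 6, nat_lit 9, nat_lit 12, nat_lit 18, nat_lit 27, nat_lit 36, nat_lit 54, nat_lit 108, nat_lit 109]),(nat_lit 2,nat_lit 641574,[nat_lit 2, nat_lit 3, nat_lit 6, nat_lit 9, nat_lit 18, nat_lit 27, nat_lit 54, nat_lit 109, nat_lit 218, nat_lit 327, nat_lit 654, nat_lit 981],mk [nat_lit 2, nat_lit 3, nat_lit 6, nat_lit 9, nat_lit 18, nat_lit 27, nat_lit 54, nat_lit 109, nat_lit 218, nat_lit 327, nat_lit 654, nat_lit 981]),(nat_lit 3,nat_lit 427716,[nat_lit 2, nat_lit 3, nat_lit 4, nat_lit 6, nat_lit 9, nat_lit 12, nat_lit 18, nat_lit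 36, nat_lit 109, nat_lit 218, nat_lit 327, nat_lit 436],mk [nat_lit 2, nat_lit 3, nat_lit 4, nat_lit 6, nat_lit 9, nat_lit 12, nat_lit 18, nat_lit 36, nat_lit 109, nat_lit 218, nat_lit 327, nat_lit 436]),(nat_lit 4,nat_lit 320787,[nat_lit 3, nat_lit 9, nat_lit 27, nat_lit 109, nat_lit 327, nat_lit 981, nat_lit 2943, nat_lit 11881, nat_lit 35643, nat_lit 106929, nat_lit 320787],mk [nat_lit 3, nat_lit 9, nat_lit 27, nat_lit 109, nat_lit 327, nat_lit 981, nat_lit 2943, nat_lit 11881, nat_lit 35643, nat_lit 106929, nat_lit 320787]),(nat_lit 6,nat_lit 213858,[nat_lit 2, nat_lit 3, nat_lit 6, nat_lit 9, nat_lit 18, nat_lit 109, nat_lit 218, nat_lit 327, nat_lit 654, nat_lit 981, nat_lit 1962, nat_lit 11881],mk [nat_lit 2, nat_lit 3, nat_lit 6, nat_lit 9, nat_lit 18, nat_lit 109, nat_lit 218, nat_lit 327, nat_lit 654, nat_lit 981, nat_lit 1962, nat_lit 11881]),(nat_lit 9,nat_lit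 142572,[nat_lit 2, nat_lit 3, nat_lit 4, nat_lit 6, nat_lit 12, nat_lit 109, nat_lit 218, nat_lit 327, nat_lit 436, nat_lit 654, nat_lit 1308, nat_lit 11881],mk [nat_lit 2, nat_lit 3, nat_lit 4, nat_lit 6, nat_lit 12, nat_lit 109, nat_lit 218, nat_lit 327, nat_lit 436, nat_lit 654, nat_lit 1308, nat_lit 11881])]⟩
def t1419857 : TE := ⟨nat_lit 1419857,nat_lit 17,nat_lit 17,[],[nat_lit 17, nat_lit 289, nat_lit 4913, nat_lit 83521],mk [nat_lit 17, nat_lit 289, nat_lit 4913, nat_lit 83521],mk [],[(nat_lit 1,nat_lit 1336336,[nat_lit 2, nat_lit 4, nat_lit 8, nat_lit 16, nat_lit 17, nat_lit 34, nat_lit 68, nat_lit 136, nat_lit 272, nat_lit 289, nat_lit 578, nat_lit 1156],mk [nat_lit 2, nat_lit 4, nat_lit 8, nat_lit 16, nat_lit 17, nat_lit 34, nat_lit 68, nat_lit 136, nat_lit 272, nat_lit 289, nat_lit 578, nat_lit 1156]),(nat_lit 2,nat_lit 668168,[nat_lit 2, nat_lit 4, nat_lit 8,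 nat_lit 17, nat_lit 34, nat_lit 68, nat_lit 136, nat_lit 289, nat_lit 578, nat_lit 1156, nat_lit 2312, nat_lit 4913],mk [nat_lit 2, nat_lit 4, nat_lit 8, nat_lit 17, nat_lit 34, nat_lit 68, nat_lit 136, nat_lit 289, nat_lit 578, nat_lit 1156, nat_lit 2312, nat_lit 4913]),(nat_lit 4,nat_lit 334084,[nat_lit 2, nat_lit 4, nat_lit 17, nat_lit 34, nat_lit 68, nat_lit 289, nat_lit 578, nat_lit 1156, nat_lit 4913, nat_lit 9826, nat_lit 19652, nat_lit 83521],mk [nat_lit 2, nat_lit 4, nat_lit 17, nat_lit 34, nat_lit 68, nat_lit 289, nat_lit 578, nat_lit 1156, nat_lit 4913, nat_lit 9826, nat_lit 19652, nat_lit 83521]),(nat_lit 8,nat_lit 167042,[nat_lit 2, nat_lit 17, nat_lit 34, nat_lit 289, nat_lit 578, nat_lit 4913, nat_lit 9826, nat_lit 83521, nat_lit 167042],mk [nat_lit 2, nat_lit 17, nat_lit 34, nat_lit 289, nat_lit 578, nat_lit 4913, nat_lit 9826, nat_lit 83521, nat_lit 167042])]⟩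
def t1771561 : TE := ⟨nat_lit 1771561,nat_lit 11,nat_lit 11,[],[nat_lit 11, nat_lit 121, nat_lit 1331, nat_lit 14641, nat_lit 161051],mk [nat_lit 11, nat_lit 121, nat_lit 1331, nat_lit 14641, nat_lit 161051],mk [],[(nat_lit 1,nat_lit 1610510,[nat_lit 2, nat_lit 5, nat_lit 10, nat_lit 11, nat_lit 22, nat_lit 55, nat_lit 110, nat_lit 121, nat_lit 242, nat_lit 605, nat_lit 1210, nat_lit 1331],mk [nat_lit 2, nat_lit 5, nat_lit 10, nat_lit 11, nat_lit 22, nat_lit 55, nat_lit 110, nat_lit 121, nat_lit 242, nat_lit 605, nat_lit 1210, nat_lit 1331]),(nat_lit 2,nat_lit 805255,[nat_lit 5, nat_lit 11, nat_lit 55, nat_lit 121, nat_lit 605, nat_lit 1331, nat_lit 6655, nat_lit 14641, nat_lit 73205, nat_lit 161051, nat_lit 805255],mk [nat_lit 5, nat_lit 11, nat_lit 55, nat_lit 121, nat_lit 605, nat_lit 1331, nat_lit 6655, nat_lit 14641, nat_lit 73205, nat_lit 161051, nat_lit 805255]),(nat_lit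 5,nat_lit 322102,[nat_lit 2, nat_lit 11, nat_lit 22, nat_lit 121, nat_lit 242, nat_lit 1331, nat_lit 2662, nat_lit 14641, nat_lit 29282, nat_lit 161051, nat_lit 322102],mk [nat_lit 2, nat_lit 11, nat_lit 22, nat_lit 121, nat_lit 242, nat_lit 1331, nat_lit 2662, nat_lit 14641, nat_lit 29282, nat_lit 161051, nat_lit 322102]),(nat_lit 10,nat_lit 161051,[nat_lit 11, nat_lit 121, nat_lit 1331, nat_lit 14641, nat_lit 161051],mk [nat_lit 11, nat_lit 121, nat_lit 1331, nat_lit 14641, nat_lit 161051])]⟩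
def t1874161 : TE := ⟨nat_lit 1874161,nat_lit 37,nat_lit 37,[],[nat_lit 37, nat_lit 1369, nat_lit 50653],mk [nat_lit 37, nat_lit 1369, nat_lit 50653],mk [],[(nat_lit 1,nat_lit 1823508,[nat_lit 2, nat_lit 3, nat_lit 4, nat_lit 6, nat_lit 9, nat_lit 12, nat_lit 18, nat_lit 36, nat_lit 37, nat_lit 74, nat_lit 111, nat_lit 148],mk [nat_lit 2, nat_lit 3, nat_lit 4, nat_lit 6, nat_lit 9, nat_lit 12, nat_lit 18, nat_lit 36, nat_lit 37, nat_lit 74, nat_lit 111, nat_lit 148]),(nat_lit 2,nat_lit 911754,[nat_lit 2, nat_lit 3, nat_lit 6, nat_lit 9, nat_lit 18, nat_lit 37, nat_lit 74, nat_lit 111, nat_lit 222, nat_lit 333, nat_lit 666, nat_lit 1369],mk [nat_lit 2, nat_lit 3, nat_lit 6, nat_lit 9, nat_lit 18, nat_lit 37, nat_lit 74, nat_lit 111, nat_lit 222, nat_lit 333, nat_lit 666, nat_lit 1369]),(nat_lit 3,nat_lit 607836,[nat_lit 2, nat_lit 3, nat_lit 4, nat_lit 6, nat_lit 12, nat_lit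 37, nat_lit 74, nat_lit 111, nat_lit 148, nat_lit 222, nat_lit 444, nat_lit 1369],mk [nat_lit 2, nat_lit 3, nat_lit 4, nat_lit 6, nat_lit 12, nat_lit 37, nat_lit 74, nat_lit 111, nat_lit 148, nat_lit 222, nat_lit 444, nat_lit 1369]),(nat_lit 4,nat_lit 455877,[nat_lit 3, nat_lit 9, nat_lit 37, nat_lit 111, nat_lit 333, nat_lit 1369, nat_lit 4107, nat_lit 12321, nat_lit 50653, nat_lit 151959, nat_lit 455877],mk [nat_lit 3, nat_lit 9, nat_lit 37, nat_lit 111, nat_lit 333, nat_lit 1369, nat_lit 4107, nat_lit 12321, nat_lit 50653, nat_lit 151959, nat_lit 455877]),(nat_lit 6,nat_lit 303918,[nat_lit 2, nat_lit 3, nat_lit 6, nat_lit 37, nat_lit 74, nat_lit 111, nat_lit 222, nat_lit 1369, nat_lit 2738, nat_lit 4107, nat_lit 8214, nat_lit 50653],mk [nat_lit 2, nat_lit 3, nat_lit 6, nat_lit 37, nat_lit 74, nat_lit 111, nat_lit 222, nat_lit 1369, nat_lit 2738, nat_lit 4107, nat_lit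 8214, nat_lit 50653]),(nat_lit 9,nat_lit 202612,[nat_lit 2, nat_lit 4, nat_lit 37, nat_lit 74, nat_lit 148, nat_lit 1369, nat_lit 2738, nat_lit 5476, nat_lit 50653, nat_lit 101306, nat_lit 202612],mk [nat_lit 2, nat_lit 4, nat_lit 37, nat_lit 74, nat_lit 148, nat_lit 1369, nat_lit 2738, nat_lit 5476, nat_lit 50653, nat_lit 101306, nat_lit 202612])]⟩
def t2128681 : TE := ⟨nat_lit 2128681,nat_lit 1459,nat_lit 1459,[],[nat_lit 1459],mk [nat_lit 1459],mk [],[(nat_lit 1,nat_lit 2127222,[nat_lit 2, nat_lit 3, nat_lit 6, nat_lit 9, nat_lit 18, nat_lit 27, nat_lit 54, nat_lit 81, nat_lit 162, nat_lit 243, nat_lit 486, nat_lit 729],mk [nat_lit 2, nat_lit 3, nat_lit 6, nat_lit 9, nat_lit 18, nat_lit 27, nat_lit 54, nat_lit 81, nat_lit 162, nat_lit 243, nat_lit 486, nat_lit 729]),(nat_lit 2,nat_lit 1063611,[nat_lit 3, nat_lit 9, nat_lit 27, nat_lit 81, nat_lit 243, nat_lit 729, nat_lit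 1459, nat_lit 4377, nat_lit 13131, nat_lit 39393, nat_lit 118179, nat_lit 354537],mk [nat_lit 3, nat_lit 9, nat_lit 27, nat_lit 81, nat_lit 243, nat_lit 729, nat_lit 1459, nat_lit 4377, nat_lit 13131, nat_lit 39393, nat_lit 118179, nat_lit 354537]),(nat_lit 3,nat_lit 709074,[nat_lit 2, nat_lit 3, nat_lit 6, nat_lit 9, nat_lit 18, nat_lit 27, nat_lit 54, nat_lit 81, nat_lit 162, nat_lit 243, nat_lit 486, nat_lit 1459],mk [nat_lit 2, nat_lit 3, nat_lit 6, nat_lit 9, nat_lit 18, nat_lit 27, nat_lit 54, nat_lit 81, nat_lit 162, nat_lit 243, nat_lit 486, nat_lit 1459]),(nat_lit 6,nat_lit 354537,[nat_lit 3, nat_lit 9, nat_lit 27, nat_lit 81, nat_lit 243, nat_lit 1459, nat_lit 4377, nat_lit 13131, nat_lit 39393, nat_lit 118179, nat_lit 354537],mk [nat_lit 3, nat_lit 9, nat_lit 27, nat_lit 81, nat_lit 243, nat_lit 1459, nat_lit 4377, nat_lit 13131, nat_lit 39393, nat_lit 118179,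 nat_lit 354537]),(nat_lit 9,nat_lit 236358,[nat_lit 2, nat_lit 3, nat_lit 6, nat_lit 9, nat_lit 18, nat_lit 27, nat_lit 54, nat_lit 81, nat_lit 162, nat_lit 1459, nat_lit 2918, nat_lit 4377],mk [nat_lit 2, nat_lit 3, nat_lit 6, nat_lit 9, nat_lit 18, nat_lit 27, nat_lit 54, nat_lit 81, nat_lit 162, nat_lit 1459, nat_lit 2918, nat_lit 4377])]⟩
def t2476099 : TE := ⟨nat_lit 2476099,nat_lit 19,nat_lit 19,[],[nat_lit 19, nat_lit 361, nat_lit 6859, nat_lit 130321],mk [nat_lit 19, nat_lit 361, nat_lit 6859, nat_lit 130321],mk [],[(nat_lit 1,nat_lit 2345778,[nat_lit 2, nat_lit 3, nat_lit 6, nat_lit 9, nat_lit 18, nat_lit 19, nat_lit 38, nat_lit 57, nat_lit 114, nat_lit 171, nat_lit 342, nat_lit 361],mk [nat_lit 2, nat_lit 3, nat_lit 6, nat_lit 9, nat_lit 18, nat_lit 19, nat_lit 38, nat_lit 57, nat_lit 114, nat_lit 171, nat_lit 342, nat_lit 361]),(nat_lit 2,nat_lit 1172889,[nat_lit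 3, nat_lit 9, nat_lit 19, nat_lit 57, nat_lit 171, nat_lit 361, nat_lit 1083, nat_lit 3249, nat_lit 6859, nat_lit 20577, nat_lit 61731, nat_lit 130321],mk [nat_lit 3, nat_lit 9, nat_lit 19, nat_lit 57, nat_lit 171, nat_lit 361, nat_lit 1083, nat_lit 3249, nat_lit 6859, nat_lit 20577, nat_lit 61731, nat_lit 130321]),(nat_lit 3,nat_lit 781926,[nat_lit 2, nat_lit 3, nat_lit 6, nat_lit 19, nat_lit 38, nat_lit 57, nat_lit 114, nat_lit 361, nat_lit 722, nat_lit 1083, nat_lit 2166, nat_lit 6859],mk [nat_lit 2, nat_lit 3, nat_lit 6, nat_lit 19, nat_lit 38, nat_lit 57, nat_lit 114, nat_lit 361, nat_lit 722, nat_lit 1083, nat_lit 2166, nat_lit 6859]),(nat_lit 6,nat_lit 390963,[nat_lit 3, nat_lit 19, nat_lit 57, nat_lit 361, nat_lit 1083, nat_lit 6859, nat_lit 20577, nat_lit 130321, nat_lit 390963],mk [nat_lit 3, nat_lit 19, nat_lit 57, nat_lit 361, nat_lit 1083, nat_lit 6859, nat_lit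 20577, nat_lit 130321, nat_lit 390963]),(nat_lit 9,nat_lit 260642,[nat_lit 2, nat_lit 19, nat_lit 38, nat_lit 361, nat_lit 722, nat_lit 6859, nat_lit 13718, nat_lit 130321, nat_lit 260642],mk [nat_lit 2, nat_lit 19, nat_lit 38, nat_lit 361, nat_lit 722, nat_lit 6859, nat_lit 13718, nat_lit 130321, nat_lit 260642])]⟩
def t2825761 : TE := ⟨nat_lit 2825761,nat_lit 41,nat_lit 41,[],[nat_lit 41, nat_lit 1681, nat_lit 68921],mk [nat_lit 41, nat_lit 1681, nat_lit 68921],mk [],[(nat_lit 1,nat_lit 2756840,[nat_lit 2, nat_lit 4, nat_lit 5, nat_lit 8, nat_lit 10, nat_lit 20, nat_lit 40, nat_lit 41, nat_lit 82, nat_lit 164, nat_lit 205, nat_lit 328],mk [nat_lit 2, nat_lit 4, nat_lit 5, nat_lit 8, nat_lit 10, nat_lit 20, nat_lit 40, nat_lit 41, nat_lit 82, nat_lit 164, nat_lit 205, nat_lit 328]),(nat_lit 2,nat_lit 1378420,[nat_lit 2, nat_lit 4, nat_lit 5, nat_lit 10, nat_lit 20, nat_lit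 41, nat_lit 82, nat_lit 164, nat_lit 205, nat_lit 410, nat_lit 820, nat_lit 1681],mk [nat_lit 2, nat_lit 4, nat_lit 5, nat_lit 10, nat_lit 20, nat_lit 41, nat_lit 82, nat_lit 164, nat_lit 205, nat_lit 410, nat_lit 820, nat_lit 1681]),(nat_lit 4,nat_lit 689210,[nat_lit 2, nat_lit 5, nat_lit 10, nat_lit 41, nat_lit 82, nat_lit 205, nat_lit 410, nat_lit 1681, nat_lit 3362, nat_lit 8405, nat_lit 16810, nat_lit 68921],mk [nat_lit 2, nat_lit 5, nat_lit 10, nat_lit 41, nat_lit 82, nat_lit 205, nat_lit 410, nat_lit 1681, nat_lit 3362, nat_lit 8405, nat_lit 16810, nat_lit 68921]),(nat_lit 5,nat_lit 551368,[nat_lit 2, nat_lit 4, nat_lit 8, nat_lit 41, nat_lit 82, nat_lit 164, nat_lit 328, nat_lit 1681, nat_lit 3362, nat_lit 6724, nat_lit 13448, nat_lit 68921],mk [nat_lit 2, nat_lit 4, nat_lit 8, nat_lit 41, nat_lit 82, nat_lit 164, nat_lit 328, nat_lit 1681, nat_lit 3362, nat_lit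 6724, nat_lit 13448, nat_lit 68921]),(nat_lit 8,nat_lit 344605,[nat_lit 5, nat_lit 41, nat_lit 205, nat_lit 1681, nat_lit 8405, nat_lit 68921, nat_lit 344605],mk [nat_lit 5, nat_lit 41, nat_lit 205, nat_lit 1681, nat_lit 8405, nat_lit 68921, nat_lit 344605]),(nat_lit 10,nat_lit 275684,[nat_lit 2, nat_lit 4, nat_lit 41, nat_lit 82, nat_lit 164, nat_lit 1681, nat_lit 3362, nat_lit 6724, nat_lit 68921, nat_lit 137842, nat_lit 275684],mk [nat_lit 2, nat_lit 4, nat_lit 41, nat_lit 82, nat_lit 164, nat_lit 1681, nat_lit 3362, nat_lit 6724, nat_lit 68921, nat_lit 137842, nat_lit 275684])]⟩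
def t3418801 : TE := ⟨nat_lit 3418801,nat_lit 43,nat_lit 43,[],[nat_lit 43, nat_lit 1849, nat_lit 79507],mk [nat_lit 43, nat_lit 1849, nat_lit 79507],mk [],[(nat_lit 1,nat_lit 3339294,[nat_lit 2, nat_lit 3, nat_lit 6, nat_lit 7, nat_lit 14, nat_lit 21, nat_lit 42, nat_lit 43, nat_lit 86, nat_lit 129, nat_lit 258, nat_lit 301],mk [nat_lit 2, nat_lit 3, nat_lit 6, nat_lit 7, nat_lit 14, nat_lit 21, nat_lit 42, nat_lit 43, nat_lit 86, nat_lit 129, nat_lit 258, nat_lit 301]),(nat_lit 2,nat_lit 1669647,[nat_lit 3, nat_lit 7, nat_lit 21, nat_lit 43, nat_lit 129, nat_lit 301, nat_lit 903, nat_lit 1849, nat_lit 5547, nat_lit 12943, nat_lit 38829, nat_lit 79507],mk [nat_lit 3, nat_lit 7, nat_lit 21, nat_lit 43, nat_lit 129, nat_lit 301, nat_lit 903, nat_lit 1849, nat_lit 5547, nat_lit 12943, nat_lit 38829, nat_lit 79507]),(nat_lit 3,nat_lit 1113098,[nat_lit 2, nat_lit 7, nat_lit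 14, nat_lit 43, nat_lit 86, nat_lit 301, nat_lit 602, nat_lit 1849, nat_lit 3698, nat_lit 12943, nat_lit 25886, nat_lit 79507],mk [nat_lit 2, nat_lit 7, nat_lit 14, nat_lit 43, nat_lit 86, nat_lit 301, nat_lit 602, nat_lit 1849, nat_lit 3698, nat_lit 12943, nat_lit 25886, nat_lit 79507]),(nat_lit 6,nat_lit 556549,[nat_lit 7, nat_lit 43, nat_lit 301, nat_lit 1849, nat_lit 12943, nat_lit 79507, nat_lit 556549],mk [nat_lit 7, nat_lit 43, nat_lit 301, nat_lit 1849, nat_lit 12943, nat_lit 79507, nat_lit 556549]),(nat_lit 7,nat_lit 477042,[nat_lit 2, nat_lit 3, nat_lit 6, nat_lit 43, nat_lit 86, nat_lit 129, nat_lit 258, nat_lit 1849, nat_lit 3698, nat_lit 5547, nat_lit 11094, nat_lit 79507],mk [nat_lit 2, nat_lit 3, nat_lit 6, nat_lit 43, nat_lit 86, nat_lit 129, nat_lit 258, nat_lit 1849, nat_lit 3698, nat_lit 5547, nat_lit 11094, nat_lit 79507])]⟩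
def t4330747 : TE := ⟨nat_lit 4330747,nat_lit 163,nat_lit 163,[],[nat_lit 163, nat_lit 26569],mk [nat_lit 163, nat_lit 26569],mk [],[(nat_lit 1,nat_lit 4304178,[nat_lit 2, nat_lit 3, nat_lit 6, nat_lit 9, nat_lit 18, nat_lit 27, nat_lit 54, nat_lit 81, nat_lit 162, nat_lit 163, nat_lit 326, nat_lit 489],mk [nat_lit 2, nat_lit 3, nat_lit 6, nat_lit 9, nat_lit 18, nat_lit 27, nat_lit 54, nat_lit 81, nat_lit 162, nat_lit 163, nat_lit 326, nat_lit 489]),(nat_lit 2,nat_lit 2152089,[nat_lit 3, nat_lit 9, nat_lit 27, nat_lit 81, nat_lit 163, nat_lit 489, nat_lit 1467, nat_lit 4401, nat_lit 13203, nat_lit 26569, nat_lit 79707, nat_lit 239121],mk [nat_lit 3, nat_lit 9, nat_lit 27, nat_lit 81, nat_lit 163, nat_lit 489, nat_lit 1467, nat_lit 4401, nat_lit 13203, nat_lit 26569, nat_lit 79707, nat_lit 239121]),(nat_lit 3,nat_lit 1434726,[nat_lit 2, nat_lit 3, nat_lit 6, nat_lit 9, nat_lit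 18, nat_lit 27, nat_lit 54, nat_lit 163, nat_lit 326, nat_lit 489, nat_lit 978, nat_lit 1467],mk [nat_lit 2, nat_lit 3, nat_lit 6, nat_lit 9, nat_lit 18, nat_lit 27, nat_lit 54, nat_lit 163, nat_lit 326, nat_lit 489, nat_lit 978, nat_lit 1467]),(nat_lit 6,nat_lit 717363,[nat_lit 3, nat_lit 9, nat_lit 27, nat_lit 163, nat_lit 489, nat_lit 1467, nat_lit 4401, nat_lit 26569, nat_lit 79707, nat_lit 239121, nat_lit 717363],mk [nat_lit 3, nat_lit 9, nat_lit 27, nat_lit 163, nat_lit 489, nat_lit 1467, nat_lit 4401, nat_lit 26569, nat_lit 79707, nat_lit 239121, nat_lit 717363]),(nat_lit 9,nat_lit 478242,[nat_lit 2, nat_lit 3, nat_lit 6, nat_lit 9, nat_lit 18, nat_lit 163, nat_lit 326, nat_lit 489, nat_lit 978, nat_lit 1467, nat_lit 2934, nat_lit 26569],mk [nat_lit 2, nat_lit 3, nat_lit 6, nat_lit 9, nat_lit 18, nat_lit 163, nat_lit 326, nat_lit 489, nat_lit 978, nat_lit 1467, nat_lit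 2934, nat_lit 26569])]⟩
def t4826809 : TE := ⟨nat_lit 4826809,nat_lit 13,nat_lit 13,[],[nat_lit 13, nat_lit 169, nat_lit 2197, nat_lit 28561, nat_lit 371293],mk [nat_lit 13, nat_lit 169, nat_lit 2197, nat_lit 28561, nat_lit 371293],mk [],[(nat_lit 1,nat_lit 4455516,[nat_lit 2, nat_lit 3, nat_lit 4, nat_lit 6, nat_lit 12, nat_lit 13, nat_lit 26, nat_lit 39, nat_lit 52, nat_lit 78, nat_lit 156, nat_lit 169],mk [nat_lit 2, nat_lit 3, nat_lit 4, nat_lit 6, nat_lit 12, nat_lit 13, nat_lit 26, nat_lit 39, nat_lit 52, nat_lit 78, nat_lit 156, nat_lit 169]),(nat_lit 2,nat_lit 2227758,[nat_lit 2, nat_lit 3, nat_lit 6, nat_lit 13, nat_lit 26, nat_lit 39, nat_lit 78, nat_lit 169, nat_lit 338, nat_lit 507, nat_lit 1014, nat_lit 2197],mk [nat_lit 2, nat_lit 3, nat_lit 6, nat_lit 13, nat_lit 26, nat_lit 39, nat_lit 78, nat_lit 169, nat_lit 338, nat_lit 507, nat_lit 1014, nat_lit 2197]),(nat_lit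 3,nat_lit 1485172,[nat_lit 2, nat_lit 4, nat_lit 13, nat_lit 26, nat_lit 52, nat_lit 169, nat_lit 338, nat_lit 676, nat_lit 2197, nat_lit 4394, nat_lit 8788, nat_lit 28561],mk [nat_lit 2, nat_lit 4, nat_lit 13, nat_lit 26, nat_lit 52, nat_lit 169, nat_lit 338, nat_lit 676, nat_lit 2197, nat_lit 4394, nat_lit 8788, nat_lit 28561]),(nat_lit 4,nat_lit 1113879,[nat_lit 3, nat_lit 13, nat_lit 39, nat_lit 169, nat_lit 507, nat_lit 2197, nat_lit 6591, nat_lit 28561, nat_lit 85683, nat_lit 371293, nat_lit 1113879],mk [nat_lit 3, nat_lit 13, nat_lit 39, nat_lit 169, nat_lit 507, nat_lit 2197, nat_lit 6591, nat_lit 28561, nat_lit 85683, nat_lit 371293, nat_lit 1113879]),(nat_lit 6,nat_lit 742586,[nat_lit 2, nat_lit 13, nat_lit 26, nat_lit 169, nat_lit 338, nat_lit 2197, nat_lit 4394, nat_lit 28561, nat_lit 57122, nat_lit 371293, nat_lit 742586],mk [nat_lit 2, nat_lit 13, nat_lit 26,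 nat_lit 169, nat_lit 338, nat_lit 2197, nat_lit 4394, nat_lit 28561, nat_lit 57122, nat_lit 371293, nat_lit 742586])]⟩
def t7091569 : TE := ⟨nat_lit 7091569,nat_lit 2663,nat_lit 2663,[],[nat_lit 2663],mk [nat_lit 2663],mk [],[(nat_lit 1,nat_lit 7088906,[nat_lit 2, nat_lit 11, nat_lit 22, nat_lit 121, nat_lit 242, nat_lit 1331, nat_lit 2662, nat_lit 2663, nat_lit 5326, nat_lit 29293, nat_lit 58586, nat_lit 322223],mk [nat_lit 2, nat_lit 11, nat_lit 22, nat_lit 121, nat_lit 242, nat_lit 1331, nat_lit 2662, nat_lit 2663, nat_lit 5326, nat_lit 29293, nat_lit 58586, nat_lit 322223]),(nat_lit 2,nat_lit 3544453,[nat_lit 11, nat_lit 121, nat_lit 1331, nat_lit 2663, nat_lit 29293, nat_lit 322223, nat_lit 3544453],mk [nat_lit 11, nat_lit 121, nat_lit 1331, nat_lit 2663, nat_lit 29293, nat_lit 322223, nat_lit 3544453])]⟩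
def t15813251 : TE := ⟨nat_lit 15813251,nat_lit 251,nat_lit 251,[],[nat_lit 251, nat_lit 63001],mk [nat_lit 251, nat_lit 63001],mk [],[(nat_lit 1,nat_lit 15750250,[nat_lit 2, nat_lit 5, nat_lit 10, nat_lit 25, nat_lit 50, nat_lit 125, nat_lit 250, nat_lit 251, nat_lit 502, nat_lit 1255, nat_lit 2510, nat_lit 6275],mk [nat_lit 2, nat_lit 5, nat_lit 10, nat_lit 25, nat_lit 50, nat_lit 125, nat_lit 250, nat_lit 251, nat_lit 502, nat_lit 1255, nat_lit 2510, nat_lit 6275]),(nat_lit 2,nat_lit 7875125,[nat_lit 5, nat_lit 25, nat_lit 125, nat_lit 251, nat_lit 1255, nat_lit 6275, nat_lit 31375, nat_lit 63001, nat_lit 315005, nat_lit 1575025, nat_lit 7875125],mk [nat_lit 5, nat_lit 25, nat_lit 125, nat_lit 251, nat_lit 1255, nat_lit 6275, nat_lit 31375, nat_lit 63001, nat_lit 315005, nat_lit 1575025, nat_lit 7875125]),(nat_lit 5,nat_lit 3150050,[nat_lit 2, nat_lit 5, nat_lit 10, nat_lit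 25, nat_lit 50, nat_lit 251, nat_lit 502, nat_lit 1255, nat_lit 2510, nat_lit 6275, nat_lit 12550, nat_lit 63001],mk [nat_lit 2, nat_lit 5, nat_lit 10, nat_lit 25, nat_lit 50, nat_lit 251, nat_lit 502, nat_lit 1255, nat_lit 2510, nat_lit 6275, nat_lit 12550, nat_lit 63001]),(nat_lit 10,nat_lit 1575025,[nat_lit 5, nat_lit 25, nat_lit 251, nat_lit 1255, nat_lit 6275, nat_lit 63001, nat_lit 315005, nat_lit 1575025],mk [nat_lit 5, nat_lit 25, nat_lit 251, nat_lit 1255, nat_lit 6275, nat_lit 63001, nat_lit 315005, nat_lit 1575025])]⟩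
def t24137569 : TE := ⟨nat_lit 24137569,nat_lit 17,nat_lit 17,[],[nat_lit 17, nat_lit 289, nat_lit 4913, nat_lit 83521, nat_lit 1419857],mk [nat_lit 17, nat_lit 289, nat_lit 4913, nat_lit 83521, nat_lit 1419857],mk [],[(nat_lit 1,nat_lit 22717712,[nat_lit 2, nat_lit 4, nat_lit 8, nat_lit 16, nat_lit 17, nat_lit 34, nat_lit 68, nat_lit 136, nat_lit 272, nat_lit 289, nat_lit 578, nat_lit 1156],mk [nat_lit 2, nat_lit 4, nat_lit 8, nat_lit 16, nat_lit 17, nat_lit 34, nat_lit 68, nat_lit 136, nat_lit 272, nat_lit 289, nat_lit 578, nat_lit 1156]),(nat_lit 2,nat_lit 11358856,[nat_lit 2, nat_lit 4, nat_lit 8, nat_lit 17, nat_lit 34, nat_lit 68, nat_lit 136, nat_lit 289, nat_lit 578, nat_lit 1156, nat_lit 2312, nat_lit 4913],mk [nat_lit 2, nat_lit 4, nat_lit 8, nat_lit 17, nat_lit 34, nat_lit 68, nat_lit 136, nat_lit 289, nat_lit 578, nat_lit 1156, nat_lit 2312, nat_lit 4913]),(nat_lit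 4,nat_lit 5679428,[nat_lit 2, nat_lit 4, nat_lit 17, nat_lit 34, nat_lit 68, nat_lit 289, nat_lit 578, nat_lit 1156, nat_lit 4913, nat_lit 9826, nat_lit 19652, nat_lit 83521],mk [nat_lit 2, nat_lit 4, nat_lit 17, nat_lit 34, nat_lit 68, nat_lit 289, nat_lit 578, nat_lit 1156, nat_lit 4913, nat_lit 9826, nat_lit 19652, nat_lit 83521]),(nat_lit 8,nat_lit 2839714,[nat_lit 2, nat_lit 17, nat_lit 34, nat_lit 289, nat_lit 578, nat_lit 4913, nat_lit 9826, nat_lit 83521, nat_lit 167042, nat_lit 1419857, nat_lit 2839714],mk [nat_lit 2, nat_lit 17, nat_lit 34, nat_lit 289, nat_lit 578, nat_lit 4913, nat_lit 9826, nat_lit 83521, nat_lit 167042, nat_lit 1419857, nat_lit 2839714])]⟩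
def t47045881 : TE := ⟨nat_lit 47045881,nat_lit 19,nat_lit 19,[],[nat_lit 19, nat_lit 361, nat_lit 6859, nat_lit 130321, nat_lit 2476099],mk [nat_lit 19, nat_lit 361, nat_lit 6859, nat_lit 130321, nat_lit 2476099],mk [],[(nat_lit 1,nat_lit 44569782,[nat_lit 2, nat_lit 3, nat_lit 6, nat_lit 9, nat_lit 18, nat_lit 19, nat_lit 38, nat_lit 57, nat_lit 114, nat_lit 171, nat_lit 342, nat_lit 361],mk [nat_lit 2, nat_lit 3, nat_lit 6, nat_lit 9, nat_lit 18, nat_lit 19, nat_lit 38, nat_lit 57, nat_lit 114, nat_lit 171, nat_lit 342, nat_lit 361]),(nat_lit 2,nat_lit 22284891,[nat_lit 3, nat_lit 9, nat_lit 19, nat_lit 57, nat_lit 171, nat_lit 361, nat_lit 1083, nat_lit 3249, nat_lit 6859, nat_lit 20577, nat_lit 61731, nat_lit 130321],mk [nat_lit 3, nat_lit 9, nat_lit 19, nat_lit 57, nat_lit 171, nat_lit 361, nat_lit 1083, nat_lit 3249, nat_lit 6859, nat_lit 20577, nat_lit 61731, nat_lit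 130321]),(nat_lit 3,nat_lit 14856594,[nat_lit 2, nat_lit 3, nat_lit 6, nat_lit 19, nat_lit 38, nat_lit 57, nat_lit 114, nat_lit 361, nat_lit 722, nat_lit 1083, nat_lit 2166, nat_lit 6859],mk [nat_lit 2, nat_lit 3, nat_lit 6, nat_lit 19, nat_lit 38, nat_lit 57, nat_lit 114, nat_lit 361, nat_lit 722, nat_lit 1083, nat_lit 2166, nat_lit 6859]),(nat_lit 6,nat_lit 7428297,[nat_lit 3, nat_lit 19, nat_lit 57, nat_lit 361, nat_lit 1083, nat_lit 6859, nat_lit 20577, nat_lit 130321, nat_lit 390963, nat_lit 2476099, nat_lit 7428297],mk [nat_lit 3, nat_lit 19, nat_lit 57, nat_lit 361, nat_lit 1083, nat_lit 6859, nat_lit 20577, nat_lit 130321, nat_lit 390963, nat_lit 2476099, nat_lit 7428297]),(nat_lit 9,nat_lit 4952198,[nat_lit 2, nat_lit 19, nat_lit 38, nat_lit 361, nat_lit 722, nat_lit 6859, nat_lit 13718, nat_lit 130321, nat_lit 260642, nat_lit 2476099, nat_lit 4952198],mk [nat_lit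 2, nat_lit 19, nat_lit 38, nat_lit 361, nat_lit 722, nat_lit 6859, nat_lit 13718, nat_lit 130321, nat_lit 260642, nat_lit 2476099, nat_lit 4952198])]⟩
def t115501303 : TE := ⟨nat_lit 115501303,nat_lit 487,nat_lit 487,[],[nat_lit 487, nat_lit 237169],mk [nat_lit 487, nat_lit 237169],mk [],[(nat_lit 1,nat_lit 115264134,[nat_lit 2, nat_lit 3, nat_lit 6, nat_lit 9, nat_lit 18, nat_lit 27, nat_lit 54, nat_lit 81, nat_lit 162, nat_lit 243, nat_lit 486, nat_lit 487],mk [nat_lit 2, nat_lit 3, nat_lit 6, nat_lit 9, nat_lit 18, nat_lit 27, nat_lit 54, nat_lit 81, nat_lit 162, nat_lit 243, nat_lit 486, nat_lit 487]),(nat_lit 2,nat_lit 57632067,[nat_lit 3, nat_lit 9, nat_lit 27, nat_lit 81, nat_lit 243, nat_lit 487, nat_lit 1461, nat_lit 4383, nat_lit 13149, nat_lit 39447, nat_lit 118341, nat_lit 237169],mk [nat_lit 3, nat_lit 9, nat_lit 27, nat_lit 81, nat_lit 243, nat_lit 487, nat_lit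 1461, nat_lit 4383, nat_lit 13149, nat_lit 39447, nat_lit 118341, nat_lit 237169]),(nat_lit 3,nat_lit 38421378,[nat_lit 2, nat_lit 3, nat_lit 6, nat_lit 9, nat_lit 18, nat_lit 27, nat_lit 54, nat_lit 81, nat_lit 162, nat_lit 487, nat_lit 974, nat_lit 1461],mk [nat_lit 2, nat_lit 3, nat_lit 6, nat_lit 9, nat_lit 18, nat_lit 27, nat_lit 54, nat_lit 81, nat_lit 162, nat_lit 487, nat_lit 974, nat_lit 1461]),(nat_lit 6,nat_lit 19210689,[nat_lit 3, nat_lit 9, nat_lit 27, nat_lit 81, nat_lit 487, nat_lit 1461, nat_lit 4383, nat_lit 13149, nat_lit 39447, nat_lit 237169, nat_lit 711507, nat_lit 2134521],mk [nat_lit 3, nat_lit 9, nat_lit 27, nat_lit 81, nat_lit 487, nat_lit 1461, nat_lit 4383, nat_lit 13149, nat_lit 39447, nat_lit 237169, nat_lit 711507, nat_lit 2134521]),(nat_lit 9,nat_lit 12807126,[nat_lit 2, nat_lit 3, nat_lit 6, nat_lit 9, nat_lit 18, nat_lit 27, nat_lit 54, nat_lit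 487, nat_lit 974, nat_lit 1461, nat_lit 2922, nat_lit 4383],mk [nat_lit 2, nat_lit 3, nat_lit 6, nat_lit 9, nat_lit 18, nat_lit 27, nat_lit 54, nat_lit 487, nat_lit 974, nat_lit 1461, nat_lit 2922, nat_lit 4383])]⟩
def t705911761 : TE := ⟨nat_lit 705911761,nat_lit 163,nat_lit 163,[],[nat_lit 163, nat_lit 26569, nat_lit 4330747],mk [nat_lit 163, nat_lit 26569, nat_lit 4330747],mk [],[(nat_lit 1,nat_lit 701581014,[nat_lit 2, nat_lit 3, nat_lit 6, nat_lit 9, nat_lit 18, nat_lit 27, nat_lit 54, nat_lit 81, nat_lit 162, nat_lit 163, nat_lit 326, nat_lit 489],mk [nat_lit 2, nat_lit 3, nat_lit 6, nat_lit 9, nat_lit 18, nat_lit 27, nat_lit 54, nat_lit 81, nat_lit 162, nat_lit 163, nat_lit 326, nat_lit 489]),(nat_lit 2,nat_lit 350790507,[nat_lit 3, nat_lit 9, nat_lit 27, nat_lit 81, nat_lit 163, nat_lit 489, nat_lit 1467, nat_lit 4401, nat_lit 13203, nat_lit 26569, nat_lit 79707,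 nat_lit 239121],mk [nat_lit 3, nat_lit 9, nat_lit 27, nat_lit 81, nat_lit 163, nat_lit 489, nat_lit 1467, nat_lit 4401, nat_lit 13203, nat_lit 26569, nat_lit 79707, nat_lit 239121]),(nat_lit 3,nat_lit 233860338,[nat_lit 2, nat_lit 3, nat_lit 6, nat_lit 9, nat_lit 18, nat_lit 27, nat_lit 54, nat_lit 163, nat_lit 326, nat_lit 489, nat_lit 978, nat_lit 1467],mk [nat_lit 2, nat_lit 3, nat_lit 6, nat_lit 9, nat_lit 18, nat_lit 27, nat_lit 54, nat_lit 163, nat_lit 326, nat_lit 489, nat_lit 978, nat_lit 1467]),(nat_lit 6,nat_lit 116930169,[nat_lit 3, nat_lit 9, nat_lit 27, nat_lit 163, nat_lit 489, nat_lit 1467, nat_lit 4401, nat_lit 26569, nat_lit 79707, nat_lit 239121, nat_lit 717363, nat_lit 4330747],mk [nat_lit 3, nat_lit 9, nat_lit 27, nat_lit 163, nat_lit 489, nat_lit 1467, nat_lit 4401, nat_lit 26569, nat_lit 79707, nat_lit 239121, nat_lit 717363, nat_lit 4330747]),(nat_lit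 9,nat_lit 77953446,[nat_lit 2, nat_lit 3, nat_lit 6, nat_lit 9, nat_lit 18, nat_lit 163, nat_lit 326, nat_lit 489, nat_lit 978, nat_lit 1467, nat_lit 2934, nat_lit 26569],mk [nat_lit 2, nat_lit 3, nat_lit 6, nat_lit 9, nat_lit 18, nat_lit 163, nat_lit 326, nat_lit 489, nat_lit 978, nat_lit 1467, nat_lit 2934, nat_lit 26569])]⟩
def t3969126001 : TE := ⟨nat_lit 3969126001,nat_lit 251,nat_lit 251,[],[nat_lit 251, nat_lit 63001, nat_lit 15813251],mk [nat_lit 251, nat_lit 63001, nat_lit 15813251],mk [],[(nat_lit 1,nat_lit 3953312750,[nat_lit 2, nat_lit 5, nat_lit 10, nat_lit 25, nat_lit 50, nat_lit 125, nat_lit 250, nat_lit 251, nat_lit 502, nat_lit 1255, nat_lit 2510, nat_lit 6275],mk [nat_lit 2, nat_lit 5, nat_lit 10, nat_lit 25, nat_lit 50, nat_lit 125, nat_lit 250, nat_lit 251, nat_lit 502, nat_lit 1255, nat_lit 2510, nat_lit 6275]),(nat_lit 2,nat_lit 1976656375,[nat_lit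 5, nat_lit 25, nat_lit 125, nat_lit 251, nat_lit 1255, nat_lit 6275, nat_lit 31375, nat_lit 63001, nat_lit 315005, nat_lit 1575025, nat_lit 7875125, nat_lit 15813251],mk [nat_lit 5, nat_lit 25, nat_lit 125, nat_lit 251, nat_lit 1255, nat_lit 6275, nat_lit 31375, nat_lit 63001, nat_lit 315005, nat_lit 1575025, nat_lit 7875125, nat_lit 15813251]),(nat_lit 5,nat_lit 790662550,[nat_lit 2, nat_lit 5, nat_lit 10, nat_lit 25, nat_lit 50, nat_lit 251, nat_lit 502, nat_lit 1255, nat_lit 2510, nat_lit 6275, nat_lit 12550, nat_lit 63001],mk [nat_lit 2, nat_lit 5, nat_lit 10, nat_lit 25, nat_lit 50, nat_lit 251, nat_lit 502, nat_lit 1255, nat_lit 2510, nat_lit 6275, nat_lit 12550, nat_lit 63001]),(nat_lit 10,nat_lit 395331275,[nat_lit 5, nat_lit 25, nat_lit 251, nat_lit 1255, nat_lit 6275, nat_lit 63001, nat_lit 315005, nat_lit 1575025, nat_lit 15813251, nat_lit 79066255, nat_lit 395331275],mk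 [nat_lit 5, nat_lit 25, nat_lit 251, nat_lit 1255, nat_lit 6275, nat_lit 63001, nat_lit 315005, nat_lit 1575025, nat_lit 15813251, nat_lit 79066255, nat_lit 395331275])]⟩
def OL : List ℕ := [nat_lit 2, nat_lit 3, nat_lit 4, nat_lit 5, nat_lit 6, nat_lit 7, nat_lit 8, nat_lit 9, nat_lit 10, nat_lit 11, nat_lit 12, nat_lit 13, nat_lit 14, nat_lit 15, nat_lit 16, nat_lit 17, nat_lit 18, nat_lit 19, nat_lit 20, nat_lit 21, nat_lit 22, nat_lit 23, nat_lit 24, nat_lit 25, nat_lit 26, nat_lit 27, nat_lit 28, nat_lit 29, nat_lit 30, nat_lit 31, nat_lit 32, nat_lit 33, nat_lit 34, nat_lit 35, nat_lit 36, nat_lit 37, nat_lit 38, nat_lit 39, nat_lit 40, nat_lit 41, nat_lit 42, nat_lit 43, nat_lit 44, nat_lit 45, nat_lit 46, nat_lit 47, nat_lit 48, nat_lit 49, nat_lit 50, nat_lit 51, nat_lit 52, nat_lit 53, nat_lit 54, nat_lit 55, nat_lit 56, nat_lit 57, nat_lit 58, nat_lit 59, nat_lit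 61, nat_lit 62, nat_lit 63, nat_lit 64, nat_lit 65, nat_lit 66, nat_lit 67, nat_lit 68, nat_lit 69, nat_lit 70, nat_lit 71, nat_lit 73, nat_lit 74, nat_lit 75, nat_lit 76, nat_lit 77, nat_lit 78, nat_lit 79, nat_lit 80, nat_lit 81, nat_lit 82, nat_lit 83, nat_lit 85, nat_lit 86, nat_lit 87, nat_lit 88, nat_lit 89, nat_lit 91, nat_lit 92, nat_lit 93, nat_lit 94, nat_lit 95, nat_lit 97, nat_lit 98, nat_lit 99, nat_lit 100, nat_lit 101, nat_lit 102, nat_lit 103, nat_lit 104, nat_lit 105, nat_lit 106, nat_lit 107, nat_lit 109, nat_lit 110, nat_lit 111, nat_lit 114, nat_lit 115, nat_lit 116, nat_lit 117, nat_lit 118, nat_lit 119, nat_lit 121, nat_lit 122, nat_lit 123, nat_lit 124, nat_lit 125, nat_lit 127, nat_lit 128, nat_lit 129, nat_lit 130, nat_lit 131, nat_lit 133, nat_lit 134, nat_lit 135, nat_lit 136, nat_lit 137, nat_lit 142, nat_lit 143, nat_lit 145, nat_lit 146, nat_lit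 147, nat_lit 148, nat_lit 149, nat_lit 151, nat_lit 152, nat_lit 153, nat_lit 155, nat_lit 157, nat_lit 158, nat_lit 159, nat_lit 162, nat_lit 163, nat_lit 164, nat_lit 165, nat_lit 166, nat_lit 169, nat_lit 170, nat_lit 171, nat_lit 172, nat_lit 173, nat_lit 174, nat_lit 175, nat_lit 177, nat_lit 178, nat_lit 182, nat_lit 183, nat_lit 185, nat_lit 187, nat_lit 189, nat_lit 191, nat_lit 193, nat_lit 194, nat_lit 196, nat_lit 197, nat_lit 201, nat_lit 202, nat_lit 203, nat_lit 205, nat_lit 206, nat_lit 209, nat_lit 212, nat_lit 213, nat_lit 215, nat_lit 217, nat_lit 218, nat_lit 219, nat_lit 221, nat_lit 222, nat_lit 223, nat_lit 225, nat_lit 229, nat_lit 230, nat_lit 235, nat_lit 237, nat_lit 242, nat_lit 243, nat_lit 244, nat_lit 245, nat_lit 247, nat_lit 250, nat_lit 251, nat_lit 253, nat_lit 254, nat_lit 256, nat_lit 257, nat_lit 258, nat_lit 259, nat_lit 261, nat_lit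 262, nat_lit 265, nat_lit 272, nat_lit 273, nat_lit 274, nat_lit 275, nat_lit 279, nat_lit 289, nat_lit 291, nat_lit 301, nat_lit 302, nat_lit 303, nat_lit 305, nat_lit 309, nat_lit 310, nat_lit 311, nat_lit 323, nat_lit 325, nat_lit 326, nat_lit 327, nat_lit 333, nat_lit 335, nat_lit 338, nat_lit 341, nat_lit 343, nat_lit 351, nat_lit 355, nat_lit 361, nat_lit 363, nat_lit 371, nat_lit 375, nat_lit 377, nat_lit 381, nat_lit 386, nat_lit 387, nat_lit 388, nat_lit 394, nat_lit 404, nat_lit 406, nat_lit 410, nat_lit 413, nat_lit 415, nat_lit 425, nat_lit 441, nat_lit 445, nat_lit 451, nat_lit 453, nat_lit 465, nat_lit 475, nat_lit 481, nat_lit 484, nat_lit 485, nat_lit 487, nat_lit 489, nat_lit 497, nat_lit 502, nat_lit 503, nat_lit 505, nat_lit 506, nat_lit 507, nat_lit 512, nat_lit 513, nat_lit 514, nat_lit 517, nat_lit 529, nat_lit 553, nat_lit 559, nat_lit 575, nat_lit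 578, nat_lit 591, nat_lit 605, nat_lit 625, nat_lit 637, nat_lit 652, nat_lit 653, nat_lit 655, nat_lit 671, nat_lit 676, nat_lit 677, nat_lit 686, nat_lit 689, nat_lit 703, nat_lit 722, nat_lit 729, nat_lit 737, nat_lit 753, nat_lit 755, nat_lit 775, nat_lit 815, nat_lit 841, nat_lit 845, nat_lit 867, nat_lit 889, nat_lit 903, nat_lit 931, nat_lit 961, nat_lit 974, nat_lit 979, nat_lit 981, nat_lit 1004, nat_lit 1006, nat_lit 1024, nat_lit 1025, nat_lit 1027, nat_lit 1029, nat_lit 1058, nat_lit 1081, nat_lit 1083, nat_lit 1111, nat_lit 1141, nat_lit 1156, nat_lit 1183, nat_lit 1250, nat_lit 1255, nat_lit 1331, nat_lit 1369, nat_lit 1373, nat_lit 1375, nat_lit 1379, nat_lit 1421, nat_lit 1445, nat_lit 1459, nat_lit 1461, nat_lit 1467, nat_lit 1649, nat_lit 1681, nat_lit 1682, nat_lit 1703, nat_lit 1711, nat_lit 1751, nat_lit 1805, nat_lit 1849, nat_lit 1922, nat_lit 2107,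 nat_lit 2187, nat_lit 2197, nat_lit 2209, nat_lit 2329, nat_lit 2401, nat_lit 2515, nat_lit 2523, nat_lit 2525, nat_lit 2527, nat_lit 2645, nat_lit 2662, nat_lit 2663, nat_lit 2738, nat_lit 2761, nat_lit 2783, nat_lit 2809, nat_lit 2883, nat_lit 2918, nat_lit 3097, nat_lit 3125, nat_lit 3249, nat_lit 3362, nat_lit 3403, nat_lit 3481, nat_lit 3698, nat_lit 3721, nat_lit 4107, nat_lit 4377, nat_lit 4383, nat_lit 4394, nat_lit 4401, nat_lit 4489, nat_lit 4805, nat_lit 4913, nat_lit 5041, nat_lit 5326, nat_lit 5329, nat_lit 5547, nat_lit 5819, nat_lit 5887, nat_lit 6241, nat_lit 6275, nat_lit 6561, nat_lit 6591, nat_lit 6655, nat_lit 6859, nat_lit 6889, nat_lit 7921, nat_lit 8405, nat_lit 9409, nat_lit 9826, nat_lit 10201, nat_lit 10609, nat_lit 11881, nat_lit 12167, nat_lit 12943, nat_lit 13315, nat_lit 13718, nat_lit 14641, nat_lit 15625, nat_lit 16129, nat_lit 16807, nat_lit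 17161, nat_lit 18769, nat_lit 19683, nat_lit 20577, nat_lit 22801, nat_lit 24389, nat_lit 26569, nat_lit 28561, nat_lit 29293, nat_lit 29791, nat_lit 31375, nat_lit 37249, nat_lit 38809, nat_lit 50653, nat_lit 53138, nat_lit 63001, nat_lit 66049, nat_lit 68921, nat_lit 78125, nat_lit 79507, nat_lit 79707, nat_lit 83521, nat_lit 117649, nat_lit 126002, nat_lit 126253, nat_lit 130321, nat_lit 148877, nat_lit 161051, nat_lit 226981, nat_lit 237169, nat_lit 253009, nat_lit 279841, nat_lit 315005, nat_lit 371293, nat_lit 390625, nat_lit 493039, nat_lit 707281, nat_lit 823543, nat_lit 912673, nat_lit 923521, nat_lit 1030301, nat_lit 1295029, nat_lit 1419857, nat_lit 1771561, nat_lit 1874161, nat_lit 2128681, nat_lit 2476099, nat_lit 2825761, nat_lit 3418801, nat_lit 4330747, nat_lit 4826809, nat_lit 7091569, nat_lit 15813251, nat_lit 24137569, nat_lit 47045881, nat_lit 115501303,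 nat_lit 705911761, nat_lit 3969126001]
def l0 : List TE := []
def l1 : List TE := [t2, t3, t5, t7, t11, t13, t17, t19, t23, t29, t31, t37, t41, t43, t47, t53, t59, t61, t67, t71, t73, t79, t83, t89, t97, t101, t103, t107, t109, t127, t131, t137, t149, t151, t157, t163, t173, t191, t193, t197, t223, t229, t251, t257, t311, t487, t503, t653, t677, t1373, t1459, t2663]
def l2 : List TE := [t2, t3, t4, t5, t7, t9, t11, t13, t17, t19, t23, t25, t29, t31, t37, t41, t43, t47, t49, t53, t59, t61, t67, t71, t73, t79, t83, t89, t97, t101, t103, t107, t109, t121, t127, t131, t137, t149, t151, t157, t163, t169, t173, t191, t193, t197, t223, t229, t251, t257, t289, t311, t361, t487, t503, t529, t653, t677, t841, t961, t1369, t1373, t1459, t1681, t1849, t2209, t2663, t2809, t3481, t3721, t4489, t5041, t5329, t6241, t6889, t7921, t9409, t10201, t10609, t11881, t16129, t17161, t18769, t22801,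 t26569, t37249, t38809, t63001, t66049, t237169, t253009, t2128681, t7091569]
def l3 : List TE := [t2, t3, t4, t5, t6, t7, t8, t9, t10, t11, t13, t14, t15, t17, t19, t21, t22, t23, t25, t26, t27, t29, t31, t33, t34, t35, t37, t38, t39, t41, t43, t46, t47, t49, t51, t53, t55, t57, t58, t59, t61, t62, t65, t67, t69, t71, t73, t74, t77, t79, t82, t83, t85, t86, t87, t89, t91, t93, t94, t95, t97, t101, t103, t106, t107, t109, t111, t115, t118, t119, t121, t122, t123, t125, t127, t129, t131, t133, t134, t137, t142, t143, t145, t146, t149, t151, t155, t157, t158, t159, t163, t166, t169, t173, t177, t178, t183, t185, t187, t191, t193, t194, t197, t201, t202, t203, t205, t206, t209, t213, t215, t217, t218, t219, t221, t223, t229, t235, t237, t247, t251, t253, t254, t257, t259, t262, t265, t274, t289, t291, t301, t302, t303, t305, t309, t311, t323, t326, t327, t335, t341, t343, t355,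 t361, t371, t377, t381, t386, t394, t413, t415, t445, t451, t453, t481, t485, t487, t489, t497, t502, t503, t505, t514, t517, t529, t553, t559, t591, t653, t655, t671, t677, t689, t703, t737, t753, t755, t815, t841, t889, t961, t974, t979, t1006, t1027, t1081, t1111, t1141, t1255, t1331, t1369, t1373, t1379, t1459, t1461, t1649, t1681, t1703, t1711, t1751, t1849, t2197, t2209, t2329, t2515, t2663, t2761, t2809, t2918, t3097, t3403, t3481, t3721, t4377, t4489, t4913, t5041, t5326, t5329, t6241, t6859, t6889, t7921, t9409, t10201, t10609, t11881, t12167, t13315, t16129, t17161, t18769, t22801, t24389, t26569, t29293, t29791, t37249, t38809, t50653, t63001, t66049, t68921, t79507, t126253, t148877, t226981, t237169, t253009, t493039, t912673, t1030301, t1295029, t2128681, t4330747, t7091569, t15813251, t115501303]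
def l4 : List TE := [t2, t3, t4, t5, t6, t7, t8, t9, t10, t11, t13, t14, t15, t16, t17, t19, t21, t22, t23, t25, t26, t27, t29, t31, t33, t34, t35, t37, t38, t39, t41, t43, t46, t47, t49, t51, t53, t55, t57, t58, t59, t61, t62, t65, t67, t69, t71, t73, t74, t77, t79, t81, t82, t83, t85, t86, t87, t89, t91, t93, t94, t95, t97, t101, t103, t106, t107, t109, t111, t115, t118, t119, t121, t122, t123, t125, t127, t129, t131, t133, t134, t137, t142, t143, t145, t146, t149, t151, t155, t157, t158, t159, t163, t166, t169, t173, t177, t178, t183, t185, t187, t191, t193, t194, t197, t201, t202, t203, t205, t206, t209, t213, t215, t217, t218, t219, t221, t223, t229, t235, t237, t247, t251, t253, t254, t257, t259, t262, t265, t274, t289, t291, t301, t302, t303, t305, t309, t311, t323, t326, t327, t335, t341, t343, t355, t361, t371, t377, t381, t386, t394, t413, t415, t445, t451, t453,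 t481, t485, t487, t489, t497, t502, t503, t505, t514, t517, t529, t553, t559, t591, t625, t653, t655, t671, t677, t689, t703, t737, t753, t755, t815, t841, t889, t961, t974, t979, t1006, t1027, t1081, t1111, t1141, t1255, t1331, t1369, t1373, t1379, t1459, t1461, t1649, t1681, t1703, t1711, t1751, t1849, t2197, t2209, t2329, t2401, t2515, t2663, t2761, t2809, t2918, t3097, t3403, t3481, t3721, t4377, t4489, t4913, t5041, t5326, t5329, t6241, t6859, t6889, t7921, t9409, t10201, t10609, t11881, t12167, t13315, t14641, t16129, t17161, t18769, t22801, t24389, t26569, t28561, t29293, t29791, t37249, t38809, t50653, t63001, t66049, t68921, t79507, t83521, t126253, t130321, t148877, t226981, t237169, t253009, t279841, t493039, t707281, t912673, t923521, t1030301, t1295029, t1874161, t2128681, t2825761, t3418801, t4330747, t7091569, t15813251, t115501303, t705911761, t3969126001]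
def l5 : List TE := [t2, t3, t4, t5, t6, t7, t8, t9, t10, t11, t12, t13, t14, t15, t16, t17, t18, t19, t20, t21, t22, t23, t25, t26, t27, t28, t29, t31, t32, t33, t34, t35, t37, t38, t39, t41, t43, t44, t45, t46, t47, t49, t50, t51, t52, t53, t55, t57, t58, t59, t61, t62, t63, t65, t67, t68, t69, t71, t73, t74, t75, t76, t77, t79, t81, t82, t83, t85, t86, t87, t89, t91, t92, t93, t94, t95, t97, t98, t99, t101, t103, t106, t107, t109, t111, t115, t116, t117, t118, t119, t121, t122, t123, t124, t125, t127, t129, t131, t133, t134, t137, t142, t143, t145, t146, t147, t148, t149, t151, t153, t155, t157, t158, t159, t163, t164, t166, t169, t171, t172, t173, t175, t177, t178, t183, t185, t187, t191, t193, t194, t197, t201, t202, t203, t205, t206, t209, t212, t213, t215, t217, t218, t219, t221, t223, t229, t235, t237, t242, t243, t244, t245, t247, t251, t253, t254, t257, t259, t261,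 t262, t265, t274, t275, t279, t289, t291, t301, t302, t303, t305, t309, t311, t323, t325, t326, t327, t333, t335, t338, t341, t343, t355, t361, t363, t371, t377, t381, t386, t387, t388, t394, t404, t413, t415, t425, t445, t451, t453, t475, t481, t485, t487, t489, t497, t502, t503, t505, t507, t514, t517, t529, t553, t559, t575, t578, t591, t605, t625, t637, t652, t653, t655, t671, t677, t689, t703, t722, t737, t753, t755, t775, t815, t841, t845, t867, t889, t931, t961, t974, t979, t981, t1004, t1006, t1025, t1027, t1058, t1081, t1083, t1111, t1141, t1183, t1255, t1331, t1369, t1373, t1379, t1421, t1445, t1459, t1461, t1467, t1649, t1681, t1682, t1703, t1711, t1751, t1805, t1849, t1922, t2107, t2197, t2209, t2329, t2401, t2515, t2523, t2525, t2527, t2645, t2663, t2738, t2761, t2783, t2809, t2883, t2918, t3097, t3125, t3362, t3403, t3481, t3698, t3721, t4107, t4377, t4383,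 t4489, t4805, t4913, t5041, t5326, t5329, t5547, t5819, t5887, t6241, t6275, t6859, t6889, t7921, t8405, t9409, t10201, t10609, t11881, t12167, t12943, t13315, t14641, t16129, t16807, t17161, t18769, t22801, t24389, t26569, t28561, t29293, t29791, t37249, t38809, t50653, t53138, t63001, t66049, t68921, t79507, t79707, t83521, t126002, t126253, t130321, t148877, t161051, t226981, t237169, t253009, t279841, t315005, t371293, t493039, t707281, t912673, t923521, t1030301, t1295029, t1419857, t1874161, t2128681, t2476099, t2825761, t3418801, t4330747, t7091569, t15813251, t115501303, t705911761, t3969126001]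
def l6 : List TE := [t2, t3, t4, t5, t6, t7, t8, t9, t10, t11, t12, t13, t14, t15, t16, t17, t18, t19, t20, t21, t22, t23, t25, t26, t27, t28, t29, t31, t32, t33, t34, t35, t37, t38, t39, t41, t43, t44, t45, t46, t47, t49, t50, t51, t52, t53, t55, t57, t58, t59, t61, t62, t63, t64, t65, t67, t68, t69, t71, t73, t74, t75, t76, t77, t79, t81, t82, t83, t85, t86, t87, t89, t91, t92, t93, t94, t95, t97, t98, t99, t101, t103, t106, t107, t109, t111, t115, t116, t117, t118, t119, t121, t122, t123, t124, t125, t127, t129, t131, t133, t134, t137, t142, t143, t145, t146, t147, t148, t149, t151, t153, t155, t157, t158, t159, t163, t164, t166, t169, t171, t172, t173, t175, t177, t178, t183, t185, t187, t191, t193, t194, t197, t201, t202, t203, t205, t206, t209, t212, t213, t215, t217, t218, t219, t221, t223, t229, t235, t237, t242, t243, t244, t245, t247, t251, t253, t254, t257, t259,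 t261, t262, t265, t274, t275, t279, t289, t291, t301, t302, t303, t305, t309, t311, t323, t325, t326, t327, t333, t335, t338, t341, t343, t355, t361, t363, t371, t377, t381, t386, t387, t388, t394, t404, t413, t415, t425, t445, t451, t453, t475, t481, t485, t487, t489, t497, t502, t503, t505, t507, t514, t517, t529, t553, t559, t575, t578, t591, t605, t625, t637, t652, t653, t655, t671, t677, t689, t703, t722, t729, t737, t753, t755, t775, t815, t841, t845, t867, t889, t931, t961, t974, t979, t981, t1004, t1006, t1025, t1027, t1058, t1081, t1083, t1111, t1141, t1183, t1255, t1331, t1369, t1373, t1379, t1421, t1445, t1459, t1461, t1467, t1649, t1681, t1682, t1703, t1711, t1751, t1805, t1849, t1922, t2107, t2197, t2209, t2329, t2401, t2515, t2523, t2525, t2527, t2645, t2663, t2738, t2761, t2783, t2809, t2883, t2918, t3097, t3125, t3362, t3403, t3481, t3698, t3721, t4107, t4377,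 t4383, t4489, t4805, t4913, t5041, t5326, t5329, t5547, t5819, t5887, t6241, t6275, t6859, t6889, t7921, t8405, t9409, t10201, t10609, t11881, t12167, t12943, t13315, t14641, t15625, t16129, t16807, t17161, t18769, t22801, t24389, t26569, t28561, t29293, t29791, t37249, t38809, t50653, t53138, t63001, t66049, t68921, t79507, t79707, t83521, t117649, t126002, t126253, t130321, t148877, t161051, t226981, t237169, t253009, t279841, t315005, t371293, t493039, t707281, t912673, t923521, t1030301, t1295029, t1419857, t1771561, t1874161, t2128681, t2476099, t2825761, t3418801, t4330747, t4826809, t7091569, t15813251, t24137569, t47045881, t115501303, t705911761, t3969126001]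
def l7 : List TE := [t2, t3, t4, t5, t6, t7, t8, t9, t10, t11, t12, t13, t14, t15, t16, t17, t18, t19, t20, t21, t22, t23, t24, t25, t26, t27, t28, t29, t30, t31, t32, t33, t34, t35, t37, t38, t39, t40, t41, t42, t43, t44, t45, t46, t47, t49, t50, t51, t52, t53, t54, t55, t56, t57, t58, t59, t61, t62, t63, t64, t65, t66, t67, t68, t69, t70, t71, t73, t74, t75, t76, t77, t78, t79, t81, t82, t83, t85, t86, t87, t88, t89, t91, t92, t93, t94, t95, t97, t98, t99, t101, t102, t103, t104, t105, t106, t107, t109, t110, t111, t114, t115, t116, t117, t118, t119, t121, t122, t123, t124, t125, t127, t128, t129, t130, t131, t133, t134, t135, t136, t137, t142, t143, t145, t146, t147, t148, t149, t151, t152, t153, t155, t157, t158, t159, t163, t164, t165, t166, t169, t170, t171, t172, t173, t174, t175, t177, t178, t182, t183, t185, t187, t189, t191, t193, t194, t197, t201, t202, t203,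 t205, t206, t209, t212, t213, t215, t217, t218, t219, t221, t222, t223, t229, t230, t235, t237, t242, t243, t244, t245, t247, t250, t251, t253, t254, t257, t258, t259, t261, t262, t265, t273, t274, t275, t279, t289, t291, t301, t302, t303, t305, t309, t310, t311, t323, t325, t326, t327, t333, t335, t338, t341, t343, t351, t355, t361, t363, t371, t375, t377, t381, t386, t387, t388, t394, t404, t406, t410, t413, t415, t425, t445, t451, t453, t465, t475, t481, t485, t487, t489, t497, t502, t503, t505, t506, t507, t513, t514, t517, t529, t553, t559, t575, t578, t591, t605, t625, t637, t652, t653, t655, t671, t677, t686, t689, t703, t722, t729, t737, t753, t755, t775, t815, t841, t845, t867, t889, t903, t931, t961, t974, t979, t981, t1004, t1006, t1025, t1027, t1029, t1058, t1081, t1083, t1111, t1141, t1183, t1255, t1331, t1369, t1373, t1375, t1379, t1421, t1445, t1459, t1461,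 t1467, t1649, t1681, t1682, t1703, t1711, t1751, t1805, t1849, t1922, t2107, t2187, t2197, t2209, t2329, t2401, t2515, t2523, t2525, t2527, t2645, t2662, t2663, t2738, t2761, t2783, t2809, t2883, t2918, t3097, t3125, t3362, t3403, t3481, t3698, t3721, t4107, t4377, t4383, t4394, t4401, t4489, t4805, t4913, t5041, t5326, t5329, t5547, t5819, t5887, t6241, t6275, t6591, t6655, t6859, t6889, t7921, t8405, t9409, t9826, t10201, t10609, t11881, t12167, t12943, t13315, t13718, t14641, t15625, t16129, t16807, t17161, t18769, t20577, t22801, t24389, t26569, t28561, t29293, t29791, t31375, t37249, t38809, t50653, t53138, t63001, t66049, t68921, t78125, t79507, t79707, t83521, t117649, t126002, t126253, t130321, t148877, t161051, t226981, t237169, t253009, t279841, t315005, t371293, t493039, t707281, t823543, t912673, t923521, t1030301, t1295029, t1419857, t1771561, t1874161, t2128681,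 t2476099, t2825761, t3418801, t4330747, t4826809, t7091569, t15813251, t24137569, t47045881, t115501303, t705911761, t3969126001]
def l8 : List TE := [t2, t3, t4, t5, t6, t7, t8, t9, t10, t11, t12, t13, t14, t15, t16, t17, t18, t19, t20, t21, t22, t23, t24, t25, t26, t27, t28, t29, t30, t31, t32, t33, t34, t35, t36, t37, t38, t39, t40, t41, t42, t43, t44, t45, t46, t47, t49, t50, t51, t52, t53, t54, t55, t56, t57, t58, t59, t61, t62, t63, t64, t65, t66, t67, t68, t69, t70, t71, t73, t74, t75, t76, t77, t78, t79, t81, t82, t83, t85, t86, t87, t88, t89, t91, t92, t93, t94, t95, t97, t98, t99, t100, t101, t102, t103, t104, t105, t106, t107, t109, t110, t111, t114, t115, t116, t117, t118, t119, t121, t122, t123, t124, t125, t127, t128, t129, t130, t131, t133, t134, t135, t136, t137, t142, t143, t145, t146, t147, t148, t149, t151, t152, t153, t155, t157, t158, t159, t163, t164,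 t165, t166, t169, t170, t171, t172, t173, t174, t175, t177, t178, t182, t183, t185, t187, t189, t191, t193, t194, t196, t197, t201, t202, t203, t205, t206, t209, t212, t213, t215, t217, t218, t219, t221, t222, t223, t225, t229, t230, t235, t237, t242, t243, t244, t245, t247, t250, t251, t253, t254, t256, t257, t258, t259, t261, t262, t265, t273, t274, t275, t279, t289, t291, t301, t302, t303, t305, t309, t310, t311, t323, t325, t326, t327, t333, t335, t338, t341, t343, t351, t355, t361, t363, t371, t375, t377, t381, t386, t387, t388, t394, t404, t406, t410, t413, t415, t425, t441, t445, t451, t453, t465, t475, t481, t484, t485, t487, t489, t497, t502, t503, t505, t506, t507, t513, t514, t517, t529, t553, t559, t575, t578, t591, t605, t625, t637, t652, t653, t655, t671, t676, t677, t686, t689, t703, t722, t729, t737, t753, t755, t775, t815, t841, t845, t867, t889, t903, t931,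 t961, t974, t979, t981, t1004, t1006, t1025, t1027, t1029, t1058, t1081, t1083, t1111, t1141, t1156, t1183, t1255, t1331, t1369, t1373, t1375, t1379, t1421, t1445, t1459, t1461, t1467, t1649, t1681, t1682, t1703, t1711, t1751, t1805, t1849, t1922, t2107, t2187, t2197, t2209, t2329, t2401, t2515, t2523, t2525, t2527, t2645, t2662, t2663, t2738, t2761, t2783, t2809, t2883, t2918, t3097, t3125, t3249, t3362, t3403, t3481, t3698, t3721, t4107, t4377, t4383, t4394, t4401, t4489, t4805, t4913, t5041, t5326, t5329, t5547, t5819, t5887, t6241, t6275, t6561, t6591, t6655, t6859, t6889, t7921, t8405, t9409, t9826, t10201, t10609, t11881, t12167, t12943, t13315, t13718, t14641, t15625, t16129, t16807, t17161, t18769, t20577, t22801, t24389, t26569, t28561, t29293, t29791, t31375, t37249, t38809, t50653, t53138, t63001, t66049, t68921, t78125, t79507, t79707, t83521, t117649, t126002,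 t126253, t130321, t148877, t161051, t226981, t237169, t253009, t279841, t315005, t371293, t390625, t493039, t707281, t823543, t912673, t923521, t1030301, t1295029, t1419857, t1771561, t1874161, t2128681, t2476099, t2825761, t3418801, t4330747, t4826809, t7091569, t15813251, t24137569, t47045881, t115501303, t705911761, t3969126001]
def l9 : List TE := [t2, t3, t4, t5, t6, t7, t8, t9, t10, t11, t12, t13, t14, t15, t16, t17, t18, t19, t20, t21, t22, t23, t24, t25, t26, t27, t28, t29, t30, t31, t32, t33, t34, t35, t36, t37, t38, t39, t40, t41, t42, t43, t44, t45, t46, t47, t48, t49, t50, t51, t52, t53, t54, t55, t56, t57, t58, t59, t61, t62, t63, t64, t65, t66, t67, t68, t69, t70, t71, t73, t74, t75, t76, t77, t78, t79, t80, t81, t82, t83, t85, t86, t87, t88, t89, t91, t92, t93, t94, t95, t97, t98, t99, t100, t101, t102, t103, t104, t105, t106, t107, t109, t110, t111, t114,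 t115, t116, t117, t118, t119, t121, t122, t123, t124, t125, t127, t128, t129, t130, t131, t133, t134, t135, t136, t137, t142, t143, t145, t146, t147, t148, t149, t151, t152, t153, t155, t157, t158, t159, t162, t163, t164, t165, t166, t169, t170, t171, t172, t173, t174, t175, t177, t178, t182, t183, t185, t187, t189, t191, t193, t194, t196, t197, t201, t202, t203, t205, t206, t209, t212, t213, t215, t217, t218, t219, t221, t222, t223, t225, t229, t230, t235, t237, t242, t243, t244, t245, t247, t250, t251, t253, t254, t256, t257, t258, t259, t261, t262, t265, t272, t273, t274, t275, t279, t289, t291, t301, t302, t303, t305, t309, t310, t311, t323, t325, t326, t327, t333, t335, t338, t341, t343, t351, t355, t361, t363, t371, t375, t377, t381, t386, t387, t388, t394, t404, t406, t410, t413, t415, t425, t441, t445, t451, t453, t465, t475, t481, t484, t485, t487, t489, t497, t502,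 t503, t505, t506, t507, t512, t513, t514, t517, t529, t553, t559, t575, t578, t591, t605, t625, t637, t652, t653, t655, t671, t676, t677, t686, t689, t703, t722, t729, t737, t753, t755, t775, t815, t841, t845, t867, t889, t903, t931, t961, t974, t979, t981, t1004, t1006, t1025, t1027, t1029, t1058, t1081, t1083, t1111, t1141, t1156, t1183, t1250, t1255, t1331, t1369, t1373, t1375, t1379, t1421, t1445, t1459, t1461, t1467, t1649, t1681, t1682, t1703, t1711, t1751, t1805, t1849, t1922, t2107, t2187, t2197, t2209, t2329, t2401, t2515, t2523, t2525, t2527, t2645, t2662, t2663, t2738, t2761, t2783, t2809, t2883, t2918, t3097, t3125, t3249, t3362, t3403, t3481, t3698, t3721, t4107, t4377, t4383, t4394, t4401, t4489, t4805, t4913, t5041, t5326, t5329, t5547, t5819, t5887, t6241, t6275, t6561, t6591, t6655, t6859, t6889, t7921, t8405, t9409, t9826, t10201, t10609, t11881, t12167,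 t12943, t13315, t13718, t14641, t15625, t16129, t16807, t17161, t18769, t19683, t20577, t22801, t24389, t26569, t28561, t29293, t29791, t31375, t37249, t38809, t50653, t53138, t63001, t66049, t68921, t78125, t79507, t79707, t83521, t117649, t126002, t126253, t130321, t148877, t161051, t226981, t237169, t253009, t279841, t315005, t371293, t390625, t493039, t707281, t823543, t912673, t923521, t1030301, t1295029, t1419857, t1771561, t1874161, t2128681, t2476099, t2825761, t3418801, t4330747, t4826809, t7091569, t15813251, t24137569, t47045881, t115501303, t705911761, t3969126001]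
def l10 : List TE := [t2, t3, t4, t5, t6, t7, t8, t9, t10, t11, t12, t13, t14, t15, t16, t17, t18, t19, t20, t21, t22, t23, t24, t25, t26, t27, t28, t29, t30, t31, t32, t33, t34, t35, t36, t37, t38, t39, t40, t41, t42, t43, t44, t45, t46, t47, t48, t49, t50, t51, t52, t53, t54, t55, t56, t57, t58, t59, t61, t62, t63, t64, t65, t66, t67, t68, t69, t70, t71, t73, t74, t75, t76, t77, t78, t79, t80, t81, t82, t83, t85, t86, t87, t88, t89, t91, t92, t93, t94, t95, t97, t98, t99, t100, t101, t102, t103, t104, t105, t106, t107, t109, t110, t111, t114, t115, t116, t117, t118, t119, t121, t122, t123, t124, t125, t127, t128, t129, t130, t131, t133, t134, t135, t136, t137, t142, t143, t145, t146, t147, t148, t149, t151, t152, t153, t155, t157, t158, t159, t162, t163, t164, t165, t166, t169, t170, t171, t172, t173, t174, t175, t177, t178, t182, t183, t185, t187, t189, t191, t193, t194,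 t196, t197, t201, t202, t203, t205, t206, t209, t212, t213, t215, t217, t218, t219, t221, t222, t223, t225, t229, t230, t235, t237, t242, t243, t244, t245, t247, t250, t251, t253, t254, t256, t257, t258, t259, t261, t262, t265, t272, t273, t274, t275, t279, t289, t291, t301, t302, t303, t305, t309, t310, t311, t323, t325, t326, t327, t333, t335, t338, t341, t343, t351, t355, t361, t363, t371, t375, t377, t381, t386, t387, t388, t394, t404, t406, t410, t413, t415, t425, t441, t445, t451, t453, t465, t475, t481, t484, t485, t487, t489, t497, t502, t503, t505, t506, t507, t512, t513, t514, t517, t529, t553, t559, t575, t578, t591, t605, t625, t637, t652, t653, t655, t671, t676, t677, t686, t689, t703, t722, t729, t737, t753, t755, t775, t815, t841, t845, t867, t889, t903, t931, t961, t974, t979, t981, t1004, t1006, t1024, t1025, t1027, t1029, t1058, t1081, t1083, t1111, t1141,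 t1156, t1183, t1250, t1255, t1331, t1369, t1373, t1375, t1379, t1421, t1445, t1459, t1461, t1467, t1649, t1681, t1682, t1703, t1711, t1751, t1805, t1849, t1922, t2107, t2187, t2197, t2209, t2329, t2401, t2515, t2523, t2525, t2527, t2645, t2662, t2663, t2738, t2761, t2783, t2809, t2883, t2918, t3097, t3125, t3249, t3362, t3403, t3481, t3698, t3721, t4107, t4377, t4383, t4394, t4401, t4489, t4805, t4913, t5041, t5326, t5329, t5547, t5819, t5887, t6241, t6275, t6561, t6591, t6655, t6859, t6889, t7921, t8405, t9409, t9826, t10201, t10609, t11881, t12167, t12943, t13315, t13718, t14641, t15625, t16129, t16807, t17161, t18769, t19683, t20577, t22801, t24389, t26569, t28561, t29293, t29791, t31375, t37249, t38809, t50653, t53138, t63001, t66049, t68921, t78125, t79507, t79707, t83521, t117649, t126002, t126253, t130321, t148877, t161051, t226981, t237169, t253009, t279841, t315005,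 t371293, t390625, t493039, t707281, t823543, t912673, t923521, t1030301, t1295029, t1419857, t1771561, t1874161, t2128681, t2476099, t2825761, t3418801, t4330747, t4826809, t7091569, t15813251, t24137569, t47045881, t115501303, t705911761, t3969126001]
def tabsL : List (List TE) := [l0, l1, l2, l3, l4, l5, l6, l7, l8, l9, l10]
def tabs : ℕ → List TE := nthT tabsL
def full : List TE := [t2, t3, t4, t5, t6, t7, t8, t9, t10, t11, t12, t13, t14, t15, t16, t17, t18, t19, t20, t21, t22, t23, t24, t25, t26, t27, t28, t29, t30, t31, t32, t33, t34, t35, t36, t37, t38, t39, t40, t41, t42, t43, t44, t45, t46, t47, t48, t49, t50, t51, t52, t53, t54, t55, t56, t57, t58, t59, t61, t62, t63, t64, t65, t66, t67, t68, t69, t70, t71, t73, t74, t75, t76, t77, t78, t79, t80, t81, t82, t83, t85, t86, t87, t88, t89, t91, t92, t93, t94, t95, t97, t98, t99, t100, t101, t102, t103, t104, t105, t106,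 t107, t109, t110, t111, t114, t115, t116, t117, t118, t119, t121, t122, t123, t124, t125, t127, t128, t129, t130, t131, t133, t134, t135, t136, t137, t142, t143, t145, t146, t147, t148, t149, t151, t152, t153, t155, t157, t158, t159, t162, t163, t164, t165, t166, t169, t170, t171, t172, t173, t174, t175, t177, t178, t182, t183, t185, t187, t189, t191, t193, t194, t196, t197, t201, t202, t203, t205, t206, t209, t212, t213, t215, t217, t218, t219, t221, t222, t223, t225, t229, t230, t235, t237, t242, t243, t244, t245, t247, t250, t251, t253, t254, t256, t257, t258, t259, t261, t262, t265, t272, t273, t274, t275, t279, t289, t291, t301, t302, t303, t305, t309, t310, t311, t323, t325, t326, t327, t333, t335, t338, t341, t343, t351, t355, t361, t363, t371, t375, t377, t381, t386, t387, t388, t394, t404, t406, t410, t413, t415, t425, t441, t445, t451, t453, t465, t475, t481, t484,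 t485, t487, t489, t497, t502, t503, t505, t506, t507, t512, t513, t514, t517, t529, t553, t559, t575, t578, t591, t605, t625, t637, t652, t653, t655, t671, t676, t677, t686, t689, t703, t722, t729, t737, t753, t755, t775, t815, t841, t845, t867, t889, t903, t931, t961, t974, t979, t981, t1004, t1006, t1024, t1025, t1027, t1029, t1058, t1081, t1083, t1111, t1141, t1156, t1183, t1250, t1255, t1331, t1369, t1373, t1375, t1379, t1421, t1445, t1459, t1461, t1467, t1649, t1681, t1682, t1703, t1711, t1751, t1805, t1849, t1922, t2107, t2187, t2197, t2209, t2329, t2401, t2515, t2523, t2525, t2527, t2645, t2662, t2663, t2738, t2761, t2783, t2809, t2883, t2918, t3097, t3125, t3249, t3362, t3403, t3481, t3698, t3721, t4107, t4377, t4383, t4394, t4401, t4489, t4805, t4913, t5041, t5326, t5329, t5547, t5819, t5887, t6241, t6275, t6561, t6591, t6655, t6859, t6889, t7921, t8405, t9409,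 t9826, t10201, t10609, t11881, t12167, t12943, t13315, t13718, t14641, t15625, t16129, t16807, t17161, t18769, t19683, t20577, t22801, t24389, t26569, t28561, t29293, t29791, t31375, t37249, t38809, t50653, t53138, t63001, t66049, t68921, t78125, t79507, t79707, t83521, t117649, t126002, t126253, t130321, t148877, t161051, t226981, t237169, t253009, t279841, t315005, t371293, t390625, t493039, t707281, t823543, t912673, t923521, t1030301, t1295029, t1419857, t1771561, t1874161, t2128681, t2476099, t2825761, t3418801, t4330747, t4826809, t7091569, t15813251, t24137569, t47045881, t115501303, t705911761, t3969126001]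

theorem h1 : ∀ t ∈ full, TC 10 t := by decide +kernel
theorem h2 : ∀ j ∈ List.range (10 + 1), tabs j = full.filter fun t => t.dv.length < j := by
  intro j hj
  have : j < 11 := List.mem_range.1 hj
  interval_cases j <;> exact Eq.refl _
theorem h3 : (full.map fun t => t.o) = OL := by decide +kernel
theorem h4 : OL.Pairwise (· ≤ ·) := by decide +kernel
theorem tab : TabOK 10 tabs OL := h3 ▸ tabOK_of h1 h2 (h3 ▸ h4)
theorem ph1 : p1 OL 12 [] 10 1 = true := by decide +kernel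
theorem ord {g : ℕ} {L : List En} (A : Ax 10 g L) : ∀ y ∈ L, y.1 ∈ OL := ord_mem A ph1


end
end Cfsg.Agent.KC.T11
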